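import Cfsg.Agent.EqLemmas
import Mathlib

/-!
The arithmetic at the end of the abelian case.
-/

set_option autoImplicit false

namespace Cfsg.Agent.SuzukiRankOne.Kernel

/-- The degree equation has no small solution. -/
theorem no_small_degree {n k L J : ℕ} (hn : 2 ≤ n) (hL : 0 < L)
    (he : L * (2 ^ n - 2) = 2 * J * ((2 ^ n - 1) * (2 ^ k + 1))) (hJ : 12 * J ^ 2 < 2 ^ n) : False := by
  obtain ⟨m, rfl⟩ : ∃ m, n = m + 1 := ⟨n - 1, by omega⟩
  have hp : 2 ^ (m + 1) = 2 * 2 ^ m := by rw [pow_succ, mul_comm]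
  have hm2 : 2 ≤ 2 ^ m := by
    calc 2 = 2 ^ 1 := (pow_one 2).symm
      _ ≤ 2 ^ m := Nat.pow_le_pow_right (by norm_num) (by omega)
  have he' : L * (2 ^ m - 1) = J * ((2 ^ (m + 1) - 1) * (2 ^ k + 1)) := by
    have h2 : 2 * (L * (2 ^ m - 1)) = 2 * (J * ((2 ^ (m + 1) - 1) * (2 ^ k + 1))) := by
      rw [← mul_assoc 2 J, ← he, hp, show 2 * 2 ^ m - 2 = 2 * (2 ^ m - 1) by omega]; ring
    omega
  have hJ0 : 0 < J := by
    rcases Nat.eq_zero_or_pos J with rfl | h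
    · rw [zero_mul, mul_eq_zero] at he'
      omega
    · exact h
  have hcop : Nat.Coprime (2 ^ m - 1) (2 ^ (m + 1) - 1) := by
    rw [Nat.coprime_iff_gcd_eq_one, Nat.pow_sub_one_gcd_pow_sub_one]
    simp
  set g := Nat.gcd (2 ^ m - 1) (2 ^ k + 1) with hg
  have hdvd : 2 ^ m - 1 ∣ J * g := by
    have h1 : 2 ^ m - 1 ∣ (2 ^ (m + 1) - 1) * (J * (2 ^ k + 1)) :=
      ⟨L, by rw [mul_comm (2 ^ m - 1) L, he']; ring⟩
    have h2 := hcop.dvd_of_dvd_mul_left h1
    rw [hg, ← Nat.gcd_mul_left]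
    exact Nat.dvd_gcd (dvd_mul_left _ _) h2
  have hgm : g ∣ 2 ^ m - 1 := Nat.gcd_dvd_left _ _
  have hgk : g ∣ 2 ^ k + 1 := Nat.gcd_dvd_right _ _
  have hg2k : g ∣ 2 ^ (2 * k) - 1 := hgk.trans ⟨2 ^ k - 1, by
    rw [mul_comm 2 k, pow_mul, ← Nat.sq_sub_sq, one_pow]⟩
  have hge : g ∣ 2 ^ Nat.gcd m (2 * k) - 1 := by
    rw [← Nat.pow_sub_one_gcd_pow_sub_one]
    exact Nat.dvd_gcd hgm hg2k
  obtain ⟨l, hl⟩ : ∃ l, m = 2 * l ∨ m = 2 * l + 1 :=
    ⟨m / 2, by omega⟩
  have hgl : g ≤ 2 ^ l + 1 := by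
    by_cases hmd : m ∣ 2 * k
    · rcases hl with rfl | rfl
      · have hlk : l ∣ k := Nat.dvd_of_mul_dvd_mul_left (by norm_num) hmd
        have h1 : 2 ^ l - 1 ∣ 2 ^ k - 1 := Nat.pow_sub_one_dvd_pow_sub_one 2 hlk
        have hl1 : 1 ≤ l := by
          rcases Nat.eq_zero_or_pos l with rfl | h
          · simp at hm2
          · exact h
        have hc : Nat.Coprime g (2 ^ l - 1) := by
          refine Nat.coprime_of_dvd fun p hp hpg hpl => ?_
          have h3 := Nat.dvd_sub (hpg.trans hgk) (hpl.trans h1)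
          rw [show 2 ^ k + 1 - (2 ^ k - 1) = 2 by have := Nat.one_le_two_pow (n := k); omega] at h3
          obtain rfl := (Nat.prime_dvd_prime_iff_eq hp Nat.prime_two).1 h3
          have h4 : 2 ∣ 2 ^ l := dvd_pow_self 2 (by omega)
          have h5 := Nat.one_le_two_pow (n := l)
          omega
        have hfac : 2 ^ (2 * l) - 1 = (2 ^ l + 1) * (2 ^ l - 1) := by
          rw [mul_comm 2 l, pow_mul, ← Nat.sq_sub_sq, one_pow]
        exact Nat.le_of_dvd (by positivity) (hc.dvd_of_dvd_mul_right (hfac ▸ hgm))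
      · have hmk : 2 * l + 1 ∣ k := (Nat.Coprime.dvd_of_dvd_mul_left (by simp) hmd)
        have h1 : g ∣ 2 ^ k - 1 := hgm.trans (Nat.pow_sub_one_dvd_pow_sub_one 2 hmk)
        have h2 : g ∣ 2 := by
          have := Nat.dvd_sub hgk h1
          rwa [show 2 ^ k + 1 - (2 ^ k - 1) = 2 by have := Nat.one_le_two_pow (n := k); omega] at this
        have := Nat.le_of_dvd (by norm_num) h2
        have := Nat.one_le_two_pow (n := l)
        omega
    · have he : Nat.gcd m (2 * k) ≤ l := by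
        obtain ⟨c, hc⟩ := Nat.gcd_dvd_left m (2 * k)
        rcases c with _ | _ | c
        · omega
        · exact absurd (by rw [show m = Nat.gcd m (2 * k) by omega]; exact Nat.gcd_dvd_right _ _) hmd
        · have : Nat.gcd m (2 * k) * (c + 2) = m := hc.symm
          have : 2 * Nat.gcd m (2 * k) ≤ m := by nlinarith
          omega
      have hpos : 0 < 2 ^ Nat.gcd m (2 * k) - 1 := by
        have : 1 ≤ Nat.gcd m (2 * k) := Nat.gcd_pos_of_pos_left _ (by omega)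
        have : 2 ^ 1 ≤ 2 ^ Nat.gcd m (2 * k) := Nat.pow_le_pow_right (by norm_num) this
        omega
      have := Nat.le_of_dvd hpos hge
      have := Nat.pow_le_pow_right (show 0 < 2 by norm_num) he
      omega
  have hgpos : 0 < g := Nat.gcd_pos_of_pos_left _ (by omega)
  have hle : 2 ^ m - 1 ≤ J * (2 ^ l + 1) :=
    (Nat.le_of_dvd (Nat.mul_pos hJ0 hgpos) hdvd).trans (Nat.mul_le_mul_left _ hgl)
  have hle' : 2 ^ m ≤ J * (2 ^ l + 1) + 1 := by omega
  have hx : 1 ≤ 2 ^ l := Nat.one_le_two_pow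
  rcases hl with rfl | rfl
  · rw [pow_succ 2 (2 * l), mul_comm 2 l, pow_mul] at hJ
    rw [mul_comm 2 l, pow_mul] at hle' hm2
    generalize 2 ^ l = x at hle' hJ hx hm2
    have h1 : x ≤ J + 1 := by nlinarith
    have hx2 : 2 ≤ x := by nlinarith
    obtain ⟨y, rfl⟩ : ∃ y, x = y + 2 := ⟨x - 2, by omega⟩
    have h3 : (y + 1) ^ 2 ≤ J ^ 2 := Nat.pow_le_pow_left (by omega) 2
    nlinarith
  · rw [pow_succ 2 (2 * l + 1), pow_succ 2 (2 * l), mul_comm 2 l, pow_mul] at hJ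
    rw [pow_succ 2 (2 * l), mul_comm 2 l, pow_mul] at hle'
    generalize 2 ^ l = x at hle' hJ hx
    rcases Nat.lt_or_ge x 2 with h | h
    · obtain rfl : x = 1 := by omega
      nlinarith
    have h1 : x ≤ J := by nlinarith
    nlinarith

end Cfsg.Agent.SuzukiRankOne.Kernel
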