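import Cfsg.Agent.Lib.SuzukiRankOne.Kernel.Linear
import Cfsg.Agent.Lib.SuzukiRankOne.Kernel.Arith
import Cfsg.Agent.S1127
import Cfsg.Agent.S1133

/-!
An abelian 2-group `Q` is elementary abelian.

* `Ctx.exists_pivot` : an involution `s₀` with `C_D(s₀) = C_D(t)`
* `Ctx.abelian_sq_eq_one`
-/

set_option autoImplicit false
set_option linter.unusedSectionVars false

namespace Cfsg.Agent.SuzukiRankOne.Kernel

open MulAction Cfsg Cfsg.Agent Cfsg.Agent.RankOne
open scoped ComplexConjugate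

variable {G Ω : Type*} [Group G] [Fintype G] [MulAction G Ω] {a : Ω} {t : G} {Q : Subgroup G}

local notation "DD" => (stabilizer G a ⊓ stabilizer G (t • a) : Subgroup G)
local notation "II" => Cfsg.involutionsIn (stabilizer G a : Set G)

namespace Ctx

variable (C : Ctx G Ω a t Q)
include C

theorem exists_pivot : ∃ s ∈ II, DD ⊓ Subgroup.centralizer {t} = DD ⊓ Subgroup.centralizer {s} := by
  obtain ⟨⟨s, r⟩, ⟨hs, hr, he⟩, -⟩ := Setup.existsUnique_pair C.setup
  exact ⟨s, hs, (S1127.result C.setup).1 s r hs hr he⟩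

/-- In an abelian 2-group `Q`, an element of `D` centralising the involutions is trivial. -/
theorem eq_one_of_cent (h2Q : IsPGroup 2 Q) (hcomm : ∀ x ∈ Q, ∀ y ∈ Q, x * y = y * x) {e : G}
    (he : e ∈ DD) (hz : ∀ z ∈ C.zz, e * z = z * e) : e = 1 := by
  have key : ∀ n : ℕ, ∀ y ∈ Q, y ^ 2 ^ n = 1 → e * y = y * e := by
    intro n
    induction n with
    | zero =>
      intro y _ hy
      rw [pow_zero, pow_one] at hy
      simp [hy]
    | succ n ih =>
      intro y hy hy2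
      have h1 : e * (y * y) = y * y * e :=
        ih _ (mul_mem hy hy) (by rw [← pow_two, ← pow_mul, mul_comm 2, ← pow_succ]; exact hy2)
      set y' := e * y * e⁻¹ with hy'
      have hy'Q : y' ∈ Q := C.setup.conj_mem e he.1 y hy
      have h2 : y' * y' = y * y := by
        calc y' * y' = e * (y * y) * e⁻¹ := by rw [hy']; group
          _ = y * y := by rw [h1, mul_inv_cancel_right]
      set δ := y⁻¹ * y' with hδ
      have hδQ : δ ∈ Q := mul_mem (inv_mem hy) hy'Q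
      have hδ2 : δ * δ = 1 := by
        calc δ * δ = y⁻¹ * (y' * y⁻¹) * y' := by rw [hδ]; group
          _ = y⁻¹ * (y⁻¹ * y') * y' := by rw [hcomm _ hy'Q _ (inv_mem hy)]
          _ = (y * y)⁻¹ * (y' * y') := by group
          _ = 1 := by rw [h2, inv_mul_cancel]
      have hδe := hz δ (C.mem_zz_of hδQ hδ2)
      have hpow : ∀ j : ℕ, e ^ j * y * (e ^ j)⁻¹ = y * δ ^ j := by
        intro j
        induction j with
        | zero => simp
        | succ j ihj =>
          calc e ^ (j + 1) * y * (e ^ (j + 1))⁻¹ = e * (e ^ j * y * (e ^ j)⁻¹) * e⁻¹ := by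
                rw [pow_succ']; group
            _ = (e * y * e⁻¹) * (e * δ ^ j * e⁻¹) := by rw [ihj]; group
            _ = y * δ * δ ^ j := by
                rw [show e * δ ^ j * e⁻¹ = δ ^ j by
                  rw [(Commute.pow_right (show Commute e δ from hδe) j).eq, mul_inv_cancel_right],
                  ← hy', show y' = y * δ by rw [hδ, mul_inv_cancel_left]]
            _ = y * δ ^ (j + 1) := by rw [pow_succ', mul_assoc]
      have h3 := hpow (orderOf e)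
      rw [pow_orderOf_eq_one, one_mul, inv_one, mul_one] at h3
      obtain ⟨i, hi⟩ := C.setup.odd_card.of_dvd_nat (Subgroup.orderOf_dvd_natCard _ he)
      rw [hi, pow_succ, pow_mul, pow_two, hδ2, one_pow, one_mul] at h3
      have hδ1 : δ = 1 := mul_left_cancel (a := y) (by rw [← h3, mul_one])
      rw [hδ, inv_mul_eq_one, hy'] at hδ1
      exact (mul_inv_eq_iff_eq_mul.1 hδ1.symm)
  haveI := C.faithful
  refine FaithfulSMul.eq_of_smul_eq_smul (α := Ω) fun b => ?_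
  rw [one_smul]
  rcases eq_or_ne b a with rfl | hb
  · exact he.1
  obtain ⟨x, hx, rfl⟩ := Setup.exists_smul_eq C.setup hb
  obtain ⟨n, hn⟩ := h2Q ⟨x, hx⟩
  rw [← mul_smul, key n x hx (by simpa using congrArg Subtype.val hn), mul_smul,
    show e • t • a = t • a from he.2]

/-- An abelian 2-group `Q` is elementary abelian. -/
theorem abelian_sq_eq_one (h2Q : IsPGroup 2 Q) (hcomm : ∀ x ∈ Q, ∀ y ∈ Q, x * y = y * x) :
    ∀ x ∈ Q, x * x = 1 := by
  classical
  haveI := C.faithful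
  by_contra hcon
  push Not at hcon
  obtain ⟨x, hx, hx2⟩ := hcon
  obtain ⟨s, hs, hV⟩ := C.exists_pivot
  set V := DD ⊓ Subgroup.centralizer {t} with hVdef
  have hVD : V ≤ DD := inf_le_left
  have hVs : ∀ {d : G}, d ∈ DD → (d ∈ V ↔ s * d = d * s) := by
    intro d hd
    rw [hV, Subgroup.mem_inf, Subgroup.mem_centralizer_iff]
    simp [hd]
  -- `V` is commutative
  have hVcomm : ∀ u ∈ V, ∀ u' ∈ V, u * u' = u' * u := by
    obtain ⟨v, -, hv⟩ := S1133.result C.setup C.two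
    have hbot : DD ⊓ Subgroup.centralizer {t} ⊓
        Subgroup.centralizer (Cfsg.invertedBy (stabilizer G a ⊓ stabilizer G (t • a)) t) = ⊥ := by
      rw [(S1127.result C.setup).2, Subgroup.eq_bot_iff_forall]
      intro e he
      refine C.eq_one_of_cent h2Q hcomm he.1 fun z hz => ?_
      rcases C.mem_zz_iff.1 hz with rfl | hzI
      · simp
      · exact (Subgroup.mem_centralizer_iff.1 he.2 z hzI).symm
    rw [hbot, bot_sup_eq] at hv
    intro u hu u' hu'
    rw [hVdef, ← hv, ← Subgroup.zpowers_eq_closure, Subgroup.mem_zpowers_iff] at hu hu'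
    obtain ⟨i, rfl⟩ := hu
    obtain ⟨j, rfl⟩ := hu'
    exact (Commute.zpow_zpow (Commute.refl v) i j).eq
  have hVcard : Nat.card V = C.vv := by rw [hV, C.centD_eq_vv hs]
  -- `s` is a square
  obtain ⟨w, hw, hws⟩ : ∃ w ∈ Q, w * w = s := by
    have key : ∀ n : ℕ, ∀ y ∈ Q, y ^ 2 ^ n = 1 → y * y ≠ 1 → ∃ w ∈ Q, w * w ∈ II := by
      intro n
      induction n with
      | zero => intro y _ hy hne; rw [pow_zero, pow_one] at hy; simp [hy] at hne
      | succ n ih =>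
        intro y hy hy2 hne
        by_cases h4 : y * y * (y * y) = 1
        · exact ⟨y, hy, C.setup.le (mul_mem hy hy), hne, h4⟩
        · exact ih _ (mul_mem hy hy) (by rw [← pow_two, ← pow_mul, mul_comm 2, ← pow_succ]; exact hy2) h4
    obtain ⟨n, hn⟩ := h2Q ⟨x, hx⟩
    obtain ⟨w, hw, hwI⟩ := key n x hx (by simpa using congrArg Subtype.val hn) hx2
    obtain ⟨k, hk, e⟩ := Setup.exists_conj_kk C.setup hwI hs
    exact ⟨k⁻¹ * w * k, Setup.conj_mem_inv C.setup hk.1.1 hw, by rw [← e]; group⟩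
  have hsQ := C.ii_mem hs
  -- a character of order at least four
  let _ : CommGroup Q :=
    { (inferInstance : Group Q) with mul_comm := fun a b => Subtype.ext (hcomm a a.2 b b.2) }
  haveI : NeZero (Monoid.exponent Q) := ⟨Monoid.exponent_ne_zero_of_finite⟩
  obtain ⟨φ, hφ⟩ := CommGroup.exists_apply_ne_one_of_hasEnoughRootsOfUnity Q ℂ
    (a := ⟨s, hsQ⟩) (fun e => hs.2.1 (congrArg Subtype.val e))
  have hφs : φ ⟨s, hsQ⟩ = -1 := by
    have h1 : φ ⟨s, hsQ⟩ * φ ⟨s, hsQ⟩ = 1 := by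
      rw [← map_mul, show (⟨s, hsQ⟩ : Q) * ⟨s, hsQ⟩ = 1 from Subtype.ext hs.2.2, map_one]
    have h2 : ((φ ⟨s, hsQ⟩ : ℂˣ) : ℂ) ^ 2 = 1 := by rw [pow_two, ← Units.val_mul, h1, Units.val_one]
    rcases sq_eq_one_iff.1 h2 with e | e
    · exact absurd (Units.ext e) hφ
    · exact Units.ext e
  haveI : Fintype V := Fintype.ofFinite _
  let ψ : Q →* ℂˣ := ∏ v : V, φ.comp (C.cjQ ⟨v, (hVD v.2).1⟩)
  have hψapply : ∀ y : Q, ψ y = ∏ v : V, φ (C.cjQ ⟨v, (hVD v.2).1⟩ y) := fun y => by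
    simp [ψ, MonoidHom.finsetProd_apply]
  have hψV : ∀ d : ↥DD, (d : G) ∈ V → ∀ y : Q, ψ (C.cjQ (C.dq d) y) = ψ y := by
    intro d hd y
    rw [hψapply, hψapply]
    refine Fintype.prod_equiv (Equiv.mulLeft (⟨d, hd⟩ : V)) _ _ fun v => ?_
    congr 1
    refine Subtype.ext ?_
    simp only [cjQ_apply, dq, Equiv.coe_mulLeft, Subgroup.coe_mul]
    group
  have hψs : ψ ⟨s, hsQ⟩ = -1 := by
    rw [hψapply, Finset.prod_congr rfl (g := fun _ => (-1 : ℂˣ)) fun v _ => ?_, Finset.prod_const,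
      Finset.card_univ, ← Nat.card_eq_fintype_card]
    · exact (C.setup.odd_card.of_dvd_nat (Subgroup.card_dvd_of_le hVD)).neg_one_pow
    · rw [← hφs]
      congr 1
      refine Subtype.ext ?_
      rw [cjQ_apply]
      show (v : G)⁻¹ * s * v = s
      rw [mul_assoc, (hVs (hVD v.2)).1 v.2, inv_mul_cancel_left]
  have hμ1 : ψ * ψ ≠ 1 := fun e => by
    have := DFunLike.congr_fun e ⟨w, hw⟩
    rw [MonoidHom.mul_apply, ← map_mul, show (⟨w, hw⟩ : Q) * ⟨w, hw⟩ = ⟨s, hsQ⟩ from Subtype.ext hws,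
      hψs, MonoidHom.one_apply] at this
    have := congrArg Units.val this
    norm_num at this
  -- the three characters
  let ch : Fin 3 → (Q →* ℂˣ) := ![ψ, ψ⁻¹, ψ * ψ]
  have hchV : ∀ i, ∀ d : ↥DD, (d : G) ∈ V → ∀ y : Q, ch i (C.cjQ (C.dq d) y) = ch i y := by
    intro i d hd y
    fin_cases i <;> simp [ch, hψV d hd y]
  have hμfix : ∀ d : ↥DD, (∀ y, (ψ * ψ) (C.cjQ (C.dq d) y) = (ψ * ψ) y) → (d : G) ∈ V := by
    intro d hd
    obtain ⟨k, hk, v, hvD, hvs, hdk⟩ := C.exists_kk_mul hs d.2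
    by_contra hdV
    have hk1 : k ≠ 1 := fun e => hdV (by rw [hdk, e, mul_one]; exact (hVs hvD).2 hvs)
    refine hμ1 (C.eq_one_of_kk_fix (k := ⟨k, C.kk_le hk⟩) hk hk1 fun y => ?_)
    have h1 : ∀ y', (ψ * ψ) (C.cjQ (C.dq ⟨v, hvD⟩) y') = (ψ * ψ) y' := fun y' => by
      simp [hψV ⟨v, hvD⟩ ((hVs hvD).2 hvs) y']
    obtain ⟨y', rfl⟩ := (C.cjQ_bijective (C.dq ⟨v, hvD⟩)).2 y
    rw [h1, ← hd y', show C.cjQ (C.dq d) y' = (C.cjQ (C.dq ⟨k, C.kk_le hk⟩)) (C.cjQ (C.dq ⟨v, hvD⟩) y')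
      from Subtype.ext (by simp only [cjQ_apply, dq, hdk]; group)]
  have hval : ∀ d : ↥DD, ∀ y : Q, y * y = 1 → (ψ * ψ) (C.cjQ (C.dq d) y) = 1 := fun d y hy => by
    rw [MonoidHom.mul_apply, ← map_mul, ← map_mul, hy, map_one, map_one]
  have hne : ∀ i j, i ≠ j → ∀ d : ↥DD, ∃ y, ch i (C.cjQ (C.dq d) y) ≠ ch j y := by
    intro i j hij d
    by_contra hcon
    push Not at hcon
    have hsy : (⟨s, hsQ⟩ : Q) * ⟨s, hsQ⟩ = 1 := Subtype.ext hs.2.2
    have hsd : C.cjQ (C.dq d) (⟨s, hsQ⟩ : Q) * C.cjQ (C.dq d) ⟨s, hsQ⟩ = 1 := by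
      rw [← map_mul, hsy, map_one]
    have hμs : (ψ * ψ) ⟨s, hsQ⟩ = 1 := by rw [MonoidHom.mul_apply, hψs]; simp
    -- conjugate to the inverse
    have hinv : ∀ d' : ↥DD, (∀ y, ψ (C.cjQ (C.dq d') y) = ψ⁻¹ y) → False := by
      intro d' hd'
      have h2 : ∀ y, ψ (C.cjQ (C.dq (d' * d')) y) = ψ y := fun y => by
        rw [show C.cjQ (C.dq (d' * d')) y = C.cjQ (C.dq d') (C.cjQ (C.dq d') y)
          from Subtype.ext (by simp only [cjQ_apply, dq, Subgroup.coe_mul]; group),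
          hd', MonoidHom.inv_apply, hd', MonoidHom.inv_apply, inv_inv]
      have h3 : ((d' : G) * d') ∈ V := hμfix (d' * d') fun y => by simp [h2 y]
      obtain ⟨m, hm, -⟩ := Setup.exists_pow_sq C.setup d'.2
      have h4 : (d' : G) ∈ V := hm ▸ pow_mem h3 m
      refine hμ1 (MonoidHom.ext fun y => ?_)
      have h5 := hd' y
      rw [hψV d' h4 y, MonoidHom.inv_apply] at h5
      rw [MonoidHom.mul_apply, MonoidHom.one_apply]
      conv_lhs => arg 2; rw [h5]
      exact mul_inv_cancel _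
    obtain ⟨ys, hys⟩ := (C.cjQ_bijective (C.dq d)).2 ⟨s, hsQ⟩
    have hys2 : ys * ys = 1 := (C.cjQ_bijective (C.dq d)).1 (by rw [map_mul, hys, hsy, map_one])
    have hne1 : (-1 : ℂˣ) ≠ 1 := fun e => by
      have := congrArg Units.val e
      norm_num at this
    have hneg : (-1 : ℂˣ)⁻¹ = -1 := by simp
    fin_cases i <;> fin_cases j
    · exact hij rfl
    · exact hinv d hcon
    · have this : ψ (C.cjQ (C.dq d) ys) = (ψ * ψ) ys := hcon ys
      rw [hys, hψs, MonoidHom.mul_apply, ← map_mul, hys2, map_one] at this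
      exact hne1 this
    · refine hinv d fun y => ?_
      have this : (ψ (C.cjQ (C.dq d) y))⁻¹ = ψ y := hcon y
      rw [MonoidHom.inv_apply, ← this, inv_inv]
    · exact hij rfl
    · have this : (ψ (C.cjQ (C.dq d) ys))⁻¹ = (ψ * ψ) ys := hcon ys
      rw [hys, hψs, MonoidHom.mul_apply, ← map_mul, hys2, map_one, hneg] at this
      exact hne1 this
    · have this : (ψ * ψ) (C.cjQ (C.dq d) ⟨s, hsQ⟩) = ψ ⟨s, hsQ⟩ := hcon ⟨s, hsQ⟩
      rw [hψs, hval d _ hsy] at this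
      exact hne1 this.symm
    · have this : (ψ * ψ) (C.cjQ (C.dq d) ⟨s, hsQ⟩) = (ψ ⟨s, hsQ⟩)⁻¹ := hcon ⟨s, hsQ⟩
      rw [hψs, hval d _ hsy, hneg] at this
      exact hne1 this.symm
    · exact hij rfl
  -- functions on `Q V`
  set H := C.hh V
  haveI : Fintype H := Fintype.ofFinite _
  haveI : Fintype ↥DD := Fintype.ofFinite _
  haveI : Fintype (II : Set G) := Fintype.ofFinite _
  let ξ : Fin 3 → (V →* ℂˣ) → (H → ℂ) := fun i η => BSW.lin (C.extLin V (ch i) (hchV i) η)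
  have hres : ∀ i η, resQ (C.Q_le_hh V) (ξ i η) = BSW.lin (ch i) := fun i η => C.resQ_extLin
  have hirrres : ∀ i η, IsIrrCharacter Q (resQ (C.Q_le_hh V) (ξ i η)) := fun i η => by
    rw [hres]; exact BSW.isIrr_lin _
  have hconj : ∀ i j η η', ∀ d : ↥DD,
      resQ (C.Q_le_hh V) (ξ j η') ∘ C.cjQ (C.dq d) = resQ (C.Q_le_hh V) (ξ i η) →
        i = j ∧ (d : G) ∈ V := by
    intro i j η η' d e
    rw [hres, hres] at e
    have e' : ∀ y, ch j (C.cjQ (C.dq d) y) = ch i y := fun y => Units.ext (congrFun e y)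
    have hij : j = i := by
      by_contra hne'
      obtain ⟨y, hy⟩ := hne j i hne' d
      exact hy (e' y)
    subst hij
    refine ⟨rfl, hμfix d fun y => ?_⟩
    have := e' y
    fin_cases j <;> simp [ch] at this ⊢ <;>
      first
      | rw [this]
      | exact this
  have hsumtw : ∀ i j η η', ∑ d : ↥DD, classInner (ξ i η) (tw H (ξ j η') (d : G)) =
      if i = j ∧ η = η' then (Nat.card V : ℂ) else 0 := by
    intro i j η η'
    by_cases hij : i = j
    · subst hij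
      rw [C.sum_tw_same (C.Q_le_hh V) (BSW.isIrr_lin _) (BSW.isIrr_lin _) (hirrres _ _) (hirrres _ _)
        V hVD (C.le_hh hVD) fun d => ⟨fun e => (hconj _ _ _ _ d e).2, fun hd => ?_⟩,
        BSW.classInner_lin]
      · by_cases hη : η = η'
        · subst hη; simp
        · rw [if_neg fun e => hη (C.extLin_inj hVD e), if_neg fun e => hη e.2, mul_zero]
      · rw [hres, hres]
        funext y
        show ((ch i (C.cjQ (C.dq d) y) : ℂˣ) : ℂ) = _
        rw [hchV i d hd y]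
        rfl
    · rw [if_neg fun e => hij e.1, C.sum_tw_zero (C.Q_le_hh V) (C.Q_le_hh V) (BSW.isIrr_lin _)
        (BSW.isIrr_lin _) (hirrres _ _) (hirrres _ _) fun d e => hij (hconj _ _ _ _ d e).1]
  let g : Fin 3 → (V →* ℂˣ) → (H → ℂ) := fun i η => ξ i η - ξ 2 η
  have hgcls : ∀ i η, IsClassFunction H (g i η) := fun i η =>
    Char.isClassFunction_sub (Char.IsIrrCharacter.isClassFunction (BSW.isIrr_lin _))
      (Char.IsIrrCharacter.isClassFunction (BSW.isIrr_lin _))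
  have hsupp : ∀ i η, Supp a H (g i η) := fun i η => by
    refine ⟨hgcls i η, fun z b hb hzb => ?_⟩
    obtain ⟨y, hy, hyD⟩ := C.exists_conj_DD (C.hh_le V z.2) hb hzb
    have hyH : y ∈ H := C.Q_le_hh V hy
    have hd : y⁻¹ * (z : G) * y ∈ H := mul_mem (mul_mem (inv_mem hyH) z.2) hyH
    have hdV : y⁻¹ * (z : G) * y ∈ V := by
      have h1 := (C.mem_hh (g := ⟨_, C.hh_le V hd⟩)).1 hd
      rwa [(C.parts_eq (g := ⟨_, C.hh_le V hd⟩) (one_mem Q) hyD (one_mul _).symm).2] at h1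
    have hcl := hgcls i η ⟨_, hd⟩ ⟨y, hyH⟩
    rw [show (⟨y, hyH⟩ : H) * ⟨_, hd⟩ * (⟨y, hyH⟩ : H)⁻¹ = z from Subtype.ext (by simp; group)] at hcl
    rw [hcl]
    have hpure : ∀ i, ξ i η ⟨_, hd⟩ = ((η ⟨_, hdV⟩ : ℂˣ) : ℂ) := fun i => by
      show ((C.extLin V (ch i) (hchV i) η ⟨_, hd⟩ : ℂˣ) : ℂ) = _
      rw [C.extLin_apply ⟨_, hd⟩ (one_mem Q) hyD hdV (one_mul _).symm,
        show (⟨(1 : G), one_mem Q⟩ : Q) = 1 from rfl, map_one, one_mul]
    simp [g, hpure]
  have hgc : ∀ i η, IsGeneralizedCharacter G (indFun H (g i η)) := fun i η =>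
    Char.IsGeneralizedCharacter.indFun (Char.IsGeneralizedCharacter.sub
      (Char.isGeneralizedCharacter_of_isCharacter (Char.IsIrrCharacter.isCharacter (BSW.isIrr_lin _)))
      (Char.isGeneralizedCharacter_of_isCharacter (Char.IsIrrCharacter.isCharacter (BSW.isIrr_lin _))))
  have hfac : ((Nat.card Q : ℂ) / Nat.card H) = (Nat.card V : ℂ)⁻¹ := by
    rw [C.card_hh hVD, Nat.cast_mul, div_mul_eq_div_div, div_self (Nat.cast_ne_zero.2 Nat.card_pos.ne'),
      one_div]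
  have hinner : ∀ i j η η', i ≠ 2 → j ≠ 2 →
      classInner (indFun H (g i η)) (indFun H (g j η')) =
        (if η = η' then 1 else 0) * ((if i = j then 1 else 0) + 1) := by
    intro i j η η' hi hj
    rw [C.inner_ind (C.Q_le_hh V) (C.hh_le V) (hsupp i η) (hgcls j η'), hfac]
    show (Nat.card V : ℂ)⁻¹ * ∑ d : ↥DD, classInner (g i η) (tw H (g j η') (d : G)) = _
    simp only [g, tw_sub, Char.classInner_sub_left, Char.classInner_sub_right, Finset.sum_sub_distrib,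
      hsumtw]
    simp only [Ne.symm hj, hi, false_and, if_false, true_and]
    have : (Nat.card V : ℂ) ≠ 0 := Nat.cast_ne_zero.2 Nat.card_pos.ne'
    by_cases hη : η = η' <;> by_cases hij : i = j <;> simp [hη, hij] <;> field_simp <;> ring
  have hσ : ∀ i η, i ≠ 2 → indFun H (g i η) s = ((-(C.qq : ℝ) : ℝ) : ℂ) := by
    intro i η hi
    rw [C.ind_apply_ii (C.Q_le_hh V) (C.hh_le V) (hgcls i η) hs, hfac, hVcard,
      inv_mul_cancel₀ (Nat.cast_ne_zero.2 C.vv_pos.ne'), one_mul]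
    have hterm : ∀ z : (II : Set G), extendByZero H (g i η) (z : G) =
        (((ch i).comp (Subgroup.inclusion C.zz_le) ⟨z, C.ii_zz z.2⟩ : ℂˣ) : ℂ) - 1 := by
      intro z
      rw [C.ext_Q (C.Q_le_hh V) (g i η) ⟨z, C.ii_mem z.2⟩]
      show resQ (C.Q_le_hh V) (ξ i η) _ - resQ (C.Q_le_hh V) (ξ 2 η) _ = _
      rw [hres, hres]
      congr 1
      show (((ψ * ψ) ⟨z, C.ii_mem z.2⟩ : ℂˣ) : ℂ) = 1
      rw [MonoidHom.mul_apply, ← map_mul, show (⟨(z : G), C.ii_mem z.2⟩ : Q) * ⟨z, C.ii_mem z.2⟩ = 1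
        from Subtype.ext z.2.2.2, map_one, Units.val_one]
    rw [Finset.sum_congr rfl fun z _ => hterm z, Finset.sum_sub_distrib,
      C.sum_ii_hom _ fun e => ?_, Finset.sum_const, Finset.card_univ, nsmul_eq_mul, mul_one,
      ← Nat.card_eq_fintype_card]
    · rw [qq]; push_cast; ring
    · have h1 := DFunLike.congr_fun e ⟨s, C.ii_zz hs⟩
      have hne1 : (-1 : ℂˣ) ≠ 1 := fun e => by
        have := congrArg Units.val e
        norm_num at this
      fin_cases i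
      · exact hne1 (hψs.symm.trans h1)
      · have h2 : (ψ ⟨s, hsQ⟩)⁻¹ = 1 := h1
        rw [hψs, inv_eq_one] at h2
        exact hne1 h2
      · exact hi rfl
  -- the pairs
  have h01 : (0 : Fin 3) ≠ 2 := by decide
  have h11 : (1 : Fin 3) ≠ 2 := by decide
  have hpair : ∀ (i : Fin 3) η, i ≠ 2 → ∃ A B : IrrCharacter G, A ≠ B ∧
      indFun H (g i η) = (A : G → ℂ) - (B : G → ℂ) ∧ dg A = dg B ∧
      |C.ww s A| = (C.qq : ℝ) / 2 ∧ |C.ww s B| = (C.qq : ℝ) / 2 := by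
    intro i η hi
    obtain ⟨A, B, hAB, e, hd, h1, h2⟩ := C.pair_of_norm_two (hsupp i η) (C.hh_le V) (hgc i η)
      (by rw [hinner i i η η hi hi, if_pos rfl, if_pos rfl]; norm_num) hs (hσ i η hi)
    have hq : (4 : ℝ) ≤ C.qq := by exact_mod_cast C.four_le_qq.1
    have h3 : C.ww s A = -C.ww s B := by
      rcases sq_eq_sq_iff_eq_or_eq_neg.1 h2 with e' | e'
      · rw [e', sub_self] at h1; linarith
      · exact e'
    have hB : C.ww s B = (C.qq : ℝ) / 2 := by linarith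
    refine ⟨A, B, hAB, e, hd, ?_, ?_⟩
    · rw [h3, abs_neg, hB, abs_of_pos (by linarith)]
    · rw [hB, abs_of_pos (by linarith)]
  choose A₀ B₀ hA₀ using fun η => hpair 0 η h01
  choose A₁ B₁ hA₁ using fun η => hpair 1 η h11
  have hthree : ∀ η, ∃ S : Finset (IrrCharacter G), S.card = 3 ∧
      S ⊆ {A₀ η, B₀ η, A₁ η, B₁ η} := by
    intro η
    have h := hinner 0 1 η η h01 h11
    rw [if_pos rfl, (hA₀ η).2.1, (hA₁ η).2.1, if_neg (by decide)] at h
    norm_num at h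
    rcases pair_common (hA₀ η).1 (hA₁ η).1 h with ⟨e1, e2⟩ | ⟨e1, e2⟩
    · refine ⟨{A₀ η, B₀ η, B₁ η}, Finset.card_eq_three.2 ⟨_, _, _, (hA₀ η).1, ?_, e2, rfl⟩,
        by intro x; simp; tauto⟩
      exact e1 ▸ (hA₁ η).1
    · refine ⟨{A₀ η, B₀ η, A₁ η}, Finset.card_eq_three.2 ⟨_, _, _, (hA₀ η).1, e2, ?_, rfl⟩,
        by intro x; simp; tauto⟩
      exact e1 ▸ (hA₁ η).1.symm
  choose S hS3 hSsub using hthree
  have hdisj : ∀ η η', η ≠ η' → Disjoint (S η) (S η') := by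
    intro η η' hne'
    refine Disjoint.mono (hSsub η) (hSsub η') ?_
    have h : ∀ i j : Fin 3, i ≠ 2 → j ≠ 2 →
        classInner (indFun H (g i η)) (indFun H (g j η')) = 0 := fun i j hi hj => by
      rw [hinner i j η η' hi hj, if_neg hne', zero_mul]
    have h00 := h 0 0 h01 h01; rw [(hA₀ η).2.1, (hA₀ η').2.1] at h00
    have h01' := h 0 1 h01 h11; rw [(hA₀ η).2.1, (hA₁ η').2.1] at h01'
    have h10 := h 1 0 h11 h01; rw [(hA₁ η).2.1, (hA₀ η').2.1] at h10
    have h11' := h 1 1 h11 h11; rw [(hA₁ η).2.1, (hA₁ η').2.1] at h11'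
    have p00 := pair_disjoint (hA₀ η).1 (hA₀ η').1 h00
    have p01 := pair_disjoint (hA₀ η).1 (hA₁ η').1 h01'
    have p10 := pair_disjoint (hA₁ η).1 (hA₀ η').1 h10
    have p11 := pair_disjoint (hA₁ η).1 (hA₁ η').1 h11'
    simp only [Finset.disjoint_insert_right, Finset.mem_insert, Finset.mem_singleton, not_or,
      Finset.disjoint_singleton_right]
    tauto
  -- every member is large
  haveI : Fintype (IrrCharacter G) := Fintype.ofFinite _
  let M : Finset (IrrCharacter G) := Finset.univ.filter fun χ => |C.ww s χ| = (C.qq : ℝ) / 2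
  haveI : Finite (V →* ℂˣ) := Nat.finite_of_card_ne_zero (by
    rw [BSW.card_dual V hVcomm]; exact Nat.card_pos.ne')
  haveI : Fintype (V →* ℂˣ) := Fintype.ofFinite _
  have hM : 3 * C.vv ≤ M.card := by
    calc 3 * C.vv = ∑ η : V →* ℂˣ, (S η).card := by
          rw [Finset.sum_congr rfl fun η _ => hS3 η, Finset.sum_const, Finset.card_univ,
            ← Nat.card_eq_fintype_card, BSW.card_dual V hVcomm, hVcard, smul_eq_mul, mul_comm]
      _ = (Finset.univ.biUnion S).card := (Finset.card_biUnion fun η _ η' _ h => hdisj η η' h).symm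
      _ ≤ M.card := by
          refine Finset.card_le_card fun χ hχ => ?_
          obtain ⟨η, -, hη⟩ := Finset.mem_biUnion.1 hχ
          have := hSsub η hη
          simp only [Finset.mem_insert, Finset.mem_singleton] at this
          refine Finset.mem_filter.2 ⟨Finset.mem_univ _, ?_⟩
          rcases this with rfl | rfl | rfl | rfl
          · exact (hA₀ η).2.2.2.1
          · exact (hA₀ η).2.2.2.2
          · exact (hA₁ η).2.2.2.1
          · exact (hA₁ η).2.2.2.2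
  obtain ⟨-, n, hn, hqn⟩ := C.four_le_qq
  obtain ⟨k, hk⟩ := IsPGroup.iff_card.1 (h2Q : IsPGroup 2 Q)
  -- `c χ(1)` is an even integer
  have hJ : ∀ χ ∈ M, ∃ J : ℕ, C.cc * dg χ = 2 * (J : ℝ) := by
    intro χ hχ
    have hw := (Finset.mem_filter.1 hχ).2
    obtain ⟨q2, hq2⟩ := C.qq_even
    have hq2' : (C.qq : ℝ) / 2 = ((q2 : ℤ) : ℝ) := by rw [hq2]; push_cast; ring
    obtain ⟨e, he⟩ : ∃ e : ℤ, C.cc * dg χ = 2 * (e : ℝ) := by
      rcases abs_choice (C.ww s χ) with h | h <;> rw [h, hq2'] at hw <;> simp only [ww] at hw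
      · exact ⟨sv s (χ : G → ℂ) - (q2 : ℤ), by push_cast at hw ⊢; linarith⟩
      · exact ⟨sv s (χ : G → ℂ) + (q2 : ℤ), by push_cast at hw ⊢; linarith⟩
    have hpos : 0 < C.cc * dg χ := mul_pos C.cc_pos (dg_pos χ)
    have he0 : (0 : ℤ) ≤ e := by
      have : (0 : ℝ) < (e : ℝ) := by linarith
      exact_mod_cast this.le
    exact ⟨e.toNat, by rw [he]; congr 1; exact_mod_cast (Int.toNat_of_nonneg he0).symm⟩
  choose! J hJ' using hJ
  obtain ⟨χ₀, hχ₀, hmin⟩ := M.exists_min_image J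
    (Finset.card_pos.1 (by have := C.vv_pos; omega))
  have hbound : ((3 * C.vv : ℕ) : ℝ) * (2 * (J χ₀ : ℝ)) ^ 2 < (((C.qq - 1) * C.vv : ℕ) : ℝ) := by
    rw [← C.card_DD]
    refine lt_of_le_of_lt ?_ C.sum_jj_sq_lt
    calc ((3 * C.vv : ℕ) : ℝ) * (2 * (J χ₀ : ℝ)) ^ 2
        ≤ (M.card : ℝ) * (2 * (J χ₀ : ℝ)) ^ 2 :=
          mul_le_mul_of_nonneg_right (by exact_mod_cast hM) (sq_nonneg _)
      _ = ∑ χ ∈ M, (2 * (J χ₀ : ℝ)) ^ 2 := by rw [Finset.sum_const, nsmul_eq_mul]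
      _ ≤ ∑ χ ∈ M, (C.cc * dg χ) ^ 2 := Finset.sum_le_sum fun χ hχ => by
          rw [hJ' χ hχ]
          gcongr
          exact hmin χ hχ
      _ ≤ _ := Finset.sum_le_sum_of_subset_of_nonneg (Finset.subset_univ _) fun _ _ _ => sq_nonneg _
  have hnat : 3 * C.vv * (2 * J χ₀) ^ 2 < (C.qq - 1) * C.vv := by exact_mod_cast hbound
  have h12 : 12 * J χ₀ ^ 2 < 2 ^ n := by
    have h1 : (12 * J χ₀ ^ 2) * C.vv < (C.qq - 1) * C.vv :=
      lt_of_eq_of_lt (by ring) hnat
    have h2 := Nat.lt_of_mul_lt_mul_right h1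
    omega
  refine no_small_degree (k := k) (L := charDegree (χ₀ : G → ℂ)) hn ?_ ?_ h12
  · exact Nat.cast_pos.1 (show (0 : ℝ) < (charDegree (χ₀ : G → ℂ) : ℝ) from dg_pos χ₀)
  · have h := hJ' χ₀ hχ₀
    rw [cc, dg, div_mul_eq_mul_div, div_eq_iff (ne_of_gt (mul_pos (by
      have : (4 : ℝ) ≤ C.qq := by exact_mod_cast C.four_le_qq.1
      linarith) (by positivity)))] at h
    rw [← hqn, ← hk]
    have hq4 := C.four_le_qq.1
    apply Nat.cast_injective (R := ℝ)
    push_cast [Nat.cast_sub (show 2 ≤ C.qq by omega), Nat.cast_sub (show 1 ≤ C.qq by omega)]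
    linarith

end Ctx

end Cfsg.Agent.SuzukiRankOne.Kernel
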