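import Cfsg.Agent.Lib.SuzukiRankOne.Kernel.Choices
import Cfsg.Agent.Lib.SuzukiRankOne.Kernel.Abelian
import Cfsg.Agent.Lib.SuzukiRankOne.Interface

/-!
`kernelShape` : `Q` is a 2-group, elementary abelian if abelian.

One column of the character table bounds the weight of a family; this forces `|R| = 1`.
-/

set_option autoImplicit false
set_option linter.unusedSectionVars false

namespace Cfsg.Agent.SuzukiRankOne

open MulAction Cfsg Cfsg.Agent Cfsg.Agent.RankOne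
open scoped ComplexConjugate Classical

universe u v

namespace Kernel

variable {G : Type u} {Ω : Type v} [Group G] [Fintype G] [MulAction G Ω] {a : Ω} {t : G} {Q : Subgroup G}

local notation "DD" => (stabilizer G a ⊓ stabilizer G (t • a) : Subgroup G)
local notation "II" => Cfsg.involutionsIn (stabilizer G a : Set G)

theorem num_stab {q N r : ℝ} (hq : 8 ≤ q) (hN : 1 ≤ N) (hr : 2 * q - 1 ≤ r)
    (h : (3 / 4) * q ^ 2 * (N * (q - 2)) * (r - 1) ≤ 4 * (q * N * r) * (q - 1) + 3 * (q - 1) ^ 2) : False := by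
  have hr1 : 0 ≤ r - 1 := by linarith
  have h1 : 14 * r ≤ 15 * (r - 1) := by linarith
  have hq0 : 0 ≤ q * N := mul_nonneg (by linarith) (by linarith)
  have h2 : 4 * (q * N * r) * (q - 1) ≤ (30 / 7) * (q * N * (r - 1)) * (q - 1) := by
    nlinarith [mul_le_mul_of_nonneg_left h1 (mul_nonneg hq0 (show 0 ≤ q - 1 by linarith))]
  have h3 : (q - 1) ^ 2 * 2 ≤ (r - 1) * (q - 1) := by nlinarith
  have h4 : 8 ≤ q * N := by nlinarith
  have h5 : (q - 1) ^ 2 ≤ (1 / 16) * (q * N * (r - 1)) * (q - 1) := by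
    nlinarith [mul_le_mul_of_nonneg_right h4 (mul_nonneg hr1 (show 0 ≤ q - 1 by linarith))]
  have h6 : (3 / 4) * q * (q - 2) - (30 / 7 + 3 / 16) * (q - 1) > 0 := by nlinarith
  have h7 : 0 < q * N * (r - 1) := mul_pos (by nlinarith) (by linarith)
  nlinarith [mul_pos h7 h6]

theorem num_free {q M r : ℝ} (hq : 4 ≤ q) (hM : q ≤ M) (hr : 67 ≤ r)
    (h : (9 / 10) * q ^ 2 * M * (r - 1) ≤ 4 * (M * r) * (q - 1) + 9 * (q - 1) ^ 2) : False := by
  have hMr : 0 ≤ M * (r - 1) := mul_nonneg (by linarith) (by linarith)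
  have h1 : 66 * r ≤ 67 * (r - 1) := by linarith
  have h2 : 4 * (M * r) * (q - 1) ≤ (268 / 66) * (M * (r - 1)) * (q - 1) := by
    nlinarith [mul_le_mul_of_nonneg_left h1 (mul_nonneg (show (0 : ℝ) ≤ M by linarith) (show 0 ≤ q - 1 by linarith))]
  have h3 : (q - 1) * 66 ≤ M * (r - 1) := by nlinarith
  have h4 : 9 * (q - 1) ^ 2 ≤ (9 / 66) * (M * (r - 1)) * (q - 1) := by
    nlinarith [mul_le_mul_of_nonneg_right h3 (show 0 ≤ q - 1 by linarith)]
  have h6 : (9 / 10) * q ^ 2 - (268 / 66 + 9 / 66) * (q - 1) > 0 := by nlinarith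
  have h7 : 0 < M * (r - 1) := mul_pos (by linarith) (by linarith)
  nlinarith [mul_pos h7 h6]

namespace Ctx

variable (C : Ctx G Ω a t Q) (P : Split Q)
include C

/-- The non-principal characters of the odd part. -/
noncomputable def allR (_C : Ctx G Ω a t Q) (P : Split Q) [Fintype (IrrCharacter P.R)] :
    Finset (IrrCharacter P.R) :=
  Finset.univ.filter fun lam => (lam : P.R → ℂ) ≠ 1

theorem sum_sq_allR [Fintype (IrrCharacter P.R)] :
    ∑ lam ∈ C.allR P, (charDegree (lam : P.R → ℂ) : ℝ) ^ 2 = (P.r : ℝ) - 1 := by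
  have h := Char.sum_sq_degrees (G := P.R)
  rw [P.card_R, Finset.sum_congr rfl fun χ _ => by rw [CharApp.DegreeSets.apply_one χ.2]] at h
  have h' : ∑ χ : IrrCharacter P.R, (charDegree (χ : P.R → ℂ) : ℝ) ^ 2 = (P.r : ℝ) := by exact_mod_cast h
  let a₁ : IrrCharacter P.R := ⟨1, by rw [← BSW.lin_one]; exact BSW.isIrr_lin _⟩
  have h1 : charDegree (a₁ : P.R → ℂ) = 1 := by
    have h2 : (1 : ℂ) = (charDegree (a₁ : P.R → ℂ) : ℂ) := CharApp.DegreeSets.apply_one a₁.2
    exact_mod_cast h2.symm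
  rw [show C.allR P = Finset.univ.erase a₁ by
    ext lam; simp [allR, a₁, Subtype.ext_iff], Finset.sum_erase_eq_sub (Finset.mem_univ a₁), h', h1]
  norm_num

theorem fam_all [Fintype ↥DD] [Fintype (IrrCharacter P.R)] {s : G} {κ ν : ℝ}
    (h : ∀ lam : IrrCharacter P.R, (lam : P.R → ℂ) ≠ 1 → C.Fam P s (C.orb P lam) κ ν) :
    C.Fam P s (C.allR P) κ ν := by
  refine C.fam_build P _ ?_ ?_ fun lam hlam => h lam (Finset.mem_filter.1 hlam).2
  · intro lam hlam d
    refine Finset.mem_filter.2 ⟨Finset.mem_univ _, fun e => (Finset.mem_filter.1 hlam).2 (funext fun x => ?_)⟩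
    obtain ⟨y, rfl⟩ := (C.cjR_bijective P (C.dq d)).2 x
    exact congrFun e y
  · intro lam hlam
    exact Finset.mem_filter.2 ⟨Finset.mem_univ _, C.conjR_ne_one P (Finset.mem_filter.1 hlam).2⟩

theorem fam_mono {s : G} {Λ : Finset (IrrCharacter P.R)} {κ κ' ν ν' : ℝ} (hκ : κ' ≤ κ) (hν : ν' ≤ ν)
    (h : C.Fam P s Λ κ ν) : C.Fam P s Λ κ' ν' := by
  obtain ⟨X, Z, hF⟩ := h
  exact ⟨X, Z, ⟨hF.gen, hF.mem, hF.abs_ww,
    le_trans (mul_le_mul_of_nonneg_right (mul_le_mul_of_nonneg_right hκ (sq_nonneg _))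
      (Finset.sum_nonneg fun _ _ => sq_nonneg _)) hF.weight,
    le_trans (mul_le_mul_of_nonneg_right hν (Nat.cast_nonneg _)) hF.count⟩⟩

/-- The column of `s` bounds a family. -/
theorem column_bound {s : G} (hs : s ∈ II) [Fintype (IrrCharacter P.R)] {κ ν : ℝ}
    (hF : C.Fam P s (C.allR P) κ ν) (hκ : 0 ≤ κ) {τ : ℝ} (hτ0 : 0 < τ) (hτ1 : τ < 1) :
    (1 - τ) * (C.qq : ℝ) ^ 2 * κ * ((P.r : ℝ) - 1) ≤
      4 * (Nat.card Q : ℝ) * ((C.qq : ℝ) - 1) + (1 / τ - 1) * ((C.qq : ℝ) - 1) ^ 2 := by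
  haveI : Fintype (IrrCharacter G) := Fintype.ofFinite _
  obtain ⟨X, Z, hF⟩ := hF
  have hw := hF.weight
  rw [C.sum_sq_allR P, C.card_DD] at hw
  have hq : (4 : ℝ) ≤ C.qq := by exact_mod_cast C.four_le_qq.1
  push_cast [Nat.cast_sub (show 1 ≤ C.qq by have := C.four_le_qq.1; omega)] at hw
  have hv : (0 : ℝ) < C.vv := by exact_mod_cast C.vv_pos
  have h1 : (1 - τ) * ∑ Y ∈ Z, C.ww s Y ^ 2 ≤
      ∑ Y ∈ Z, (sv s (Y : G → ℂ) : ℝ) ^ 2 + (1 / τ - 1) / 4 * ∑ Y ∈ Z, (C.cc * dg Y) ^ 2 := by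
    rw [Finset.mul_sum, Finset.mul_sum, ← Finset.sum_add_distrib]
    refine Finset.sum_le_sum fun Y _ => ?_
    simp only [ww]
    generalize (sv s (Y : G → ℂ) : ℝ) = S
    generalize C.cc * dg Y = j
    have h := sq_nonneg (τ * (S - j / 2) + j / 2)
    have e : τ * (S ^ 2 + (1 / τ - 1) / 4 * j ^ 2 - (1 - τ) * (S - j / 2) ^ 2) =
        (τ * (S - j / 2) + j / 2) ^ 2 := by
      field_simp
      ring
    rw [← e] at h
    linarith [(mul_nonneg_iff_of_pos_left hτ0).1 h]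
  have h2 : ∑ Y ∈ Z, (sv s (Y : G → ℂ) : ℝ) ^ 2 ≤ (Nat.card Q : ℝ) * C.vv := by
    rw [← C.sum_sv_sq hs]
    exact Finset.sum_le_sum_of_subset_of_nonneg (Finset.subset_univ _) fun _ _ _ => sq_nonneg _
  have h3 : ∑ Y ∈ Z, (C.cc * dg Y) ^ 2 ≤ ((C.qq : ℝ) - 1) * C.vv := by
    refine le_trans (Finset.sum_le_sum_of_subset_of_nonneg (Finset.subset_univ _) fun _ _ _ => sq_nonneg _) ?_
    refine C.sum_jj_sq_lt.le.trans (le_of_eq ?_)
    rw [C.card_DD]
    push_cast [Nat.cast_sub (show 1 ≤ C.qq by have := C.four_le_qq.1; omega)]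
    ring
  have hτ' : 0 ≤ (1 / τ - 1) / 4 := by
    have : 1 ≤ 1 / τ := by rw [le_div_iff₀ hτ0]; linarith
    linarith
  have h4 := mul_le_mul_of_nonneg_left hw (show (0 : ℝ) ≤ 1 - τ by linarith)
  have h5 := mul_le_mul_of_nonneg_left (h1.trans (add_le_add h2 (mul_le_mul_of_nonneg_left h3 hτ')))
    (show (0 : ℝ) ≤ ((C.qq : ℝ) - 1) * C.vv from mul_nonneg (by linarith) hv.le)
  have h6 : (C.vv : ℝ) ^ 2 * ((1 - τ) * (C.qq : ℝ) ^ 2 * κ * ((P.r : ℝ) - 1)) ≤ (C.vv : ℝ) ^ 2 *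
      (4 * (Nat.card Q : ℝ) * ((C.qq : ℝ) - 1) + (1 / τ - 1) * ((C.qq : ℝ) - 1) ^ 2) := by
    linear_combination 4 * h4 + 4 * h5
  exact le_of_mul_le_mul_left h6 (pow_pos hv 2)

/-- With all stabilisers trivial `|D| > 32`. -/
theorem lt_card_DD [Fintype ↥DD] [Fintype (IrrCharacter P.R)] {s : G} {κ : ℝ}
    (hF : C.Fam P s (C.allR P) κ 4) (hcard : 2 * Nat.card ↥DD ≤ (C.allR P).card) :
    32 < Nat.card ↥DD := by
  haveI : Fintype (IrrCharacter G) := Fintype.ofFinite _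
  obtain ⟨X, Z, hF⟩ := hF
  have hc := hF.count
  have hj : ∀ Y ∈ Z, (4 : ℝ) ≤ (C.cc * dg Y) ^ 2 := by
    intro Y hY
    obtain ⟨m, hm⟩ := hF.abs_ww Y hY
    obtain ⟨k, hk⟩ := C.qq_even
    have hpos : 0 < C.cc * dg Y := mul_pos C.cc_pos (dg_pos Y)
    have hex : ∃ i : ℤ, C.cc * dg Y = 2 * (i : ℝ) := by
      rw [hk] at hm
      push_cast at hm
      simp only [ww] at hm
      rcases abs_eq (show (0 : ℝ) ≤ (m : ℝ) * (((k : ℝ) + k) * C.vv / 2) by positivity) |>.1 hm with e | e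
      · exact ⟨sv s (Y : G → ℂ) - (m * k * C.vv : ℕ), by push_cast; linarith⟩
      · exact ⟨sv s (Y : G → ℂ) + (m * k * C.vv : ℕ), by push_cast; linarith⟩
    obtain ⟨i, hi⟩ := hex
    rw [hi] at hpos ⊢
    have : (1 : ℤ) ≤ i := by
      have : (0 : ℤ) < i := by exact_mod_cast (show (0 : ℝ) < i by linarith)
      omega
    have : (1 : ℝ) ≤ (i : ℝ) := by exact_mod_cast this
    nlinarith
  have h1 : (Z.card : ℝ) * 4 < (Nat.card ↥DD : ℝ) := by
    refine lt_of_le_of_lt ?_ C.sum_jj_sq_lt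
    refine le_trans ?_ (Finset.sum_le_sum_of_subset_of_nonneg (Finset.subset_univ Z) fun _ _ _ => sq_nonneg _)
    have h := Finset.sum_le_sum hj
    rw [Finset.sum_const, nsmul_eq_mul] at h
    exact h
  have h2 : (2 * (Nat.card ↥DD) : ℝ) ≤ ((C.allR P).card : ℝ) := by exact_mod_cast hcard
  have hD : (0 : ℝ) < Nat.card ↥DD := Nat.cast_pos.2 Nat.card_pos
  have h3 : 8 ≤ (Z.card : ℝ) := le_of_mul_le_mul_left (by linarith) hD
  exact_mod_cast (show (32 : ℝ) < Nat.card ↥DD by linarith)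

/-- `|R| = 1`. -/
theorem r_eq_one (hIH : Below.{u, v} (Nat.card G)) : P.r = 1 := by
  by_contra hr
  haveI : Fintype ↥DD := Fintype.ofFinite _
  haveI : Fintype (IrrCharacter P.R) := Fintype.ofFinite _
  obtain ⟨s, hs, -⟩ := C.exists_pivot
  have hidx : 0 < (C.zS P).index := Nat.pos_of_ne_zero Subgroup.index_ne_zero_of_finite
  have hcQ : (Nat.card Q : ℝ) = (C.qq : ℝ) * (C.zS P).index * P.r := by
    rw [P.card_Q, ← C.index_zS_mul P]
    push_cast
    ring
  have hk : ((2 ^ P.k : ℕ) : ℝ) = (C.qq : ℝ) * (C.zS P).index := by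
    rw [← C.index_zS_mul P]
    push_cast
    ring
  have hq : (4 : ℝ) ≤ C.qq := by exact_mod_cast C.four_le_qq.1
  have hidx' : (1 : ℝ) ≤ (C.zS P).index := by exact_mod_cast hidx
  by_cases hall : ∀ lam : IrrCharacter P.R, (lam : P.R → ℂ) ≠ 1 → C.tt P (lam : P.R → ℂ) = ⊥
  · have hF := C.fam_all P (s := s) fun lam hlam => C.fam_free P hs hlam (hall lam hlam)
    obtain ⟨lam, hlam⟩ : (C.allR P).Nonempty := by
      rw [Finset.nonempty_iff_ne_empty]
      intro h
      have h' := C.sum_sq_allR P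
      rw [h, Finset.sum_empty, eq_comm, sub_eq_zero] at h'
      exact hr (by exact_mod_cast h')
    have hlam' := (Finset.mem_filter.1 hlam).2
    have hcard : 2 * Nat.card ↥DD ≤ (C.allR P).card := by
      have h := C.card_orb P hlam'
      rw [← C.card_tt, hall lam hlam', Subgroup.card_bot, mul_one] at h
      rw [← h]
      refine Finset.card_le_card fun mu hmu => Finset.mem_filter.2 ⟨Finset.mem_univ _, ?_⟩
      obtain ⟨e, he | he⟩ := (C.mem_orb P).1 hmu <;> subst he <;> intro h1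
      · exact hlam' (funext fun x => by
          obtain ⟨y, rfl⟩ := (C.cjR_bijective P (C.dq e)).2 x
          exact congrFun h1 y)
      · exact C.conjR_ne_one P hlam' (funext fun x => by
          obtain ⟨y, rfl⟩ := (C.cjR_bijective P (C.dq e)).2 x
          exact congrFun h1 y)
    have hD := C.lt_card_DD P hF hcard
    have hr67 : (67 : ℝ) ≤ P.r := by
      have h1 : ((C.allR P).card : ℝ) ≤ (P.r : ℝ) - 1 := by
        rw [← C.sum_sq_allR P, Finset.card_eq_sum_ones, Nat.cast_sum]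
        refine Finset.sum_le_sum fun χ _ => ?_
        have h2 : (1 : ℝ) ≤ charDegree (χ : P.R → ℂ) := by
          exact_mod_cast Nat.pos_of_ne_zero fun h0 => Char.IsIrrCharacter.apply_one_ne_zero χ.2 (by
            rw [CharApp.DegreeSets.apply_one χ.2, h0, Nat.cast_zero])
        push_cast
        nlinarith
      have h2 : ((66 : ℕ) : ℝ) ≤ ((C.allR P).card : ℝ) := by exact_mod_cast (show 66 ≤ (C.allR P).card by omega)
      push_cast at h2
      linarith
    have hb := C.column_bound P hs hF (Nat.cast_nonneg _) (τ := 1 / 10) (by norm_num) (by norm_num)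
    rw [hk, hcQ] at hb
    norm_num at hb
    exact num_free hq (show (C.qq : ℝ) ≤ (C.qq : ℝ) * (C.zS P).index by nlinarith) hr67 (by linarith)
  · push Not at hall
    obtain ⟨lam₀, hlam₀, hT₀⟩ := hall
    obtain ⟨n, -, hn3, hqn, -⟩ := (C.tt_cases P hIH lam₀.2 hlam₀).resolve_left hT₀
    have hq8 : (8 : ℝ) ≤ C.qq := by
      have : 2 ^ 3 ≤ C.qq := hqn ▸ Nat.pow_le_pow_right (by norm_num) hn3
      exact_mod_cast (show 8 ≤ C.qq by simpa using this)
    have hF := C.fam_all P (s := s) (κ := ((C.zS P).index : ℝ) * ((C.qq : ℝ) - 2)) (ν := 0) fun lam hlam => by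
      rcases C.tt_cases P hIH lam.2 hlam with h | ⟨n, hn, hn3, hq, hcard, s₀, hs₀, hone⟩
      · refine C.fam_mono P ?_ (by norm_num) (C.fam_free P hs hlam h)
        rw [hk]
        nlinarith
      · exact C.fam_stab P hs hlam hn hn3 hq hcard hs₀ hone
    have hr2 : 2 * (C.qq : ℝ) - 1 ≤ P.r := by
      have h := C.two_qq_le_r P hr
      have h1 : 1 ≤ C.qq := by have := C.four_le_qq.1; omega
      have h2 : ((2 * (C.qq - 1) + 1 : ℕ) : ℝ) ≤ (P.r : ℝ) := by exact_mod_cast h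
      push_cast [Nat.cast_sub h1] at h2
      linarith
    have hb := C.column_bound P hs hF (mul_nonneg (Nat.cast_nonneg _) (by linarith)) (τ := 1 / 4)
      (by norm_num) (by norm_num)
    rw [hcQ] at hb
    norm_num at hb
    exact num_stab hq8 hidx' hr2 (by linarith)

end Ctx

end Kernel

/-- The kernel is a 2-group, elementary abelian if abelian. -/
theorem kernelShape : KernelShape.{u, v} := by
  have key : ∀ m : ℕ, Kernel.Below.{u, v} m := by
    intro m
    induction m using Nat.strong_induction_on with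
    | _ m ih =>
      intro G Ω _ _ _ _ a t Q hS h2 hm
      haveI := Fintype.ofFinite G
      have C : Kernel.Ctx G Ω a t Q := ⟨hS, h2, inferInstance⟩
      obtain ⟨P⟩ := C.nonempty_split
      refine IsPGroup.of_card (n := P.k) ?_
      rw [P.card_Q, C.r_eq_one P (ih _ hm), mul_one]
  intro G Ω _ _ _ _ a t Q hS h2
  have hp : IsPGroup 2 Q := key (Nat.card G + 1) G Ω a t Q hS h2 (Nat.lt_succ_self _)
  refine ⟨hp, fun hcomm x hx => ?_⟩
  haveI := Fintype.ofFinite G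
  have C : Kernel.Ctx G Ω a t Q := ⟨hS, h2, inferInstance⟩
  haveI : IsMulCommutative Q := hcomm
  exact C.abelian_sq_eq_one hp (fun y hy z hz => congrArg Subtype.val (mul_comm' (⟨y, hy⟩ : Q) ⟨z, hz⟩)) x hx

end Cfsg.Agent.SuzukiRankOne
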