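import Cfsg.Agent.Lib.SuzukiRankOne.Kernel.Linear
import Cfsg.Agent.Lib.Coherence.Irr

/-!
Anchors: free characters of `Q` of one degree with the same sum over the involutions, and the
characters of `G` obtained by comparing a further free character with them.

* `Anch`, `Ctx.exists_anchors`
* `Ctx.exists_image` : the constituent attached to `θ`
* `Ctx.image_inj`
-/

set_option autoImplicit false
set_option linter.unusedSectionVars false

namespace Cfsg.Agent.SuzukiRankOne.Kernel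

open MulAction Cfsg Cfsg.Agent Cfsg.Agent.RankOne
open scoped ComplexConjugate Classical

variable {G Ω : Type*} [Group G] [Fintype G] [MulAction G Ω] {a : Ω} {t : G} {Q : Subgroup G}
variable {ι : Type*} [Fintype ι]

local notation "DD" => (stabilizer G a ⊓ stabilizer G (t • a) : Subgroup G)
local notation "II" => Cfsg.involutionsIn (stabilizer G a : Set G)

/-- Free characters, pairwise non-conjugate, of one degree, alike on the involutions. -/
structure IsFree (C : Ctx G Ω a t Q) (φ : ι → Q → ℂ) : Prop where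
  irr : ∀ i, IsIrrCharacter Q (φ i)
  free : ∀ i j, ∀ d : ↥DD, φ i ∘ C.cjQ (C.dq d) = φ j → i = j ∧ d = 1
  deg : ∀ i j, φ i 1 = φ j 1
  ii : ∀ (z : G) (hz : z ∈ II), ∀ i j, φ i ⟨z, C.ii_mem hz⟩ = φ j ⟨z, C.ii_mem hz⟩
  two : 2 ≤ Fintype.card ι

/-- The constituents of the anchors. -/
structure Anch (C : Ctx G Ω a t Q) (s : G) (φ : ι → Q → ℂ) where
  X : ι → IrrCharacter G
  eps : ℤ
  L : ℝ
  wX : ℝ
  eps_sq : eps * eps = 1
  L_pos : 0 < L
  inj : Function.Injective X
  dg_eq : ∀ i, dg (X i) = L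
  ww_eq : ∀ i, C.ww s (X i) = wX
  ind : ∀ i j, indFun Q (φ i - φ j) = (eps : ℂ) • (((X i : G → ℂ)) - (X j : G → ℂ))

/-- The constituent `Y` attached to `θ`, with its sign and shift. -/
def Img (C : Ctx G Ω a t Q) {s : G} {φ : ι → Q → ℂ} (An : Anch C s φ) (i₀ : ι) (n : ℕ)
    (σ : ℝ) (θ : Q → ℂ) (Y : IrrCharacter G) : Prop :=
  (∀ i, Y ≠ An.X i) ∧ IsGeneralizedCharacter G (indFun Q (θ - (n : ℂ) • φ i₀)) ∧
  ∃ δ u : ℤ, δ * δ = 1 ∧ (Fintype.card ι : ℤ) * u * u - 2 * n * u = 0 ∧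
    (δ : ℝ) * C.ww s Y = σ / 2 ∧ (δ : ℝ) * dg Y + (An.eps * ((Fintype.card ι : ℤ) * u - n) : ℤ) * An.L = 0 ∧
    mm (indFun Q (θ - (n : ℂ) • φ i₀)) Y = δ ∧
    (∀ i, mm (indFun Q (θ - (n : ℂ) • φ i₀)) (An.X i) = An.eps * (u - if i = i₀ then (n : ℤ) else 0)) ∧
    ∀ χ, mm (indFun Q (θ - (n : ℂ) • φ i₀)) χ ≠ 0 → χ = Y ∨ ∃ i, χ = An.X i

namespace Ctx

variable (C : Ctx G Ω a t Q)
include C

/-- The inner product of functions induced from `Q`. -/
theorem ind_inner_Q [Fintype Q] [Fintype ↥DD] {f g : Q → ℂ} (hf : IsClassFunction Q f) (h1 : f 1 = 0)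
    (hg : IsClassFunction Q g) :
    classInner (indFun Q f) (indFun Q g) = ∑ d : ↥DD, classInner f (g ∘ C.cjQ (C.dq d)) := by
  rw [C.inner_ind le_rfl C.setup.le (C.supp_Q hf h1) hg,
    div_self (Nat.cast_ne_zero.2 Nat.card_pos.ne'), one_mul]
  refine Finset.sum_congr rfl fun d _ => ?_
  congr 1
  funext x
  exact C.tw_coe le_rfl g d x

theorem twist_inner [Fintype Q] {θ θ' : Q → ℂ} (hθ : IsIrrCharacter Q θ) (hθ' : IsIrrCharacter Q θ')
    (d : ↥DD) : classInner θ (θ' ∘ C.cjQ (C.dq d)) =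
      if θ' ∘ C.cjQ (C.dq d) = θ then 1 else 0 := by
  rw [Char.classInner_irr hθ (C.isIrr_twist hθ' _)]
  simp [eq_comm]

theorem sum_twist_free [Fintype Q] [Fintype ↥DD] {φ : ι → Q → ℂ} (hφ : IsFree C φ) (i j : ι) :
    ∑ d : ↥DD, classInner (φ i) (φ j ∘ C.cjQ (C.dq d)) = if i = j then 1 else 0 := by
  rw [Finset.sum_eq_single (1 : ↥DD)]
  · rw [C.twist_inner (hφ.irr i) (hφ.irr j)]
    by_cases h : i = j
    · subst h
      rw [if_pos rfl, if_pos]
      funext x
      exact congrArg (φ i) (Subtype.ext (by simp [cjQ_apply]))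
    · rw [if_neg h, if_neg fun e => h (hφ.free j i 1 e).1.symm]
  · intro d _ hd
    rw [C.twist_inner (hφ.irr i) (hφ.irr j), if_neg fun e => hd (hφ.free j i d e).2]
  · exact fun h => absurd (Finset.mem_univ _) h

theorem exists_anchors [Fintype Q] [Fintype ↥DD] {φ : ι → Q → ℂ} (hφ : IsFree C φ) {s : G}
    (hs : s ∈ II) : Nonempty (Anch C s φ) := by
  haveI : Fintype (II : Set G) := Fintype.ofFinite _
  have hinjφ : Function.Injective φ := fun i j e => (hφ.free i j 1 (by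
    rw [← e]; funext x; exact congrArg (φ i) (Subtype.ext (by simp [cjQ_apply])))).1
  set S : Set (Q → ℂ) := Set.range φ with hS
  have hcls : ∀ α ∈ zspan S, IsClassFunction Q α := fun α hα =>
    Coherence.isGC_isClassFunction (Coherence.isGC_of_mem_zspan
      (by rintro _ ⟨i, rfl⟩; exact Coherence.isGC_of_irr (hφ.irr i)) hα)
  have htw : ∀ α ∈ zspan S, ∀ β ∈ zspan S,
      ∑ d : ↥DD, classInner α (β ∘ C.cjQ (C.dq d)) = classInner α β := by
    intro α hα β hβ
    induction hα using Submodule.span_induction with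
    | zero => simp [classInner]
    | add x y _ _ hx hy =>
      simp only [Char.classInner_add_left, Finset.sum_add_distrib, hx, hy]
    | smul c x _ hx => simp only [Coherence.classInner_zsmul_left, ← Finset.mul_sum, hx]
    | mem x hx =>
      obtain ⟨i, rfl⟩ := hx
      induction hβ using Submodule.span_induction with
      | zero => simp [classInner]
      | add x y _ _ hx hy =>
        rw [Char.classInner_add_right, ← hx, ← hy, ← Finset.sum_add_distrib]
        exact Finset.sum_congr rfl fun d _ => Char.classInner_add_right _ _ _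
      | smul c x _ hx =>
        rw [Coherence.classInner_zsmul_right, ← hx, Finset.mul_sum]
        exact Finset.sum_congr rfl fun d _ => Coherence.classInner_zsmul_right _ _ _
      | mem x hx =>
        obtain ⟨j, rfl⟩ := hx
        rw [C.sum_twist_free hφ, Char.classInner_irr (hφ.irr i) (hφ.irr j)]
        simp [hinjφ.eq_iff]
  have hτ : IsLinearIsometryOn (zspanOn S {1}ᶜ) (indFun Q) := by
    refine ⟨fun α _ β _ => Char.indFun_add Q α β, fun α _ n => ?_, fun α hα β hβ => ?_, fun α hα => ?_⟩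
    · rw [← Int.cast_smul_eq_zsmul ℂ, Char.indFun_smul, Int.cast_smul_eq_zsmul]
    · obtain ⟨hα', hα1⟩ := Coherence.mem_zspanOn_one.1 hα
      rw [C.ind_inner_Q (hcls α hα') hα1 (hcls β hβ.1), htw α hα' β hβ.1]
    · exact Char.IsGeneralizedCharacter.indFun (Coherence.isGC_of_mem_zspan
        (by rintro _ ⟨i, rfl⟩; exact Coherence.isGC_of_irr (hφ.irr i)) hα.1)
  obtain ⟨i₁, i₂, hne⟩ := Fintype.exists_pair_of_one_lt_card (α := ι) (by have := hφ.two; omega)
  obtain ⟨-, τ, hτ1, hτeq⟩ := Coherence.irr_uniform (S := S)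
    (by rintro _ ⟨i, rfl⟩; exact hφ.irr i) hτ
    (fun α hα => by
      rw [Char.indFun_one_apply, (Coherence.mem_zspanOn_one.1 hα).2, mul_zero])
    (Finset.univ.image φ) (by simp [hS])
    ⟨φ i₁, by simp, φ i₂, by simp, fun e => hne (hinjφ e)⟩
    (by simp only [Finset.mem_image, Finset.mem_univ, true_and]
        rintro _ ⟨i, rfl⟩ _ ⟨j, rfl⟩; exact hφ.deg i j)
  have hmem : ∀ i, φ i ∈ zspan (↑(Finset.univ.image φ) : Set (Q → ℂ)) := fun i =>
    Coherence.subset_zspan (by simp)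
  have hdiff : ∀ i j, φ i - φ j ∈ zspanOn (↑(Finset.univ.image φ) : Set (Q → ℂ)) {1}ᶜ := fun i j =>
    Coherence.mem_zspanOn_one.2 ⟨Coherence.zspan_sub (hmem i) (hmem j), by simp [hφ.deg i j]⟩
  have hdiff' : ∀ i j, indFun Q (φ i - φ j) = τ (φ i) - τ (φ j) := fun i j => by
    rw [← hτeq _ (hdiff i j), sub_eq_add_neg, hτ1.1 _ (hmem i) _ (Coherence.zspan_neg (hmem j)),
      Coherence.lin_neg hτ1 (hmem j), ← sub_eq_add_neg]
  have hsig : ∀ i, ∃ (χ : IrrCharacter G) (ε : ℤ), ε * ε = 1 ∧ τ (φ i) = (ε : ℂ) • (χ : G → ℂ) := by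
    intro i
    rcases Coherence.gc_norm_one (hτ1.2.2.2 _ (hmem i))
      ((hτ1.2.2.1 _ (hmem i) _ (hmem i)).trans (Char.classInner_irr_self (hφ.irr i))) with h | h
    · exact ⟨⟨_, h⟩, 1, one_mul 1, by simp⟩
    · exact ⟨⟨_, h⟩, -1, by norm_num, by simp⟩
  choose X ε hε hX using hsig
  have hdeg : ∀ i j, (ε i : ℝ) * dg (X i) = (ε j : ℝ) * dg (X j) := by
    intro i j
    have h := congrFun (hdiff' i j) 1
    rw [Char.indFun_one_apply, Pi.sub_apply, hφ.deg i j, sub_self, mul_zero, Pi.sub_apply, hX, hX,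
      Pi.smul_apply, Pi.smul_apply, dg_spec, dg_spec, smul_eq_mul, smul_eq_mul, eq_comm, sub_eq_zero] at h
    exact_mod_cast h
  have hεeq : ∀ i, ε i = ε i₁ := by
    intro i
    rcases Int.eq_one_or_neg_one_of_mul_eq_one (hε i) with h | h <;>
      rcases Int.eq_one_or_neg_one_of_mul_eq_one (hε i₁) with h' | h'
    · rw [h, h']
    · have := hdeg i i₁
      rw [h, h'] at this
      push_cast at this
      linarith [dg_pos (X i), dg_pos (X i₁)]
    · have := hdeg i i₁
      rw [h, h'] at this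
      push_cast at this
      linarith [dg_pos (X i), dg_pos (X i₁)]
    · rw [h, h']
  have hinj : Function.Injective X := by
    intro i j e
    by_contra hij
    have h := hτ1.2.2.1 _ (hmem i) _ (hmem j)
    rw [hX, hX, e, hεeq i, hεeq j, Char.classInner_smul_left, Char.classInner_smul_right,
      Char.classInner_irr_self (X j).2, Char.classInner_irr (hφ.irr i) (hφ.irr j),
      if_neg (fun e => hij (hinjφ e)), map_intCast, mul_one, ← Int.cast_mul, hε] at h
    norm_num at h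
  have hd : ∀ i, dg (X i) = dg (X i₁) := fun i => by
    have h := hdeg i i₁
    rw [hεeq i] at h
    refine mul_left_cancel₀ ?_ h
    intro h0
    have h1 := hε i₁
    rw [Int.cast_eq_zero] at h0
    rw [h0] at h1
    norm_num at h1
  have hind : ∀ i j, indFun Q (φ i - φ j) = (ε i₁ : ℂ) • ((X i : G → ℂ) - (X j : G → ℂ)) := fun i j => by
    rw [hdiff', hX, hX, hεeq i, hεeq j, smul_sub]
  have hw : ∀ i, C.ww s (X i) = C.ww s (X i₁) := by
    intro i
    have hval : indFun Q (φ i - φ i₁) s = 0 := by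
      rw [C.ind_apply_ii le_rfl C.setup.le (Char.isClassFunction_sub
        (Char.IsIrrCharacter.isClassFunction (hφ.irr i)) (Char.IsIrrCharacter.isClassFunction (hφ.irr i₁))) hs,
        Finset.sum_eq_zero fun z _ => ?_, mul_zero]
      rw [C.ext_Q le_rfl _ ⟨(z : G), C.ii_mem z.2⟩]
      show φ i ⟨(z : G), _⟩ - φ i₁ ⟨(z : G), _⟩ = 0
      rw [sub_eq_zero]
      exact hφ.ii z z.2 i i₁
    have h := congrFun (hind i i₁) s
    rw [hval, Pi.smul_apply, Pi.sub_apply, smul_eq_mul, eq_comm, mul_eq_zero, Int.cast_eq_zero] at h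
    rcases h with h | h
    · have h1 := hε i₁
      rw [h] at h1; norm_num at h1
    · rw [sub_eq_zero, sv_spec (Char.IsIrrCharacter.isCharacter (X i).2) hs.2.2,
        sv_spec (Char.IsIrrCharacter.isCharacter (X i₁).2) hs.2.2, Int.cast_inj] at h
      rw [ww, ww, h, hd i]
  exact ⟨⟨X, ε i₁, dg (X i₁), C.ww s (X i₁), hε i₁, dg_pos _, hinj, hd, hw, hind⟩⟩

/-- The constituent attached to a further free character. -/
theorem exists_image [Fintype Q] [Fintype ↥DD] {φ : ι → Q → ℂ} (hφ : IsFree C φ) {s : G}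
    (hs : s ∈ II) (An : Anch C s φ) (i₀ : ι) {θ : Q → ℂ} (hθ : IsIrrCharacter Q θ) {n : ℕ}
    (hn : 1 ≤ n) (hcard : 2 * n ≤ Fintype.card ι) (hdeg : θ 1 = (n : ℂ) * φ i₀ 1)
    (hfree : ∀ d : ↥DD, θ ∘ C.cjQ (C.dq d) = θ → d = 1)
    (hnc : ∀ i, ∀ d : ↥DD, φ i ∘ C.cjQ (C.dq d) ≠ θ ∧ θ ∘ C.cjQ (C.dq d) ≠ φ i)
    {σ : ℝ} (hσ : indFun Q (θ - (n : ℂ) • φ i₀) s = (σ : ℂ)) (hσ0 : σ ≠ 0) :
    ∃ Y, Img C An i₀ n σ θ Y ∧ (n : ℝ) * |An.wX| = |σ| / 2 := by
  haveI : Fintype (IrrCharacter G) := Fintype.ofFinite _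
  set f : Q → ℂ := θ - (n : ℂ) • φ i₀ with hf
  have hθc := Char.IsIrrCharacter.isClassFunction hθ
  have hfc : IsClassFunction Q f :=
    Char.isClassFunction_sub hθc (Char.isClassFunction_smul (Char.IsIrrCharacter.isClassFunction (hφ.irr i₀)) _)
  have hf1 : f 1 = 0 := by simp [hf, hdeg]
  set F := indFun Q f with hF
  have hgc : IsGeneralizedCharacter G F := by
    refine Char.IsGeneralizedCharacter.indFun (Char.IsGeneralizedCharacter.sub
      (Char.isGeneralizedCharacter_of_isCharacter (Char.IsIrrCharacter.isCharacter hθ)) ?_)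
    exact Char.isGeneralizedCharacter_of_isCharacter
      (Char.IsCharacter.natCast_smul (Char.IsIrrCharacter.isCharacter (hφ.irr i₀)) n)
  have hθφ : ∀ i, ∑ d : ↥DD, classInner θ (φ i ∘ C.cjQ (C.dq d)) = 0 := fun i =>
    Finset.sum_eq_zero fun d _ => by rw [C.twist_inner hθ (hφ.irr i), if_neg (hnc i d).1]
  have hφθ : ∀ i, ∑ d : ↥DD, classInner (φ i) (θ ∘ C.cjQ (C.dq d)) = 0 := fun i =>
    Finset.sum_eq_zero fun d _ => by rw [C.twist_inner (hφ.irr i) hθ, if_neg (hnc i d).2]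
  have hθθ : ∑ d : ↥DD, classInner θ (θ ∘ C.cjQ (C.dq d)) = 1 := by
    rw [Finset.sum_eq_single (1 : ↥DD)]
    · rw [C.twist_inner hθ hθ, if_pos]
      funext x
      exact congrArg θ (Subtype.ext (by simp [cjQ_apply]))
    · intro d _ hd
      rw [C.twist_inner hθ hθ, if_neg fun e => hd (hfree d e)]
    · exact fun h => absurd (Finset.mem_univ _) h
  have hcomp : ∀ (g g' : Q → ℂ) (d : ↥DD),
      (g - g') ∘ C.cjQ (C.dq d) = g ∘ C.cjQ (C.dq d) - g' ∘ C.cjQ (C.dq d) := fun _ _ _ => rfl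
  have hcomp' : ∀ (c : ℂ) (g : Q → ℂ) (d : ↥DD),
      (c • g) ∘ C.cjQ (C.dq d) = c • (g ∘ C.cjQ (C.dq d)) := fun _ _ _ => rfl
  have hnorm : classInner F F = ((1 + (n : ℤ) * n : ℤ) : ℂ) := by
    rw [hF, C.ind_inner_Q hfc hf1 hfc]
    simp only [hf, hcomp, hcomp', Char.classInner_sub_left, Char.classInner_sub_right,
      Char.classInner_smul_left, Char.classInner_smul_right, Finset.sum_sub_distrib, ← Finset.mul_sum,
      hθθ, hθφ, hφθ, C.sum_twist_free hφ, map_natCast]
    push_cast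
    ring
  -- coefficients on the anchors
  have hco : ∀ i, mm F (An.X i) = (mm F (An.X i₀) + An.eps * n) -
      An.eps * (if i = i₀ then (n : ℤ) else 0) := by
    intro i
    have h : classInner F (indFun Q (φ i - φ i₀)) =
        ((-(n : ℤ) * ((if i₀ = i then 1 else 0) - 1) : ℤ) : ℂ) := by
      rw [hF, C.ind_inner_Q hfc hf1 (Char.isClassFunction_sub
        (Char.IsIrrCharacter.isClassFunction (hφ.irr i)) (Char.IsIrrCharacter.isClassFunction (hφ.irr i₀)))]
      simp only [hf, hcomp, Char.classInner_sub_left, Char.classInner_sub_right,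
        Char.classInner_smul_left, Finset.sum_sub_distrib, ← Finset.mul_sum, hθφ, C.sum_twist_free hφ]
      split_ifs <;> push_cast <;> ring
    rw [An.ind, Char.classInner_smul_right, Char.classInner_sub_right, mm_spec hgc, mm_spec hgc,
      map_intCast, ← Int.cast_sub, ← Int.cast_mul, Int.cast_inj] at h
    have he := An.eps_sq
    have h' : mm F (An.X i) - mm F (An.X i₀) = -(An.eps * n) * ((if i₀ = i then 1 else 0) - 1) := by
      linear_combination An.eps * h - (mm F (An.X i) - mm F (An.X i₀)) * he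
    by_cases e : i = i₀
    · subst e; simp
    · rw [if_neg e]; rw [if_neg (Ne.symm e)] at h'; linarith
  set u : ℤ := An.eps * mm F (An.X i₀) + n with hu
  have hco' : ∀ i, mm F (An.X i) = An.eps * (u - if i = i₀ then (n : ℤ) else 0) := fun i => by
    rw [hco i, hu, mul_sub, mul_add, ← mul_assoc, An.eps_sq, one_mul]
  set m : ℤ := (Fintype.card ι : ℤ) with hm
  set T : Finset (IrrCharacter G) := Finset.univ.image An.X with hT
  have hsplit : ∀ g : IrrCharacter G → ℝ, (∑ χ, (mm F χ : ℝ) * g χ) =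
      (∑ i, (mm F (An.X i) : ℝ) * g (An.X i)) + ∑ χ ∈ Tᶜ, (mm F χ : ℝ) * g χ := fun g => by
    rw [← Finset.sum_add_sum_compl T, hT, Finset.sum_image fun i _ j _ e => An.inj e]
  have hsumco : ∑ i, (mm F (An.X i) : ℝ) = ((An.eps * (m * u - n) : ℤ) : ℝ) := by
    rw [← Int.cast_sum]
    congr 1
    simp only [hco', ← Finset.mul_sum, Finset.sum_sub_distrib, Finset.sum_ite_eq', Finset.mem_univ, if_true,
      Finset.sum_const, Finset.card_univ, hm]
    simp
  have hrest : ∑ χ ∈ Tᶜ, mm F χ * mm F χ = 1 - (m * u * u - 2 * n * u) := by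
    have h := mm_inner hgc hgc
    rw [hnorm, Int.cast_inj, ← Finset.sum_add_sum_compl T, hT,
      Finset.sum_image fun i _ j _ e => An.inj e, ← hT] at h
    have h2 : ∑ i, mm F (An.X i) * mm F (An.X i) = m * u * u - 2 * n * u + n * n := by
      have : ∀ i, mm F (An.X i) * mm F (An.X i) = u * u - (if i = i₀ then (n : ℤ) * (2 * u - n) else 0) := by
        intro i
        rw [hco', mul_mul_mul_comm, An.eps_sq, one_mul]
        split_ifs <;> ring
      rw [Finset.sum_congr rfl fun i _ => this i, Finset.sum_sub_distrib, Finset.sum_const,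
        Finset.card_univ, Finset.sum_ite_eq', if_pos (Finset.mem_univ _), hm]
      simp only [nsmul_eq_mul]
      ring
    rw [h2] at h
    linarith
  have hnonneg : 0 ≤ m * u * u - 2 * n * u := by
    have hm2 : 2 * (n : ℤ) ≤ m := by rw [hm]; exact_mod_cast hcard
    rcases le_or_gt u 0 with h | h
    · have h1 : 0 ≤ m * (u * u) := mul_nonneg (by omega) (mul_self_nonneg u)
      have h2 : (n : ℤ) * u ≤ 0 := mul_nonpos_of_nonneg_of_nonpos (by omega) h
      linarith
    · have : 0 ≤ u * (m * u - 2 * n) := mul_nonneg h.le (by nlinarith)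
      nlinarith
  have hsupp : Supp a Q f := C.supp_Q hfc hf1
  have hd := C.sum_mm_one hsupp hgc
  have hw := C.sum_mm_ww hsupp hgc hs hσ
  have hw2 := C.sum_mm_ww_sq hsupp C.setup.le hgc hs hσ
  rw [hsplit, Finset.sum_congr rfl fun i _ => by rw [An.dg_eq i], ← Finset.sum_mul, hsumco] at hd
  rw [hsplit, Finset.sum_congr rfl fun i _ => by rw [An.ww_eq i], ← Finset.sum_mul, hsumco] at hw
  rw [hsplit, Finset.sum_congr rfl fun i _ => by rw [An.ww_eq i, An.dg_eq i], ← Finset.sum_mul, hsumco] at hw2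
  obtain ⟨Y, hYT, hY⟩ : ∃ Y ∈ Tᶜ, mm F Y ≠ 0 := by
    by_contra hcon
    push Not at hcon
    rw [Finset.sum_eq_zero fun χ hχ => by rw [hcon χ hχ, Int.cast_zero, zero_mul], add_zero] at hd hw
    rw [(mul_eq_zero.1 hd).resolve_right An.L_pos.ne', zero_mul] at hw
    exact hσ0 hw.symm
  have hle := Finset.single_le_sum (f := fun χ => mm F χ * mm F χ) (fun χ _ => mul_self_nonneg _) hYT
  rw [hrest] at hle
  have hpos : 0 < mm F Y * mm F Y := mul_self_pos.2 hY
  have hδ : mm F Y * mm F Y = 1 := by omega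
  have hu0 : m * u * u - 2 * n * u = 0 := by omega
  have hother : ∀ χ ∈ Tᶜ, χ ≠ Y → mm F χ = 0 := by
    intro χ hχ hne
    have h1 := Finset.sum_le_sum_of_subset_of_nonneg (f := fun χ => mm F χ * mm F χ)
      (s := {Y, χ}) (t := Tᶜ) (by intro x hx; simp at hx; rcases hx with rfl | rfl <;> assumption)
      (fun χ _ _ => mul_self_nonneg _)
    rw [Finset.sum_pair hne.symm, hδ] at h1
    exact mul_self_eq_zero.1 (le_antisymm (by omega) (mul_self_nonneg _))
  have honly : ∀ g : IrrCharacter G → ℝ, ∑ χ ∈ Tᶜ, (mm F χ : ℝ) * g χ = (mm F Y : ℝ) * g Y := fun g =>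
    Finset.sum_eq_single_of_mem Y hYT fun χ hχ hne => by rw [hother χ hχ hne, Int.cast_zero, zero_mul]
  rw [honly] at hd hw hw2
  set δ : ℝ := (mm F Y : ℝ) with hδR
  set p : ℝ := ((An.eps * (m * u - n) : ℤ) : ℝ) with hp
  have hδ1 : δ * δ = 1 := by rw [hδR, ← Int.cast_mul, hδ, Int.cast_one]
  have hp2 : p * p = (n : ℝ) * n := by
    have h1 : (m * u - n) * (m * u - n) = (n : ℤ) * n := by linear_combination m * hu0
    have h2 : An.eps * (m * u - n) * (An.eps * (m * u - n)) = (n : ℤ) * n := by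
      rw [mul_mul_mul_comm, An.eps_sq, one_mul, h1]
    rw [hp, ← Int.cast_mul, h2]; push_cast; ring
  have hLY : dg Y = -δ * p * An.L := by linear_combination δ * hd - dg Y * hδ1
  have hp0 : p ≠ 0 := fun e => by rw [e, mul_zero] at hp2; nlinarith [show (1 : ℝ) ≤ n from by exact_mod_cast hn]
  have hδ0 : δ ≠ 0 := left_ne_zero_of_mul_eq_one hδ1
  have hsq : C.ww s Y ^ 2 = (p * An.wX) ^ 2 := by
    have h3 : p * (An.wX ^ 2 / An.L) + δ * (C.ww s Y ^ 2 / dg Y) = 0 := hw2
    rw [hLY] at h3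
    have hL := An.L_pos.ne'
    field_simp at h3
    linear_combination -h3
  have hhalf : δ * C.ww s Y = p * An.wX ∧ δ * C.ww s Y = σ / 2 := by
    have h4 : (δ * C.ww s Y) ^ 2 = (p * An.wX) ^ 2 := by rw [mul_pow, pow_two δ, hδ1, one_mul, hsq]
    rcases sq_eq_sq_iff_eq_or_eq_neg.1 h4 with e | e
    · exact ⟨e, by linarith⟩
    · exfalso; exact hσ0 (by linarith)
  refine ⟨Y, ⟨fun i e => Finset.mem_compl.1 hYT (e ▸ Finset.mem_image_of_mem _ (Finset.mem_univ i)), hgc,
    mm F Y, u, hδ, hu0, hhalf.2, by linarith, rfl, hco', fun χ hχ => ?_⟩, ?_⟩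
  · by_cases hχT : χ ∈ T
    · obtain ⟨i, -, e⟩ := Finset.mem_image.1 hχT
      exact Or.inr ⟨i, e.symm⟩
    · exact Or.inl (by by_contra hne; exact hχ (hother χ (Finset.mem_compl.2 hχT) hne))
  · have hpn : |p| = (n : ℝ) := by
      rw [← sq_eq_sq₀ (abs_nonneg p) (Nat.cast_nonneg n), sq_abs, pow_two, pow_two, hp2]
    have : |p * An.wX| = |σ| / 2 := by
      rw [← hhalf.1, hhalf.2, abs_div, abs_two]
    rwa [abs_mul, hpn] at this

/-- Non-conjugate characters have different constituents. -/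
theorem image_inj [Fintype Q] [Fintype ↥DD] {φ : ι → Q → ℂ} (hφ : IsFree C φ) {s : G}
    (An : Anch C s φ) {i₀ : ι} {θ θ' : Q → ℂ} (hθ : IsIrrCharacter Q θ) (hθ' : IsIrrCharacter Q θ')
    {n : ℕ} {σ : ℝ} (hσ0 : σ ≠ 0) (hdeg : θ 1 = (n : ℂ) * φ i₀ 1)
    (hne : ∀ d : ↥DD, θ' ∘ C.cjQ (C.dq d) ≠ θ) (hnc : ∀ d : ↥DD, φ i₀ ∘ C.cjQ (C.dq d) ≠ θ)
    (hnc' : ∀ d : ↥DD, θ' ∘ C.cjQ (C.dq d) ≠ φ i₀) {Y : IrrCharacter G}
    (hY : Img C An i₀ n σ θ Y) (hY' : Img C An i₀ n σ θ' Y) : False := by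
  haveI : Fintype (IrrCharacter G) := Fintype.ofFinite _
  obtain ⟨hYX, hgc, δ, u, hδ, hu0, hw, hd, hmY, hmX, hsupp⟩ := hY
  obtain ⟨-, hgc', δ', u', hδ', hu0', hw', hd', hmY', hmX', hsupp'⟩ := hY'
  have hδδ : δ = δ' := by
    have : C.ww s Y ≠ 0 := fun e => hσ0 (by rw [e, mul_zero] at hw; linarith)
    exact_mod_cast mul_right_cancel₀ this (hw.trans hw'.symm)
  have huu : u = u' := by
    subst hδδ
    have h1 : An.eps * ((Fintype.card ι : ℤ) * u - n) = An.eps * ((Fintype.card ι : ℤ) * u' - n) := by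
      exact_mod_cast mul_right_cancel₀ An.L_pos.ne'
        (show ((An.eps * ((Fintype.card ι : ℤ) * u - n) : ℤ) : ℝ) * An.L =
          ((An.eps * ((Fintype.card ι : ℤ) * u' - n) : ℤ) : ℝ) * An.L by linarith)
    have h2 := mul_left_cancel₀ (left_ne_zero_of_mul_eq_one An.eps_sq) h1
    exact mul_left_cancel₀ (show (Fintype.card ι : ℤ) ≠ 0 by have := hφ.two; omega) (by linarith)
  subst hδδ huu
  set f : Q → ℂ := θ - (n : ℂ) • φ i₀
  set f' : Q → ℂ := θ' - (n : ℂ) • φ i₀
  have hfc : IsClassFunction Q f := Char.isClassFunction_sub (Char.IsIrrCharacter.isClassFunction hθ)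
    (Char.isClassFunction_smul (Char.IsIrrCharacter.isClassFunction (hφ.irr i₀)) _)
  have hfc' : IsClassFunction Q f' := Char.isClassFunction_sub (Char.IsIrrCharacter.isClassFunction hθ')
    (Char.isClassFunction_smul (Char.IsIrrCharacter.isClassFunction (hφ.irr i₀)) _)
  have h1 : classInner (indFun Q f) (indFun Q f') = ((n * n : ℤ) : ℂ) := by
    rw [C.ind_inner_Q hfc (by simp [f, hdeg]) hfc']
    have hz : ∀ d : ↥DD, classInner θ (θ' ∘ C.cjQ (C.dq d)) = 0 ∧
        classInner θ (φ i₀ ∘ C.cjQ (C.dq d)) = 0 ∧ classInner (φ i₀) (θ' ∘ C.cjQ (C.dq d)) = 0 :=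
      fun d => ⟨by rw [C.twist_inner hθ hθ', if_neg (hne d)],
        by rw [C.twist_inner hθ (hφ.irr i₀), if_neg (hnc d)],
        by rw [C.twist_inner (hφ.irr i₀) hθ', if_neg (hnc' d)]⟩
    have hcomp : ∀ d : ↥DD, f' ∘ C.cjQ (C.dq d) =
        θ' ∘ C.cjQ (C.dq d) - (n : ℂ) • (φ i₀ ∘ C.cjQ (C.dq d)) := fun _ => rfl
    simp only [f, hcomp, Char.classInner_sub_left, Char.classInner_sub_right, Char.classInner_smul_left,
      Char.classInner_smul_right, Finset.sum_sub_distrib, ← Finset.mul_sum, (hz _).1, (hz _).2.1,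
      (hz _).2.2, Finset.sum_const_zero, C.sum_twist_free hφ, map_natCast]
    push_cast
    simp
  rw [mm_inner hgc hgc', Int.cast_inj] at h1
  set T : Finset (IrrCharacter G) := Finset.univ.image An.X with hT
  have hYT : Y ∈ Tᶜ := Finset.mem_compl.2 fun h => by
    obtain ⟨i, -, e⟩ := Finset.mem_image.1 h; exact hYX i e.symm
  rw [← Finset.sum_add_sum_compl T, hT, Finset.sum_image fun i _ j _ e => An.inj e, ← hT,
    Finset.sum_eq_single_of_mem Y hYT fun χ hχ hne' => by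
      rcases eq_or_ne (mm (indFun Q f) χ) 0 with e | e
      · rw [e, zero_mul]
      rcases hsupp χ e with e' | ⟨i, e'⟩
      · exact absurd e' hne'
      · exact absurd (e' ▸ Finset.mem_image_of_mem _ (Finset.mem_univ i)) (Finset.mem_compl.1 hχ),
    hmY, hmY'] at h1
  have h2 : ∑ i, mm (indFun Q f) (An.X i) * mm (indFun Q f') (An.X i) =
      (Fintype.card ι : ℤ) * u * u - 2 * n * u + n * n := by
    have : ∀ i, mm (indFun Q f) (An.X i) * mm (indFun Q f') (An.X i) =
        u * u - (if i = i₀ then (n : ℤ) * (2 * u - n) else 0) := by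
      intro i
      rw [hmX, hmX', mul_mul_mul_comm, An.eps_sq, one_mul]
      split_ifs <;> ring
    rw [Finset.sum_congr rfl fun i _ => this i, Finset.sum_sub_distrib, Finset.sum_const,
      Finset.card_univ, Finset.sum_ite_eq', if_pos (Finset.mem_univ _)]
    simp only [nsmul_eq_mul]
    ring
  rw [h2, hu0] at h1
  omega

end Ctx

end Cfsg.Agent.SuzukiRankOne.Kernel
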