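import Cfsg.Agent.Lib.SuzukiRankOne.Kernel.Fam
import Cfsg.Agent.Lib.SuzukiRankOne.Kernel.Anchor

/-!
The family of the orbits of `λ` and its conjugate, from anchors `μ ⊗ λ`, `μ ⊗ λ̄`.

* `Ctx.card_orb`, `Ctx.sum_orb`
* `Ctx.fam_anchor`
-/

set_option autoImplicit false
set_option linter.unusedSectionVars false

namespace Cfsg.Agent.SuzukiRankOne.Kernel

open MulAction Cfsg Cfsg.Agent Cfsg.Agent.RankOne
open scoped ComplexConjugate Classical

universe u v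

variable {G : Type u} {Ω : Type v} [Group G] [Fintype G] [MulAction G Ω] {a : Ω} {t : G} {Q : Subgroup G}

local notation "DD" => (stabilizer G a ⊓ stabilizer G (t • a) : Subgroup G)
local notation "II" => Cfsg.involutionsIn (stabilizer G a : Set G)

namespace Ctx

variable (C : Ctx G Ω a t Q) (P : Split Q)
include C

theorem stabR_conj (lam : IrrCharacter P.R) :
    C.stabR P (C.conjR P lam : P.R → ℂ) = C.stabR P (lam : P.R → ℂ) := by
  ext d
  exact ⟨fun h x => (starRingEnd ℂ).injective (h x), fun h x => congrArg (starRingEnd ℂ) (h x)⟩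

theorem mem_stabR_twR {lam : IrrCharacter P.R} {d : ↥DD} :
    d ∈ C.stabR P (lam : P.R → ℂ) ↔ C.twR P d lam = lam :=
  (C.mem_stabR P).trans ⟨fun h => Subtype.ext h, fun h => congrArg Subtype.val h⟩

theorem card_twR_image [Fintype ↥DD] (lam : IrrCharacter P.R) :
    (Finset.univ.image fun d : ↥DD => C.twR P d lam).card * Nat.card (C.stabR P (lam : P.R → ℂ)) =
      Nat.card ↥DD := by
  rw [Nat.card_eq_fintype_card (α := ↥DD), ← Finset.card_univ,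
    Finset.card_eq_sum_card_image (fun d : ↥DD => C.twR P d lam) Finset.univ,
    Finset.sum_congr rfl (g := fun _ => Nat.card (C.stabR P (lam : P.R → ℂ))) fun y hy => ?_,
    Finset.sum_const, smul_eq_mul]
  obtain ⟨d₀, -, rfl⟩ := Finset.mem_image.1 hy
  rw [← Fintype.card_subtype, ← Nat.card_eq_fintype_card]
  refine Nat.card_congr
    { toFun := fun e => ⟨d₀⁻¹ * e.1, (C.mem_stabR_twR P).2 (C.twR_inj P d₀ (by
        rw [← C.twR_mul, mul_inv_cancel_left, e.2]))⟩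
      invFun := fun e => ⟨d₀ * e.1, by rw [C.twR_mul, (C.mem_stabR_twR P).1 e.2]⟩
      left_inv := fun e => Subtype.ext (mul_inv_cancel_left _ _)
      right_inv := fun e => Subtype.ext (inv_mul_cancel_left _ _) }

theorem twR_ne_conj {lam : IrrCharacter P.R} (hne : (lam : P.R → ℂ) ≠ 1) (d : ↥DD) :
    C.twR P d lam ≠ C.conjR P lam := fun e => C.conj_ne P lam.2 hne d (congrArg Subtype.val e)

theorem conjR_ne_one {lam : IrrCharacter P.R} (hne : (lam : P.R → ℂ) ≠ 1) :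
    (C.conjR P lam : P.R → ℂ) ≠ 1 := fun e => hne (funext fun x => (starRingEnd ℂ).injective (by
  have := congrFun e x
  simpa [conjR] using this))

theorem orb_disjoint [Fintype ↥DD] {lam : IrrCharacter P.R} (hne : (lam : P.R → ℂ) ≠ 1) :
    Disjoint (Finset.univ.image fun d : ↥DD => C.twR P d lam)
      (Finset.univ.image fun d : ↥DD => C.twR P d (C.conjR P lam)) := by
  rw [Finset.disjoint_left]
  intro mu h1 h2
  obtain ⟨d, -, rfl⟩ := Finset.mem_image.1 h1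
  obtain ⟨e, -, he⟩ := Finset.mem_image.1 h2
  refine C.twR_ne_conj P hne (e⁻¹ * d) ?_
  rw [C.twR_mul, ← he, ← C.twR_mul, inv_mul_cancel, C.twR_one]

theorem card_orb [Fintype ↥DD] {lam : IrrCharacter P.R} (hne : (lam : P.R → ℂ) ≠ 1) :
    (C.orb P lam).card * Nat.card (C.stabR P (lam : P.R → ℂ)) = 2 * Nat.card ↥DD := by
  rw [orb, Finset.card_union_of_disjoint (C.orb_disjoint P hne), add_mul, C.card_twR_image P lam,
    ← C.stabR_conj P lam, C.card_twR_image P (C.conjR P lam), two_mul]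

theorem twR_degree (d : ↥DD) (lam : IrrCharacter P.R) :
    (C.twR P d lam : P.R → ℂ) 1 = (lam : P.R → ℂ) 1 := by
  show (lam : P.R → ℂ) (C.cjR P (C.dq d) 1) = _
  rw [map_one]

theorem conjR_degree (lam : IrrCharacter P.R) : (C.conjR P lam : P.R → ℂ) 1 = (lam : P.R → ℂ) 1 :=
  Char.IsCharacter.conj_apply_one (Char.IsIrrCharacter.isCharacter lam.2)

theorem degree_orb [Fintype ↥DD] {lam mu : IrrCharacter P.R} (h : mu ∈ C.orb P lam) :
    charDegree (mu : P.R → ℂ) = charDegree (lam : P.R → ℂ) := by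
  apply Nat.cast_injective (R := ℂ)
  rw [← CharApp.DegreeSets.apply_one mu.2, ← CharApp.DegreeSets.apply_one lam.2]
  obtain ⟨e, h | h⟩ := (C.mem_orb P).1 h <;> subst h
  · rw [C.twR_degree]
  · rw [C.twR_degree, C.conjR_degree]

theorem sum_orb [Fintype ↥DD] {lam : IrrCharacter P.R} (hne : (lam : P.R → ℂ) ≠ 1) :
    (∑ mu ∈ C.orb P lam, (charDegree (mu : P.R → ℂ) : ℝ) ^ 2) *
      (Nat.card (C.stabR P (lam : P.R → ℂ)) : ℝ) =
      2 * (Nat.card ↥DD : ℝ) * (charDegree (lam : P.R → ℂ) : ℝ) ^ 2 := by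
  rw [Finset.sum_congr rfl fun mu hmu => by rw [C.degree_orb P hmu], Finset.sum_const, nsmul_eq_mul,
    mul_right_comm, ← Nat.cast_mul, C.card_orb P hne]
  push_cast
  ring

/-- `lam` or its conjugate. -/
noncomputable def lb (lam : IrrCharacter P.R) (b : Bool) : IrrCharacter P.R :=
  if b then lam else C.conjR P lam

theorem lb_one (lam : IrrCharacter P.R) (b : Bool) :
    (C.lb P lam b : P.R → ℂ) 1 = (lam : P.R → ℂ) 1 := by
  cases b <;> simp only [lb, Bool.false_eq_true, if_false, if_true]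
  exact C.conjR_degree P lam

theorem lb_mem [Fintype ↥DD] (lam : IrrCharacter P.R) (b : Bool) : C.lb P lam b ∈ C.orb P lam := by
  cases b <;> simp only [lb, Bool.false_eq_true, if_false, if_true]
  · exact C.orb_conj P (C.orb_self P lam)
  · exact C.orb_self P lam

theorem lb_conj {lam : IrrCharacter P.R} (hne : (lam : P.R → ℂ) ≠ 1) {b b' : Bool} {d : ↥DD}
    (h : (C.lb P lam b : P.R → ℂ) ∘ C.cjR P (C.dq d) = (C.lb P lam b' : P.R → ℂ)) :
    b = b' ∧ d ∈ C.stabR P (lam : P.R → ℂ) := by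
  cases b <;> cases b' <;> simp only [lb, Bool.false_eq_true, if_false, if_true] at h
  · exact ⟨rfl, C.stabR_conj P lam ▸ (C.mem_stabR P).2 h⟩
  · refine absurd (show C.twR P d (C.conjR P lam) = C.conjR P (C.conjR P lam) from ?_)
      (C.twR_ne_conj P (C.conjR_ne_one P hne) d)
    rw [C.conjR_conjR]
    exact Subtype.ext h
  · exact absurd (Subtype.ext h) (C.twR_ne_conj P hne d)
  · exact ⟨rfl, (C.mem_stabR P).2 h⟩

theorem theta_lb_conj {lam : IrrCharacter P.R} (hne : (lam : P.R → ℂ) ≠ 1)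
    {ψ ψ' : IrrCharacter P.S} {b b' : Bool} {d : ↥DD}
    (h : C.theta P (ψ : P.S → ℂ) (C.lb P lam b : P.R → ℂ) ∘ C.cjQ (C.dq d) =
      C.theta P (ψ' : P.S → ℂ) (C.lb P lam b' : P.R → ℂ)) :
    b = b' ∧ d ∈ C.stabR P (lam : P.R → ℂ) ∧
      (ψ : P.S → ℂ) ∘ C.cjS P (C.dq d) = (ψ' : P.S → ℂ) := by
  rw [C.theta_comp] at h
  obtain ⟨h1, h2⟩ := C.theta_inj P (Char.IsIrrCharacter.comp_equiv ψ.2 (C.autS P (C.dq d))) ψ'.2
    (C.twR P d (C.lb P lam b)).2 (C.lb P lam b').2 h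
  obtain ⟨h3, h4⟩ := C.lb_conj P hne h2
  exact ⟨h3, h4, h1⟩

theorem cjS_zS (d : stabilizer G a) {z : P.S} (hz : z ∈ C.zS P) : C.cjS P d z ∈ C.zS P := by
  refine C.mem_zz_of (C.cjS P d z : Q).2 ?_
  show (((C.cjS P d z * C.cjS P d z : P.S) : Q) : G) = 1
  rw [← map_mul, show z * z = 1 from Subtype.ext (Subtype.ext (C.zz_sq hz)), map_one]
  rfl

theorem triv_twist {ψ ψ' : IrrCharacter P.S} {d : stabilizer G a}
    (h : (ψ : P.S → ℂ) ∘ C.cjS P d = (ψ' : P.S → ℂ)) :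
    (∀ z ∈ C.zS P, (ψ : P.S → ℂ) z = (ψ : P.S → ℂ) 1) ↔
      ∀ z ∈ C.zS P, (ψ' : P.S → ℂ) z = (ψ' : P.S → ℂ) 1 := by
  have h1 : (ψ' : P.S → ℂ) 1 = (ψ : P.S → ℂ) 1 := by rw [← h, Function.comp_apply, map_one]
  constructor
  · intro hz z hz'
    rw [h1, ← h, Function.comp_apply, hz _ (C.cjS_zS P d hz')]
  · intro hz z hz'
    have hinj : Function.Injective fun u : C.zS P => (⟨C.cjS P d u, C.cjS_zS P d u.2⟩ : C.zS P) :=
      fun u u' e => Subtype.ext ((C.cjS_bijective P d).1 (congrArg Subtype.val e))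
    obtain ⟨u, hu⟩ := (Finite.surjective_of_injective hinj) ⟨z, hz'⟩
    rw [← show C.cjS P d (u : P.S) = z from congrArg Subtype.val hu, ← h1, ← hz _ u.2, ← h]
    rfl

/-- The value at `s` of the induced difference of a nontrivial and a trivial character. -/
theorem ind_theta_sub [Fintype ↥DD] {s : G} (hs : s ∈ II) {ψ : IrrCharacter P.S}
    (hψ : ¬ ∀ z ∈ C.zS P, (ψ : P.S → ℂ) z = (ψ : P.S → ℂ) 1) (mu : IrrCharacter P.R)
    {g : Q → ℂ} (hg : IsClassFunction Q g)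
    (hval : ∀ (z : G) (hz : z ∈ II), g ⟨z, C.ii_mem hz⟩ = (ψ : P.S → ℂ) 1 * (mu : P.R → ℂ) 1) :
    indFun Q (C.theta P (ψ : P.S → ℂ) (mu : P.R → ℂ) - g) s =
      -((C.vv : ℂ) * (C.qq : ℂ) * ((ψ : P.S → ℂ) 1 * (mu : P.R → ℂ) 1)) := by
  haveI : Fintype (II : Set G) := Fintype.ofFinite _
  rw [C.ind_apply_ii le_rfl C.setup.le (Char.isClassFunction_sub
      (Char.IsIrrCharacter.isClassFunction (C.theta_irr P ψ.2 mu.2)) hg) hs,
    div_self (Nat.cast_ne_zero.2 Nat.card_pos.ne'), one_mul]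
  have h1 : ∀ z : (II : Set G),
      extendByZero Q (C.theta P (ψ : P.S → ℂ) (mu : P.R → ℂ) - g) (z : G) =
        C.theta P (ψ : P.S → ℂ) (mu : P.R → ℂ) ⟨z, C.ii_mem z.2⟩ -
          (ψ : P.S → ℂ) 1 * (mu : P.R → ℂ) 1 := fun z => by
    refine (C.ext_Q le_rfl _ ⟨(z : G), C.ii_mem z.2⟩).trans ?_
    rw [← hval z z.2]
    rfl
  rw [Finset.sum_congr rfl fun z _ => h1 z, Finset.sum_sub_distrib,
    (C.sum_theta_ii P ψ.2 _).2 hψ, Finset.sum_const, Finset.card_univ, nsmul_eq_mul,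
    ← Nat.card_eq_fintype_card, qq, Nat.cast_add, Nat.cast_one]
  ring

/-- The anchors `μ ⊗ λ`, `μ ⊗ λ̄`. -/
noncomputable def anc (lam : IrrCharacter P.R) (M : Finset (IrrCharacter P.S))
    (i : ↥M × Bool) : Q → ℂ :=
  C.theta P (i.1.1 : P.S → ℂ) (C.lb P lam i.2 : P.R → ℂ)

theorem anc_val {lam : IrrCharacter P.R} {M : Finset (IrrCharacter P.S)}
    (hMz : ∀ μ ∈ M, ∀ z ∈ C.zS P, (μ : P.S → ℂ) z = (μ : P.S → ℂ) 1) (i : ↥M × Bool) :
    C.anc P lam M i 1 = (lam : P.R → ℂ) 1 ∧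
      ∀ (z : G) (hz : z ∈ II), C.anc P lam M i ⟨z, C.ii_mem hz⟩ = (lam : P.R → ℂ) 1 := by
  refine ⟨?_, fun z hz => ?_⟩
  · rw [anc, C.theta_one, C.linear_of_trivial P i.1.1.2 (hMz _ i.1.2), one_mul, C.lb_one]
  · rw [anc, C.theta_zz P _ _ ⟨z, C.ii_zz hz⟩, hMz _ i.1.2 _ (C.zEquiv P _).2,
      C.linear_of_trivial P i.1.1.2 (hMz _ i.1.2), one_mul, C.lb_one]

theorem anc_free [Fintype ↥DD] {lam : IrrCharacter P.R} (hne : (lam : P.R → ℂ) ≠ 1)
    {M : Finset (IrrCharacter P.S)} (hM : M.Nonempty)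
    (hMz : ∀ μ ∈ M, ∀ z ∈ C.zS P, (μ : P.S → ℂ) z = (μ : P.S → ℂ) 1)
    (hMfree : ∀ μ ∈ M, ∀ μ' ∈ M, ∀ d ∈ C.stabR P (lam : P.R → ℂ),
      (μ : P.S → ℂ) ∘ C.cjS P (C.dq d) = (μ' : P.S → ℂ) → μ = μ' ∧ d = 1) :
    IsFree C (C.anc P lam M) := by
  refine ⟨fun i => C.theta_irr P i.1.1.2 (C.lb P lam i.2).2, fun i j d h => ?_,
    fun i j => (C.anc_val P hMz i).1.trans (C.anc_val P hMz j).1.symm,
    fun z hz i j => ((C.anc_val P hMz i).2 z hz).trans ((C.anc_val P hMz j).2 z hz).symm, ?_⟩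
  · obtain ⟨h1, h2, h3⟩ := C.theta_lb_conj P hne h
    obtain ⟨h4, h5⟩ := hMfree _ i.1.2 _ j.1.2 d h2 h3
    exact ⟨Prod.ext (Subtype.ext h4) h1, h5⟩
  · rw [Fintype.card_prod, Fintype.card_bool, Fintype.card_coe]
    have := hM.card_pos
    omega

/-- The constituents of the further characters. -/
theorem exists_images [Fintype ↥DD] [Fintype Q] {s : G} (hs : s ∈ II) {lam : IrrCharacter P.R}
    (hne : (lam : P.R → ℂ) ≠ 1) {M Psi : Finset (IrrCharacter P.S)} {i₀ : ↥M × Bool}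
    (hMz : ∀ μ ∈ M, ∀ z ∈ C.zS P, (μ : P.S → ℂ) z = (μ : P.S → ℂ) 1)
    (hΨz : ∀ ψ ∈ Psi, ¬ ∀ z ∈ C.zS P, (ψ : P.S → ℂ) z = (ψ : P.S → ℂ) 1)
    (hΨd : ∀ ψ ∈ Psi, charDegree (ψ : P.S → ℂ) ≤ M.card)
    (hφ : IsFree C (C.anc P lam M))
    (hΨfree : ∀ ψ ∈ Psi, ∀ d ∈ C.stabR P (lam : P.R → ℂ),
      (ψ : P.S → ℂ) ∘ C.cjS P (C.dq d) = (ψ : P.S → ℂ) → d = 1)
    (An : Anch C s (C.anc P lam M)) :
    ∃ Y : ↥Psi × Bool → IrrCharacter G,
      (∀ p, Img C An i₀ (charDegree (p.1.1 : P.S → ℂ))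
          (-((charDegree (p.1.1 : P.S → ℂ) : ℝ) * charDegree (lam : P.R → ℂ) * (C.qq * C.vv)))
          (C.theta P (p.1.1 : P.S → ℂ) (C.lb P lam p.2 : P.R → ℂ)) (Y p)) ∧
      (∀ p, |C.ww s (Y p)| = (charDegree (p.1.1 : P.S → ℂ) : ℝ) * charDegree (lam : P.R → ℂ) *
          ((C.qq : ℝ) * C.vv / 2)) ∧
      (Psi.Nonempty → |An.wX| = (charDegree (lam : P.R → ℂ) : ℝ) * ((C.qq : ℝ) * C.vv / 2)) ∧
      ∀ p₀, ∀ p, Y p = Y p₀ → ∃ d ∈ C.stabR P (lam : P.R → ℂ),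
        C.theta P (p.1.1 : P.S → ℂ) (C.lb P lam p.2 : P.R → ℂ) ∘ C.cjQ (C.dq d) =
          C.theta P (p₀.1.1 : P.S → ℂ) (C.lb P lam p₀.2 : P.R → ℂ) := by
  have he1 : (lam : P.R → ℂ) 1 = (charDegree (lam : P.R → ℂ) : ℂ) :=
    CharApp.DegreeSets.apply_one lam.2
  have he0 : (0 : ℝ) < charDegree (lam : P.R → ℂ) := Nat.cast_pos.2 <| Nat.pos_of_ne_zero fun h =>
    Char.IsIrrCharacter.apply_one_ne_zero lam.2 (by rw [he1, h, Nat.cast_zero])
  have hA : (0 : ℝ) < (C.qq : ℝ) * C.vv := by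
    have h1 : (0 : ℝ) < C.qq := Nat.cast_pos.2 (by have := C.four_le_qq.1; omega)
    have h2 : (0 : ℝ) < C.vv := by exact_mod_cast C.vv_pos
    positivity
  have hn1 : ∀ p : ↥Psi × Bool, 1 ≤ charDegree (p.1.1 : P.S → ℂ) := fun p =>
    Nat.pos_of_ne_zero fun h => Char.IsIrrCharacter.apply_one_ne_zero p.1.1.2 (by
      rw [CharApp.DegreeSets.apply_one p.1.1.2, h, Nat.cast_zero])
  have hth1 : ∀ p : ↥Psi × Bool, C.theta P (p.1.1 : P.S → ℂ) (C.lb P lam p.2 : P.R → ℂ) 1 =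
      (charDegree (p.1.1 : P.S → ℂ) : ℂ) * C.anc P lam M i₀ 1 := fun p => by
    rw [C.theta_one, (C.anc_val P hMz i₀).1, C.lb_one, CharApp.DegreeSets.apply_one p.1.1.2]
  have hsig0 : ∀ p : ↥Psi × Bool,
      -((charDegree (p.1.1 : P.S → ℂ) : ℝ) * charDegree (lam : P.R → ℂ) * (C.qq * C.vv)) ≠ 0 := fun p =>
    neg_ne_zero.2 (ne_of_gt (mul_pos (mul_pos (Nat.cast_pos.2 (hn1 p)) he0) hA))
  have hsig : ∀ p : ↥Psi × Bool, indFun Q (C.theta P (p.1.1 : P.S → ℂ) (C.lb P lam p.2 : P.R → ℂ) -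
      (charDegree (p.1.1 : P.S → ℂ) : ℂ) • C.anc P lam M i₀) s =
      ((-((charDegree (p.1.1 : P.S → ℂ) : ℝ) * charDegree (lam : P.R → ℂ) * (C.qq * C.vv)) : ℝ) : ℂ) := by
    intro p
    rw [C.ind_theta_sub P hs (hΨz _ p.1.2) (C.lb P lam p.2)
      (Char.isClassFunction_smul (Char.IsIrrCharacter.isClassFunction (hφ.irr i₀)) _) fun z hz => by
        rw [Pi.smul_apply, (C.anc_val P hMz i₀).2 z hz, smul_eq_mul, C.lb_one,
          CharApp.DegreeSets.apply_one p.1.1.2]]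
    rw [C.lb_one, he1, CharApp.DegreeSets.apply_one p.1.1.2]
    push_cast
    ring
  have hnc : ∀ (p : ↥Psi × Bool) (i : ↥M × Bool) (d : ↥DD),
      C.anc P lam M i ∘ C.cjQ (C.dq d) ≠ C.theta P (p.1.1 : P.S → ℂ) (C.lb P lam p.2 : P.R → ℂ) ∧
      C.theta P (p.1.1 : P.S → ℂ) (C.lb P lam p.2 : P.R → ℂ) ∘ C.cjQ (C.dq d) ≠ C.anc P lam M i := by
    intro p i d
    constructor
    · intro h
      exact hΨz _ p.1.2 ((C.triv_twist P (C.theta_lb_conj P hne h).2.2).1 (hMz _ i.1.2))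
    · intro h
      exact hΨz _ p.1.2 ((C.triv_twist P (C.theta_lb_conj P hne h).2.2).2 (hMz _ i.1.2))
  choose Y hY hwX using fun p : ↥Psi × Bool => C.exists_image hφ hs An i₀
    (C.theta_irr P p.1.1.2 (C.lb P lam p.2).2) (hn1 p)
    (by rw [Fintype.card_prod, Fintype.card_bool, Fintype.card_coe]; have := hΨd _ p.1.2; omega)
    (hth1 p) (fun d h => hΨfree _ p.1.2 d (C.theta_lb_conj P hne h).2.1 (C.theta_lb_conj P hne h).2.2)
    (hnc p) (hsig p) (hsig0 p)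
  have habs : ∀ p : ↥Psi × Bool,
      |-((charDegree (p.1.1 : P.S → ℂ) : ℝ) * charDegree (lam : P.R → ℂ) * (C.qq * C.vv))| / 2 =
      (charDegree (p.1.1 : P.S → ℂ) : ℝ) * charDegree (lam : P.R → ℂ) * ((C.qq : ℝ) * C.vv / 2) := fun p => by
    rw [abs_neg, abs_of_pos (mul_pos (mul_pos (Nat.cast_pos.2 (hn1 p)) he0) hA)]
    ring
  have hwY : ∀ p, |C.ww s (Y p)| = (charDegree (p.1.1 : P.S → ℂ) : ℝ) * charDegree (lam : P.R → ℂ) *
      ((C.qq : ℝ) * C.vv / 2) := fun p => by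
    obtain ⟨-, -, δ, u, hδ, -, h, -⟩ := hY p
    have h1 : |(δ : ℝ)| = 1 := by
      rcases Int.eq_one_or_neg_one_of_mul_eq_one hδ with e | e <;> simp [e]
    rw [← habs p, ← abs_two, ← abs_div, ← h, abs_mul, h1, one_mul]
  refine ⟨Y, hY, hwY, fun ⟨ψ₀, hψ₀⟩ => ?_, fun p₀ p hp => ?_⟩
  · have h := hwX (⟨ψ₀, hψ₀⟩, true)
    rw [habs, mul_assoc] at h
    exact mul_left_cancel₀ (Nat.cast_ne_zero.2 (by have := hn1 (⟨ψ₀, hψ₀⟩, true); simp at this ⊢; omega)) h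
  · by_contra hcon
    push Not at hcon
    have hcon' : ∀ d : ↥DD, C.theta P (p.1.1 : P.S → ℂ) (C.lb P lam p.2 : P.R → ℂ) ∘ C.cjQ (C.dq d) ≠
        C.theta P (p₀.1.1 : P.S → ℂ) (C.lb P lam p₀.2 : P.R → ℂ) := fun d h =>
      hcon d (C.theta_lb_conj P hne h).2.1 h
    have hnn : (charDegree (p.1.1 : P.S → ℂ) : ℝ) = charDegree (p₀.1.1 : P.S → ℂ) := by
      have h := hwY p
      rw [hp, hwY p₀] at h
      exact (mul_right_cancel₀ he0.ne' (mul_right_cancel₀ (ne_of_gt (half_pos hA)) h)).symm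
    have hYp := hY p
    rw [hp, hnn, Nat.cast_inj.1 hnn] at hYp
    exact C.image_inj hφ An (C.theta_irr P p₀.1.1.2 (C.lb P lam p₀.2).2)
      (C.theta_irr P p.1.1.2 (C.lb P lam p.2).2) (hsig0 p₀) (hth1 p₀) hcon'
      (fun d => (hnc p₀ i₀ d).1) (fun d => (hnc p i₀ d).2) (hY p₀) hYp

/-- Fibres of a map bounded by the stabiliser. -/
theorem sum_fib_le {α β : Type*} [Fintype α] [DecidableEq β] (Y : α → β) {k : ℕ}
    (hfib : ∀ p₀, Nat.card {p // Y p = Y p₀} ≤ k) (g : β → ℝ) (hg : ∀ y, 0 ≤ g y) :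
    ∑ p, g (Y p) ≤ (k : ℝ) * ∑ y ∈ Finset.univ.image Y, g y := by
  rw [← Finset.sum_fiberwise_of_maps_to (g := Y) (t := Finset.univ.image Y)
    fun p _ => Finset.mem_image_of_mem Y (Finset.mem_univ p), Finset.mul_sum]
  refine Finset.sum_le_sum fun y hy => ?_
  obtain ⟨p₀, -, rfl⟩ := Finset.mem_image.1 hy
  rw [Finset.sum_congr rfl (g := fun _ => g (Y p₀)) fun p hp => by rw [(Finset.mem_filter.1 hp).2],
    Finset.sum_const, nsmul_eq_mul]
  refine mul_le_mul_of_nonneg_right (Nat.cast_le.2 ?_) (hg _)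
  rw [← Fintype.card_subtype, ← Nat.card_eq_fintype_card]
  exact hfib p₀

/-- The family of an orbit pair. -/
theorem fam_anchor [Fintype ↥DD] {s : G} (hs : s ∈ II) {lam : IrrCharacter P.R}
    (hne : (lam : P.R → ℂ) ≠ 1) (M Psi : Finset (IrrCharacter P.S)) (hM : M.Nonempty)
    (hΨ : Psi.Nonempty)
    (hMz : ∀ μ ∈ M, ∀ z ∈ C.zS P, (μ : P.S → ℂ) z = (μ : P.S → ℂ) 1)
    (hΨz : ∀ ψ ∈ Psi, ¬ ∀ z ∈ C.zS P, (ψ : P.S → ℂ) z = (ψ : P.S → ℂ) 1)
    (hΨd : ∀ ψ ∈ Psi, charDegree (ψ : P.S → ℂ) ≤ M.card)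
    (hMfree : ∀ μ ∈ M, ∀ μ' ∈ M, ∀ d ∈ C.stabR P (lam : P.R → ℂ),
      (μ : P.S → ℂ) ∘ C.cjS P (C.dq d) = (μ' : P.S → ℂ) → μ = μ' ∧ d = 1)
    (hΨfree : ∀ ψ ∈ Psi, ∀ d ∈ C.stabR P (lam : P.R → ℂ),
      (ψ : P.S → ℂ) ∘ C.cjS P (C.dq d) = (ψ : P.S → ℂ) → d = 1)
    {κ ν : ℝ} (hκ : κ ≤ ∑ ψ ∈ Psi, (charDegree (ψ : P.S → ℂ) : ℝ) ^ 2 +
      (Nat.card (C.stabR P (lam : P.R → ℂ)) : ℝ) * M.card)
    (hν : ν ≤ (Psi.card : ℝ) + (Nat.card (C.stabR P (lam : P.R → ℂ)) : ℝ) * M.card) :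
    C.Fam P s (C.orb P lam) κ ν := by
  haveI : Fintype (IrrCharacter G) := Fintype.ofFinite _
  haveI : Fintype Q := Fintype.ofFinite _
  have hφ := C.anc_free P hne hM hMz hMfree
  obtain ⟨An⟩ := C.exists_anchors hφ hs
  obtain ⟨μ₀, hμ₀⟩ := id hM
  obtain ⟨Y, hY, hwY, hwX, hinj⟩ := C.exists_images P hs hne (i₀ := (⟨μ₀, hμ₀⟩, true)) hMz hΨz hΨd hφ
    hΨfree An
  have hwXval := hwX hΨ
  generalize ht₀ : ((⟨μ₀, hμ₀⟩, true) : ↥M × Bool) = i₀ at hY
  have hfib : ∀ p₀, Nat.card {p // Y p = Y p₀} ≤ Nat.card (C.stabR P (lam : P.R → ℂ)) := by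
    intro p₀
    choose dd hmem hdd using fun p : {p // Y p = Y p₀} => hinj p₀ p.1 p.2
    refine Nat.card_le_card_of_injective (fun p => (⟨dd p, hmem p⟩ : C.stabR P (lam : P.R → ℂ)))
      fun p p' hpp => ?_
    have h1 := hdd p
    have h2 := hdd p'
    rw [← show dd p = dd p' from congrArg Subtype.val hpp] at h2
    have h3 := funext fun x => (show C.theta P (p.1.1.1 : P.S → ℂ) (C.lb P lam p.1.2 : P.R → ℂ) x =
        C.theta P (p'.1.1.1 : P.S → ℂ) (C.lb P lam p'.1.2 : P.R → ℂ) x by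
      obtain ⟨y, rfl⟩ := (C.cjQ_bijective (C.dq (dd p))).2 x
      exact congrFun (h1.trans h2.symm) y)
    obtain ⟨e1, e2⟩ := C.theta_inj P p.1.1.1.2 p'.1.1.1.2 (C.lb P lam p.1.2).2 (C.lb P lam p'.1.2).2 h3
    refine Subtype.ext (Prod.ext (Subtype.ext (Subtype.ext e1)) ?_)
    exact (C.lb_conj P hne (d := 1) ((funext fun x =>
      congrArg (C.lb P lam p.1.2 : P.R → ℂ) (C.cjR_one P x)).trans e2)).1
  have hWX : Disjoint (Finset.univ.image An.X) (Finset.univ.image Y) := Finset.disjoint_left.2 fun A' h1 h2 => by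
    obtain ⟨i, -, rfl⟩ := Finset.mem_image.1 h1
    obtain ⟨p, -, hp⟩ := Finset.mem_image.1 h2
    exact (hY p).1 i hp
  have hspan : ∀ (ψ : IrrCharacter P.S) b, C.theta P (ψ : P.S → ℂ) (C.lb P lam b : P.R → ℂ) ∈
      Submodule.span ℂ {ξ : Q → ℂ | IsIrrCharacter Q ξ ∧ IsIrrCharacter Q (resQ le_rfl ξ) ∧
        scope C P (C.orb P lam) (resQ le_rfl ξ)} := fun ψ b => Submodule.subset_span
    ⟨C.theta_irr P ψ.2 (C.lb P lam b).2, C.theta_irr P ψ.2 (C.lb P lam b).2,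
      ⟨_, _, ψ.2, C.lb_mem P lam b, rfl⟩⟩
  have hTpos : (0 : ℝ) < Nat.card (C.stabR P (lam : P.R → ℂ)) := Nat.cast_pos.2 Nat.card_pos
  refine ⟨Finset.univ.image An.X, Finset.univ.image An.X ∪ Finset.univ.image Y, ⟨?_, ?_, ?_, ?_, ?_⟩⟩
  · intro A' hA'
    obtain ⟨i, -, rfl⟩ := Finset.mem_image.1 hA'
    have hij : i ≠ (i.1, !i.2) := fun h => by
      have := congrArg Prod.snd h
      simp at this
    refine ⟨An.X (i.1, !i.2), Finset.mem_image_of_mem _ (Finset.mem_univ _), fun h => hij (An.inj h), ?_⟩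
    have hadm : C.Adm (scope C P (C.orb P lam))
        (indFun Q (C.anc P lam M i - C.anc P lam M (i.1, !i.2))) :=
      ⟨Q, _, le_rfl, C.setup.le, C.supp_Q (Char.isClassFunction_sub
        (Char.IsIrrCharacter.isClassFunction (hφ.irr i)) (Char.IsIrrCharacter.isClassFunction (hφ.irr _)))
        (by rw [Pi.sub_apply, hφ.deg i, sub_self]),
        Char.IsGeneralizedCharacter.indFun (Char.IsGeneralizedCharacter.sub
          (Char.isGeneralizedCharacter_of_isCharacter (Char.IsIrrCharacter.isCharacter (hφ.irr i)))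
          (Char.isGeneralizedCharacter_of_isCharacter (Char.IsIrrCharacter.isCharacter (hφ.irr _)))),
        rfl, Submodule.sub_mem _ (hspan _ _) (hspan _ _)⟩
    rw [An.ind] at hadm
    rcases Int.eq_one_or_neg_one_of_mul_eq_one An.eps_sq with h | h <;> rw [h] at hadm
    · simpa using hadm
    · simpa using C.adm_neg hadm
  · intro Z hZ
    rcases Finset.mem_union.1 hZ with h | h
    · exact Or.inl h
    · obtain ⟨p, -, rfl⟩ := Finset.mem_image.1 h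
      obtain ⟨-, hgc, δ, u, hδ, -, -, -, hm, -, hsupp⟩ := hY p
      refine Or.inr ⟨indFun Q (C.theta P (p.1.1 : P.S → ℂ) (C.lb P lam p.2 : P.R → ℂ) -
        (charDegree (p.1.1 : P.S → ℂ) : ℂ) • C.anc P lam M i₀), ⟨Q, _, le_rfl, C.setup.le,
        C.supp_Q (Char.isClassFunction_sub
          (Char.IsIrrCharacter.isClassFunction (C.theta_irr P p.1.1.2 (C.lb P lam p.2).2))
          (Char.isClassFunction_smul (Char.IsIrrCharacter.isClassFunction (hφ.irr i₀)) _))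
          (by rw [Pi.sub_apply, Pi.smul_apply, C.theta_one, (C.anc_val P hMz i₀).1, C.lb_one,
            CharApp.DegreeSets.apply_one p.1.1.2, smul_eq_mul, sub_self]), hgc, rfl,
        Submodule.sub_mem _ (hspan _ _) (Submodule.smul_mem _ _ (hspan _ _))⟩,
        by rw [hm]; exact left_ne_zero_of_mul_eq_one hδ, fun χ hχ => (hsupp χ hχ).imp id ?_⟩
      rintro ⟨i, rfl⟩
      exact Finset.mem_image_of_mem _ (Finset.mem_univ _)
  · intro Z hZ
    rcases Finset.mem_union.1 hZ with h | h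
    · obtain ⟨i, -, rfl⟩ := Finset.mem_image.1 h
      exact ⟨charDegree (lam : P.R → ℂ), by rw [An.ww_eq, hwXval]⟩
    · obtain ⟨p, -, rfl⟩ := Finset.mem_image.1 h
      exact ⟨charDegree (p.1.1 : P.S → ℂ) * charDegree (lam : P.R → ℂ), by rw [hwY p]; push_cast; ring⟩
  · refine le_of_mul_le_mul_right ?_ hTpos
    rw [mul_assoc (κ * _), C.sum_orb P hne, Finset.sum_union hWX]
    have hXsum : ∑ x ∈ Finset.univ.image An.X, C.ww s x ^ 2 = 2 * (M.card : ℝ) *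
        ((charDegree (lam : P.R → ℂ) : ℝ) * ((C.qq : ℝ) * C.vv / 2)) ^ 2 := by
      rw [Finset.sum_image fun i _ j _ h => An.inj h,
        Finset.sum_congr rfl fun i _ => by rw [An.ww_eq, ← sq_abs, hwXval],
        Finset.sum_const, Finset.card_univ, Fintype.card_prod, Fintype.card_bool, Fintype.card_coe,
        nsmul_eq_mul]
      push_cast; ring
    have hYsum : 2 * (∑ ψ ∈ Psi, (charDegree (ψ : P.S → ℂ) : ℝ) ^ 2) *
        ((charDegree (lam : P.R → ℂ) : ℝ) * ((C.qq : ℝ) * C.vv / 2)) ^ 2 ≤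
        (Nat.card (C.stabR P (lam : P.R → ℂ)) : ℝ) * ∑ y ∈ Finset.univ.image Y, C.ww s y ^ 2 := by
      refine le_trans (le_of_eq ?_) (C.sum_fib_le Y hfib (fun y => C.ww s y ^ 2) fun y => sq_nonneg _)
      rw [Finset.sum_congr (s₁ := (Finset.univ : Finset (↥Psi × Bool))) rfl fun p _ => (show
          C.ww s (Y p) ^ 2 = ((charDegree (p.1.1 : P.S → ℂ) : ℝ) * charDegree (lam : P.R → ℂ) *
            ((C.qq : ℝ) * C.vv / 2)) ^ 2 by rw [← sq_abs, hwY p]), Fintype.sum_prod_type,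
        Finset.mul_sum, Finset.sum_mul, ← Finset.sum_coe_sort Psi]
      refine Finset.sum_congr rfl fun p _ => ?_
      simp only [Fintype.sum_bool]
      ring
    rw [hXsum]
    nlinarith [mul_le_mul_of_nonneg_right hκ (mul_nonneg (Nat.cast_nonneg (α := ℝ) (Nat.card ↥DD))
        (sq_nonneg ((charDegree (lam : P.R → ℂ) : ℝ) * ((C.qq : ℝ) * C.vv / 2)))),
      mul_le_mul_of_nonneg_left hYsum (Nat.cast_nonneg (α := ℝ) (Nat.card ↥DD))]
  · refine le_of_mul_le_mul_right ?_ hTpos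
    rw [mul_assoc, ← Nat.cast_mul, C.card_orb P hne, Finset.card_union_of_disjoint hWX,
      Finset.card_image_of_injective _ An.inj, Finset.card_univ, Fintype.card_prod, Fintype.card_bool,
      Fintype.card_coe]
    push_cast
    have h1 := C.sum_fib_le Y hfib (fun _ => 1) fun _ => zero_le_one
    simp only [Finset.sum_const, nsmul_eq_mul, mul_one, Finset.card_univ, Fintype.card_prod,
      Fintype.card_bool, Fintype.card_coe] at h1
    push_cast at h1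
    nlinarith [mul_le_mul_of_nonneg_right hν (Nat.cast_nonneg (α := ℝ) (Nat.card ↥DD)),
      mul_le_mul_of_nonneg_left h1 (Nat.cast_nonneg (α := ℝ) (Nat.card ↥DD))]

end Ctx

end Cfsg.Agent.SuzukiRankOne.Kernel
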