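import Cfsg.Agent.Lib.RankOne.SetupTwoRank
import Cfsg.Agent.Lib.SuzukiRankOne.Interface
import Cfsg.Agent.S1131

/-!
The kernel of a rank one set-up (`KernelShape`): notation and counting.

* `Ctx` : the standing hypotheses
* `zz` : `1` and the involutions of `G_a`;  `kk` : the elements of `D` inverted by `t`
* `sum_conj` : sums over `D` of a function of the conjugates of an involution
* `qpart`, `pi` : the parts of an element of `G_a` in `Q` and `D`
-/

set_option autoImplicit false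
set_option linter.unusedSectionVars false

namespace Cfsg.Agent.SuzukiRankOne.Kernel

open MulAction Cfsg Cfsg.Agent Cfsg.Agent.RankOne

variable {G Ω : Type*} [Group G] [Finite G] [MulAction G Ω] {a : Ω} {t : G} {Q : Subgroup G}

local notation "DD" => (stabilizer G a ⊓ stabilizer G (t • a) : Subgroup G)
local notation "II" => Cfsg.involutionsIn (stabilizer G a : Set G)
local notation "KK" => Cfsg.invertedBy (stabilizer G a ⊓ stabilizer G (t • a)) t

/-- The standing hypotheses. -/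
structure Ctx (G Ω : Type*) [Group G] [MulAction G Ω] (a : Ω) (t : G) (Q : Subgroup G) : Prop where
  setup : Cfsg.IsRankOneSetup G Ω a t Q
  two : TwoInvolutions G
  faithful : FaithfulSMul G Ω

namespace Ctx

variable (C : Ctx G Ω a t Q)
include C

theorem ii_mem {s : G} (hs : s ∈ II) : s ∈ Q := Setup.mem_Q_of_ii C.setup hs

theorem ii_comm {s x : G} (hs : s ∈ II) (hx : x ∈ Q) : s * x = x * s :=
  Setup.commute_ii C.setup C.two hs hx

theorem ii_conj {s g : G} (hs : s ∈ II) (hg : g ∈ stabilizer G a) : g⁻¹ * s * g ∈ II :=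
  Setup.conj_mem_ii_of_dd C.setup hs hg

theorem ii_conj' {s g : G} (hs : s ∈ II) (hg : g ∈ stabilizer G a) : g * s * g⁻¹ ∈ II := by
  simpa using C.ii_conj hs (inv_mem hg)

/-- `1` and the involutions of `G_a`. -/
def zz : Subgroup G where
  carrier := {x | x ∈ Q ∧ x * x = 1}
  one_mem' := ⟨one_mem _, one_mul 1⟩
  mul_mem' {x y} hx hy := by
    refine ⟨mul_mem hx.1 hy.1, ?_⟩
    rcases eq_or_ne x 1 with rfl | hx1
    · rw [one_mul]; exact hy.2
    have e := C.ii_comm (s := x) ⟨C.setup.le hx.1, hx1, hx.2⟩ hy.1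
    calc x * y * (x * y) = x * (y * x) * y := by group
      _ = x * (x * y) * y := by rw [e]
      _ = (x * x) * (y * y) := by group
      _ = 1 := by rw [hx.2, hy.2, one_mul]
  inv_mem' {x} hx := ⟨inv_mem hx.1, by rw [← mul_inv_rev, hx.2, inv_one]⟩

omit [Finite G] in
theorem mem_zz_of [Finite G] {x : G} (hx : x ∈ Q) (hxx : x * x = 1) : x ∈ C.zz := ⟨hx, hxx⟩

theorem zz_le : C.zz ≤ Q := fun _ hx => hx.1

theorem zz_sq {x : G} (hx : x ∈ C.zz) : x * x = 1 := hx.2

theorem ii_zz {s : G} (hs : s ∈ II) : s ∈ C.zz := ⟨C.ii_mem hs, hs.2.2⟩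

theorem mem_zz_iff {x : G} : x ∈ C.zz ↔ x = 1 ∨ x ∈ II := by
  constructor
  · intro hx
    exact (eq_or_ne x 1).imp id fun h => ⟨C.setup.le hx.1, h, hx.2⟩
  · rintro (rfl | h)
    · exact one_mem _
    · exact C.ii_zz h

theorem zz_comm {z x : G} (hz : z ∈ C.zz) (hx : x ∈ Q) : z * x = x * z := by
  rcases C.mem_zz_iff.1 hz with rfl | h
  · simp
  · exact C.ii_comm h hx

/-- `q`, the order of `zz`. -/
noncomputable def qq (_C : Ctx G Ω a t Q) : ℕ :=
  Nat.card (Cfsg.involutionsIn (stabilizer G a : Set G)) + 1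

theorem card_zz : Nat.card C.zz = C.qq := by
  classical
  rw [qq, ← Finite.card_option]
  exact Nat.card_congr
    { toFun := fun x => if hx : (x : G) = 1 then none else some ⟨x, (C.mem_zz_iff.1 x.2).resolve_left hx⟩
      invFun := fun o => o.elim 1 fun s => ⟨s, C.ii_zz s.2⟩
      left_inv := fun x => by
        by_cases hx : (x : G) = 1
        · simp [hx]; exact (Subtype.ext hx).symm
        · simp [hx]
      right_inv := fun o => by
        cases o with
        | none => simp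
        | some s => simp [s.2.2.1] }

theorem four_le_qq : 4 ≤ C.qq ∧ ∃ n, 2 ≤ n ∧ C.qq = 2 ^ n := by
  haveI := Fact.mk Nat.prime_two
  have hp : IsPGroup 2 C.zz := fun x => ⟨1, Subtype.ext (by simpa [pow_two] using C.zz_sq x.2)⟩
  obtain ⟨n, hn⟩ := IsPGroup.iff_card.1 hp
  rw [C.card_zz] at hn
  obtain ⟨s, s', hs, hs', hne⟩ := Setup.exists_two_ii C.setup C.two
  have : 2 ≤ Nat.card (Cfsg.involutionsIn (stabilizer G a : Set G)) := by
    haveI : Nontrivial II := ⟨⟨⟨s, hs⟩, ⟨s', hs'⟩, fun e => hne (congrArg Subtype.val e)⟩⟩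
    exact Finite.one_lt_card
  have h3 : 3 ≤ C.qq := Nat.add_le_add_right this 1
  have hn2 : 2 ≤ n := by
    by_contra hlt
    rw [hn] at h3
    interval_cases n <;> simp at h3
  refine ⟨?_, n, hn2, hn⟩
  rw [hn]
  exact Nat.pow_le_pow_right (n := 2) (by norm_num) hn2

theorem qq_even : Even C.qq := by
  obtain ⟨-, n, hn, e⟩ := C.four_le_qq
  rw [e]; exact (Nat.even_pow.2 ⟨even_two, by omega⟩)

/-- The elements of `D` inverted by `t`. -/
def kk : Subgroup G where
  carrier := KK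
  one_mem' := Setup.one_mem_kk C.setup
  mul_mem' {x y} hx hy := by
    haveI := C.faithful
    obtain ⟨K, hK, -, -⟩ := S1131.result C.setup C.two
    rw [← hK, SetLike.mem_coe] at hx hy ⊢
    exact mul_mem hx hy
  inv_mem' {x} hx := by
    haveI := C.faithful
    obtain ⟨K, hK, -, -⟩ := S1131.result C.setup C.two
    rw [← hK, SetLike.mem_coe] at hx ⊢
    exact inv_mem hx

theorem mem_kk {k : G} : k ∈ C.kk ↔ k ∈ KK := Iff.rfl

theorem kk_le : C.kk ≤ DD := fun _ hk => hk.1

theorem kk_cyclic : IsCyclic C.kk := by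
  haveI := C.faithful
  obtain ⟨K, hK, hc, -⟩ := S1131.result C.setup C.two
  rwa [show C.kk = K from SetLike.coe_injective hK.symm]

theorem kk_normal {d k : G} (hd : d ∈ DD) (hk : k ∈ C.kk) : d * k * d⁻¹ ∈ C.kk := by
  haveI := C.faithful
  obtain ⟨K, hK, -, hn⟩ := S1131.result C.setup C.two
  have e : C.kk = K := SetLike.coe_injective hK.symm
  rw [e] at hk ⊢
  exact hn d hd k hk

theorem card_kk : Nat.card C.kk + 1 = C.qq := by
  rw [qq, show Nat.card C.kk = Nat.card KK from rfl, Setup.card_kk C.setup]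

theorem kk_fpf {k y : G} (hk : k ∈ C.kk) (hk1 : k ≠ 1) (hy : y ∈ Q) (hc : k * y = y * k) : y = 1 :=
  Setup.kk_fpf C.setup hk hk1 hy hc

/-- `K` is regular on the involutions of `G_a`. -/
theorem kk_bijective {s : G} (hs : s ∈ II) :
    Function.Bijective (fun k : C.kk => (⟨(k : G)⁻¹ * s * k, C.ii_conj hs k.2.1.1⟩ : II)) := by
  refine (Nat.bijective_iff_surjective_and_card _).2 ⟨fun z => ?_, Setup.card_kk C.setup⟩
  obtain ⟨k, hk, e⟩ := Setup.exists_conj_kk C.setup hs z.2
  exact ⟨⟨k, hk⟩, Subtype.ext e⟩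

theorem kk_fix {s k : G} (hs : s ∈ II) (hk : k ∈ C.kk) (hc : s * k = k * s) : k = 1 := by
  by_contra hk1
  exact hs.2.1 (C.kk_fpf hk hk1 (C.ii_mem hs) hc.symm)

/-- An element of `D` is an element of `K` times an element fixing a given involution. -/
theorem exists_kk_mul {s d : G} (hs : s ∈ II) (hd : d ∈ DD) :
    ∃ k ∈ C.kk, ∃ v, v ∈ DD ∧ s * v = v * s ∧ d = v * k := by
  obtain ⟨⟨k, hk⟩, e⟩ := (C.kk_bijective hs).2 ⟨d⁻¹ * s * d, C.ii_conj hs hd.1⟩
  have e' : k⁻¹ * s * k = d⁻¹ * s * d := congrArg Subtype.val e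
  refine ⟨k, hk, d * k⁻¹, mul_mem hd (inv_mem (C.kk_le hk)), ?_, by group⟩
  calc s * (d * k⁻¹) = d * (d⁻¹ * s * d) * k⁻¹ := by group
    _ = d * (k⁻¹ * s * k) * k⁻¹ := by rw [e']
    _ = d * k⁻¹ * s := by group

theorem sum_kk [Fintype C.kk] [Fintype (II : Set G)] {s : G} (hs : s ∈ II) (φ : G → ℂ) :
    ∑ k : C.kk, φ ((k : G)⁻¹ * s * k) = ∑ z : (II : Set G), φ z :=
  Fintype.sum_bijective _ (C.kk_bijective hs) _ _ fun _ => rfl

/-- Sums over `D` of a function of the conjugates of an involution. -/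
theorem sum_conj [Fintype ↥DD] [Fintype (II : Set G)] {s : G} (hs : s ∈ II) (φ : G → ℂ) :
    ((C.qq - 1 : ℕ) : ℂ) * ∑ d : ↥DD, φ ((d : G)⁻¹ * s * d) =
      (Nat.card ↥DD : ℂ) * ∑ z : (II : Set G), φ z := by
  classical
  haveI : Fintype C.kk := Fintype.ofFinite _
  calc ((C.qq - 1 : ℕ) : ℂ) * ∑ d : ↥DD, φ ((d : G)⁻¹ * s * d)
      = ∑ k : C.kk, ∑ d : ↥DD, φ ((k : G)⁻¹ * ((d : G)⁻¹ * s * d) * k) := by
        have hk : ∀ k : C.kk, ∑ d : ↥DD, φ ((k : G)⁻¹ * ((d : G)⁻¹ * s * d) * k) =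
            ∑ d : ↥DD, φ ((d : G)⁻¹ * s * d) := fun k =>
          Fintype.sum_equiv (Equiv.mulRight ⟨(k : G), C.kk_le k.2⟩) _
          (fun d : ↥DD => φ ((d : G)⁻¹ * s * d)) fun d => by
            rw [Equiv.coe_mulRight, Subgroup.coe_mul]
            congr 1
            group
        rw [Finset.sum_congr rfl fun k _ => hk k,
          Finset.sum_const, Finset.card_univ, nsmul_eq_mul, ← Nat.card_eq_fintype_card, ← C.card_kk,
          Nat.add_sub_cancel]
    _ = ∑ d : ↥DD, ∑ z : (II : Set G), φ z := by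
        rw [Finset.sum_comm]
        exact Finset.sum_congr rfl fun d _ => C.sum_kk (C.ii_conj hs d.2.1) φ
    _ = _ := by rw [Finset.sum_const, Finset.card_univ, nsmul_eq_mul, Nat.card_eq_fintype_card]

/-- `|C_D(s)|`. -/
noncomputable def vv : ℕ := Nat.card ↥DD / (C.qq - 1)

theorem card_centD {s : G} (hs : s ∈ II) :
    (C.qq - 1) * Nat.card ↥(DD ⊓ Subgroup.centralizer {s}) = Nat.card ↥DD := by
  classical
  haveI : Fintype ↥DD := Fintype.ofFinite _
  haveI : Fintype (II : Set G) := Fintype.ofFinite _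
  have h := C.sum_conj hs (fun x => if x = s then 1 else 0)
  rw [Finset.sum_boole, Finset.sum_eq_single (⟨s, hs⟩ : (II : Set G))
    (fun z _ hz => if_neg fun e => hz (Subtype.ext e)) (fun e => absurd (Finset.mem_univ _) e),
    if_pos rfl, mul_one] at h
  have e : (Finset.univ.filter fun d : ↥DD => (d : G)⁻¹ * s * d = s).card =
      Nat.card ↥(DD ⊓ Subgroup.centralizer {s}) := by
    rw [← Fintype.card_subtype, ← Nat.card_eq_fintype_card]
    refine Nat.card_congr
      { toFun := fun d => ⟨d.1.1, d.1.2, Subgroup.mem_centralizer_iff.2 fun x hx => by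
          obtain rfl : x = s := hx
          have := d.2
          rw [mul_assoc, inv_mul_eq_iff_eq_mul] at this
          exact this⟩
        invFun := fun d => ⟨⟨d.1, d.2.1⟩, by
          have := Subgroup.mem_centralizer_iff.1 d.2.2 s rfl
          rw [mul_assoc, this, inv_mul_cancel_left]⟩
        left_inv := fun d => rfl
        right_inv := fun d => rfl }
  rw [e] at h
  exact_mod_cast h

theorem centD_eq_vv {s : G} (hs : s ∈ II) :
    Nat.card ↥(DD ⊓ Subgroup.centralizer {s}) = C.vv := by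
  rw [vv, ← C.card_centD hs, Nat.mul_div_cancel_left _ (by have := C.four_le_qq.1; omega)]

theorem card_DD : Nat.card ↥DD = (C.qq - 1) * C.vv := by
  obtain ⟨s, hs⟩ := Setup.exists_ii C.setup
  rw [← C.centD_eq_vv hs, C.card_centD hs]

theorem vv_pos : 0 < C.vv := Nat.pos_of_ne_zero fun e =>
  (Nat.card_pos (α := ↥DD)).ne' (by rw [C.card_DD, e, mul_zero])

/-- An element with a single fixed point, `a`, is moved only by elements outside `G_a`. -/
theorem mem_stab_of_fix {x g : G} (hx : ∀ b : Ω, x • b = b → b = a)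
    (hg : (g⁻¹ * x * g) • a = a) : g ∈ stabilizer G a := by
  rw [mem_stabilizer_iff]
  refine hx _ ?_
  rw [mul_smul, mul_smul, inv_smul_eq_iff] at hg
  exact hg

theorem fix_unique_of_Q {x : G} (hx : x ∈ Q) (hx1 : x ≠ 1) {b : Ω} (hb : x • b = b) : b = a := by
  by_contra hne
  exact hx1 (Setup.eq_one_of_fix C.setup hx hne hb)

theorem centralizer_ii_le {s : G} (hs : s ∈ II) : Subgroup.centralizer {s} ≤ stabilizer G a := by
  intro g hg
  have e := Subgroup.mem_centralizer_iff.1 hg s rfl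
  refine C.mem_stab_of_fix (fun b => C.fix_unique_of_Q (C.ii_mem hs) hs.2.1) ?_
  rw [mul_assoc, e, inv_mul_cancel_left]
  exact hs.1

/-- `|C_G(s)| = h |C_D(s)|`. -/
theorem card_centralizer {s : G} (hs : s ∈ II) :
    Nat.card ↥(Subgroup.centralizer ({s} : Set G)) = Nat.card Q * C.vv := by
  rw [← C.centD_eq_vv hs, ← Nat.card_prod]
  refine (Nat.card_congr (Equiv.ofBijective
    (fun p : Q × ↥(DD ⊓ Subgroup.centralizer {s}) =>
      (⟨(p.1 : G) * p.2, mul_mem (Subgroup.mem_centralizer_iff.2 fun x hx => by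
          obtain rfl : x = s := hx
          exact C.ii_comm hs p.1.2) p.2.2.2⟩ : ↥(Subgroup.centralizer ({s} : Set G)))) ⟨?_, ?_⟩)).symm
  · rintro ⟨x, d⟩ ⟨x', d'⟩ he
    obtain ⟨e1, e2⟩ := Setup.decomp_unique C.setup x.2 x'.2 d.2.1 d'.2.1 (congrArg Subtype.val he)
    exact Prod.ext (Subtype.ext e1) (Subtype.ext e2)
  · rintro ⟨g, hg⟩
    obtain ⟨x, hx, d, hd, rfl⟩ := Setup.exists_decomp C.setup (C.centralizer_ii_le hs hg)
    have hxc : x ∈ Subgroup.centralizer {s} := Subgroup.mem_centralizer_iff.2 fun y hy => by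
      obtain rfl : y = s := hy
      exact C.ii_comm hs hx
    exact ⟨(⟨x, hx⟩, ⟨d, hd, by simpa using mul_mem (inv_mem hxc) hg⟩), rfl⟩

/-- The part in `Q` of an element of `G_a`. -/
noncomputable def qpart (g : stabilizer G a) : G :=
  (Setup.exists_decomp C.setup g.2).choose

/-- The part in `D` of an element of `G_a`. -/
noncomputable def dpart (g : stabilizer G a) : G :=
  (Setup.exists_decomp C.setup g.2).choose_spec.2.choose

theorem qpart_mem (g : stabilizer G a) : C.qpart g ∈ Q :=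
  (Setup.exists_decomp C.setup g.2).choose_spec.1

theorem dpart_mem (g : stabilizer G a) : C.dpart g ∈ DD :=
  (Setup.exists_decomp C.setup g.2).choose_spec.2.choose_spec.1

theorem qpart_mul_dpart (g : stabilizer G a) : C.qpart g * C.dpart g = g :=
  (Setup.exists_decomp C.setup g.2).choose_spec.2.choose_spec.2

theorem parts_eq {g : stabilizer G a} {x d : G} (hx : x ∈ Q) (hd : d ∈ DD) (e : (g : G) = x * d) :
    C.qpart g = x ∧ C.dpart g = d :=
  Setup.decomp_unique C.setup (C.qpart_mem g) hx (C.dpart_mem g) hd ((C.qpart_mul_dpart g).trans e)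

theorem parts_mul (g g' : stabilizer G a) :
    C.qpart (g * g') = C.qpart g * (C.dpart g * C.qpart g' * (C.dpart g)⁻¹) ∧
      C.dpart (g * g') = C.dpart g * C.dpart g' := by
  refine C.parts_eq (mul_mem (C.qpart_mem g)
    (C.setup.conj_mem _ (C.dpart_mem g).1 _ (C.qpart_mem g')))
    (mul_mem (C.dpart_mem g) (C.dpart_mem g')) ?_
  conv_lhs => rw [Subgroup.coe_mul, ← C.qpart_mul_dpart g, ← C.qpart_mul_dpart g']
  group

theorem parts_of_Q {g : stabilizer G a} (hg : (g : G) ∈ Q) : C.qpart g = g ∧ C.dpart g = 1 :=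
  C.parts_eq hg (one_mem _) (mul_one _).symm

/-- The projection of `G_a` on `D`. -/
noncomputable def pi : stabilizer G a →* ↥DD :=
  MonoidHom.mk' (fun g => ⟨C.dpart g, C.dpart_mem g⟩) fun g g' => Subtype.ext (C.parts_mul g g').2

/-- The inverse image of a subgroup of `D`. -/
noncomputable def hh (T : Subgroup G) : Subgroup G :=
  ((T.subgroupOf DD).comap C.pi).map (stabilizer G a).subtype

theorem hh_le (T : Subgroup G) : C.hh T ≤ stabilizer G a := Subgroup.map_subtype_le _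

theorem mem_hh {T : Subgroup G} {g : stabilizer G a} : (g : G) ∈ C.hh T ↔ C.dpart g ∈ T := by
  constructor
  · rintro ⟨g', hg', e⟩
    rw [← show g' = g from Subtype.ext e]
    exact hg'
  · intro hg
    exact ⟨g, hg, rfl⟩

theorem Q_le_hh (T : Subgroup G) : Q ≤ C.hh T := fun x hx =>
  (C.mem_hh (g := ⟨x, C.setup.le hx⟩)).2 (by rw [(C.parts_of_Q (g := ⟨x, C.setup.le hx⟩) hx).2]; exact one_mem _)

theorem le_hh {T : Subgroup G} (hT : T ≤ DD) : T ≤ C.hh T := fun d hd =>
  (C.mem_hh (g := ⟨d, (hT hd).1⟩)).2 (by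
    rw [(C.parts_eq (g := ⟨d, (hT hd).1⟩) (one_mem Q) (hT hd) (one_mul _).symm).2]; exact hd)

theorem card_hh {T : Subgroup G} (hT : T ≤ DD) : Nat.card (C.hh T) = Nat.card Q * Nat.card T := by
  rw [← Nat.card_prod]
  refine (Nat.card_congr (Equiv.ofBijective
    (fun p : Q × T => (⟨(p.1 : G) * p.2, mul_mem (C.Q_le_hh T p.1.2) (C.le_hh hT p.2.2)⟩ : C.hh T))
    ⟨?_, ?_⟩)).symm
  · rintro ⟨x, d⟩ ⟨x', d'⟩ he
    obtain ⟨e1, e2⟩ := Setup.decomp_unique C.setup x.2 x'.2 (hT d.2) (hT d'.2) (congrArg Subtype.val he)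
    exact Prod.ext (Subtype.ext e1) (Subtype.ext e2)
  · rintro ⟨g, hg⟩
    have hd := (C.mem_hh (g := ⟨g, C.hh_le T hg⟩)).1 hg
    exact ⟨(⟨_, C.qpart_mem _⟩, ⟨_, hd⟩), Subtype.ext (C.qpart_mul_dpart ⟨g, C.hh_le T hg⟩)⟩

/-- An element of `G_a` with a second fixed point is a `Q`-conjugate of an element of `D`. -/
theorem exists_conj_DD {x : G} (hx : x ∈ stabilizer G a) {b : Ω} (hb : b ≠ a) (hxb : x • b = b) :
    ∃ y ∈ Q, y⁻¹ * x * y ∈ DD := by
  obtain ⟨y, hy, rfl⟩ := Setup.exists_smul_eq C.setup hb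
  exact ⟨y, hy, Subgroup.mem_inf.2 ⟨mul_mem (mul_mem (inv_mem (C.setup.le hy)) hx) (C.setup.le hy),
    mem_stabilizer_iff.2 (by rw [mul_smul, mul_smul, hxb, inv_smul_smul])⟩⟩

end Ctx

end Cfsg.Agent.SuzukiRankOne.Kernel
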