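import Cfsg.Agent.Lib.Char.Orth
import Cfsg.Agent.Lib.Char.Eigen
import Cfsg.Agent.Lib.CharApp.Schur
import Cfsg.Agent.Lib.CharApp.PermLemma
import Cfsg.Agent.Lib.CharApp.DegreeSets

/-!
Facts on irreducible characters of a finite group.

* `exists_central_hom` : the central character on a central subgroup
* `degree_one_of_kernel` : a kernel containing the commutators
* `sum_sq_kernel` : `∑ χ(1)²` over the kernels containing a central subgroup
* `fixed_trivial` : a fixed-point-free automorphism fixes only the principal character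
-/

set_option autoImplicit false
set_option linter.unusedSectionVars false

namespace Cfsg.Agent.SuzukiRankOne.Kernel

open Cfsg Cfsg.Agent Module
open scoped ComplexConjugate

variable {X : Type*} [Group X] [Finite X]

theorem exists_central_hom {χ : X → ℂ} (hχ : IsIrrCharacter X χ) (M : Subgroup X)
    (hM : ∀ z ∈ M, ∀ g : X, z * g = g * z) :
    ∃ ω : M →* ℂˣ, ∀ (z : M) (g : X), χ ((z : X) * g) = (ω z : ℂ) * χ g := by
  have h1 := Char.IsIrrCharacter.apply_one_ne_zero hχ
  have hsc : ∀ z : M, ∃ c : ℂ, ∀ g : X, χ ((z : X) * g) = c * χ g := by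
    obtain ⟨n, ρ, hρ, rfl⟩ := hχ
    haveI := hρ
    intro z
    obtain ⟨c, hc⟩ := CharApp.exists_scalar_of_mem_center ρ (z := (z : X))
      (Subgroup.mem_center_iff.2 fun g => (hM z z.2 g).symm)
    refine ⟨c, fun g => ?_⟩
    simp [Representation.character, map_mul, hc]
  choose c hc using hsc
  have hmul : ∀ z z', c (z * z') = c z * c z' := fun z z' => by
    refine mul_right_cancel₀ h1 ?_
    rw [← hc, mul_assoc, ← hc, ← hc, Subgroup.coe_mul, mul_assoc]
  have hone : c 1 = 1 := by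
    refine mul_right_cancel₀ h1 ?_
    rw [← hc, one_mul]
    simp
  refine ⟨MonoidHom.toHomUnits (MonoidHom.mk ⟨c, hone⟩ hmul), fun z g => ?_⟩
  rw [MonoidHom.coe_toHomUnits]
  exact hc z g

theorem degree_one_of_kernel {χ : X → ℂ} (hχ : IsIrrCharacter X χ) (M : Subgroup X)
    (hc : ∀ x y : X, x⁻¹ * y⁻¹ * x * y ∈ M) (hker : ∀ z ∈ M, χ z = χ 1) : χ 1 = 1 := by
  obtain ⟨n, ρ, hρ, rfl⟩ := hχ
  haveI := hρ
  have hid : ∀ z ∈ M, ρ z = 1 := fun z hz => (Char.character_eq_finrank_iff ρ z).1 (by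
    rw [hker z hz, Representation.char_one])
  have hcomm : ∀ x y : X, ρ x * ρ y = ρ y * ρ x := fun x y => by
    rw [← map_mul, ← map_mul, show x * y = y * x * (x⁻¹ * y⁻¹ * x * y) by group, map_mul _ _ (_ * _),
      hid _ (hc x y), mul_one]
  have hscal : ∀ x : X, ∃ c : ℂ, ρ x = c • 1 := fun x =>
    CharApp.exists_scalar_of_commute ρ _ fun g => hcomm x g
  haveI := CharApp.nontrivial_of_irr ρ
  obtain ⟨v, hv⟩ := exists_ne (0 : Fin n → ℂ)
  rcases CharApp.eq_bot_or_top_of_invariant ρ (ℂ ∙ v) (fun g w hw => by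
    obtain ⟨c, hc'⟩ := hscal g
    rw [hc']
    simpa using Submodule.smul_mem _ c hw) with h | h
  · exact absurd h (by simp [hv])
  · have h1 := finrank_span_singleton (K := ℂ) hv
    rw [h, finrank_top] at h1
    rw [Representation.char_one, h1, Nat.cast_one]

theorem sum_sq_kernel [Fintype (IrrCharacter X)] (M : Subgroup X)
    (hM : ∀ z ∈ M, ∀ g : X, z * g = g * z)
    [DecidablePred fun χ : IrrCharacter X => ∀ z ∈ M, (χ : X → ℂ) z = (χ : X → ℂ) 1] :
    ∑ χ ∈ Finset.univ.filter (fun χ : IrrCharacter X => ∀ z ∈ M, (χ : X → ℂ) z = (χ : X → ℂ) 1),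
      charDegree (χ : X → ℂ) ^ 2 = M.index := by
  classical
  haveI : Fintype X := Fintype.ofFinite X
  haveI : Fintype M := Fintype.ofFinite M
  have hin : ∀ χ : IrrCharacter X, ∑ z : M, (χ : X → ℂ) z =
      if ∀ z ∈ M, (χ : X → ℂ) z = (χ : X → ℂ) 1 then (Nat.card M : ℂ) * (χ : X → ℂ) 1 else 0 := by
    intro χ
    split_ifs with h
    · rw [Finset.sum_congr rfl (g := fun _ => (χ : X → ℂ) 1) fun (z : M) _ => h z z.2, Finset.sum_const, Finset.card_univ, nsmul_eq_mul,
        Nat.card_eq_fintype_card]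
    · obtain ⟨ω, hω⟩ := exists_central_hom χ.2 M hM
      have hω' : ∀ z : M, (χ : X → ℂ) z = (ω z : ℂ) * (χ : X → ℂ) 1 := fun z => by
        rw [← hω, mul_one]
      have hne : (Units.coeHom ℂ).comp ω ≠ 1 := fun e => h fun z hz => by
        have h1 : ((ω ⟨z, hz⟩ : ℂˣ) : ℂ) = 1 := DFunLike.congr_fun e (⟨z, hz⟩ : M)
        rw [hω' ⟨z, hz⟩, h1, one_mul]
      rw [Finset.sum_congr rfl fun z _ => hω' z, ← Finset.sum_mul,
        show ∑ z : M, ((ω z : ℂˣ) : ℂ) = 0 from sum_hom_units_eq_zero _ hne, zero_mul]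
  have h1 : ∑ χ : IrrCharacter X, (χ : X → ℂ) 1 * ∑ z : M, (χ : X → ℂ) z = (Nat.card X : ℂ) := by
    simp only [Finset.mul_sum]
    rw [Finset.sum_comm, Finset.sum_congr rfl fun (z : M) _ => Char.sum_degree_mul_apply (z : X),
      Finset.sum_eq_single (1 : M)]
    · simp
    · exact fun z _ hz => if_neg fun e => hz (Subtype.ext e)
    · exact fun h => absurd (Finset.mem_univ _) h
  simp only [hin, mul_ite, mul_zero, ← Finset.sum_filter] at h1
  rw [Finset.sum_congr rfl fun (χ : IrrCharacter X) _ => show (χ : X → ℂ) 1 * ((Nat.card M : ℂ) * (χ : X → ℂ) 1) =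
      (Nat.card M : ℂ) * ((charDegree (χ : X → ℂ) ^ 2 : ℕ) : ℂ) by
    rw [CharApp.DegreeSets.apply_one χ.2]; push_cast; ring, ← Finset.mul_sum, ← Nat.cast_sum,
    ← Nat.cast_mul, Nat.cast_inj] at h1
  exact Nat.eq_of_mul_eq_mul_left Nat.card_pos (h1.trans (Subgroup.card_mul_index M).symm)

/-- `χ(1) ^ 2 ≤ |X : M|` for central `M`. -/
theorem sq_degree_le {χ : X → ℂ} (hχ : IsIrrCharacter X χ) (M : Subgroup X)
    (hM : ∀ z ∈ M, ∀ g : X, z * g = g * z) : charDegree χ ^ 2 ≤ M.index := by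
  classical
  haveI : Fintype X := Fintype.ofFinite X
  obtain ⟨ω, hω⟩ := exists_central_hom hχ M hM
  set d : ℝ := (charDegree χ : ℝ) with hd
  have hval : ∀ x ∈ M, Complex.normSq (χ x) = d ^ 2 := by
    intro x hx
    have e : ∀ z : M, χ (z : X) = (ω z : ℂ) * (d : ℂ) := fun z => by
      have := hω z 1
      rw [mul_one, CharApp.DegreeSets.apply_one hχ] at this
      rw [this, hd]; simp
    apply Complex.ofReal_injective
    rw [← Complex.mul_conj, ← Char.IsCharacter.apply_inv (Char.IsIrrCharacter.isCharacter hχ),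
      e ⟨x, hx⟩, show χ x⁻¹ = (ω ⟨x, hx⟩⁻¹ : ℂ) * (d : ℂ) from e ⟨x, hx⟩⁻¹, map_inv,
      Units.val_inv_eq_inv_val]
    push_cast
    field_simp
  have htot : ∑ g : X, Complex.normSq (χ g) = (Nat.card X : ℝ) := by
    have h := Char.classInner_irr_self hχ
    rw [classInner, inv_mul_eq_iff_eq_mul₀ (Nat.cast_ne_zero.2 Nat.card_pos.ne'), mul_one] at h
    apply Complex.ofReal_injective
    push_cast
    rw [← h]
    exact Finset.sum_congr rfl fun g _ => (Complex.mul_conj _).symm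
  have hle : ∑ g ∈ Finset.univ.filter (fun g : X => g ∈ M), Complex.normSq (χ g) ≤
      ∑ g : X, Complex.normSq (χ g) :=
    Finset.sum_le_sum_of_subset_of_nonneg (Finset.filter_subset _ _) fun g _ _ => Complex.normSq_nonneg _
  rw [Finset.sum_congr rfl fun g hg => hval g (Finset.mem_filter.1 hg).2, Finset.sum_const,
    nsmul_eq_mul, htot, ← Fintype.card_subtype, ← Nat.card_eq_fintype_card,
    ← Subgroup.card_mul_index M, hd, ← Nat.cast_pow, ← Nat.cast_mul, Nat.cast_le] at hle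
  exact Nat.le_of_mul_le_mul_left hle Nat.card_pos

/-- A fixed-point-free automorphism fixes only the principal character. -/
theorem fixed_trivial (α : X ≃* X) (hα : ∀ x, α x = x → x = 1) {χ : X → ℂ} (hχ : IsIrrCharacter X χ)
    (hfix : χ ∘ α = χ) : χ = 1 := by
  have hinj : Function.Injective fun x => x⁻¹ * α x := fun x y e => by
    have e' : x⁻¹ * α x = y⁻¹ * α y := e
    exact mul_inv_eq_one.1 (hα _ (by
      rw [map_mul, map_inv, show α x = x * (y⁻¹ * α y) by rw [← e', mul_inv_cancel_left],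
        mul_assoc, mul_assoc, mul_inv_cancel, mul_one]))
  have h1 : Nat.card {K : ConjClasses X // ConjClasses.map α.toMonoidHom K = K} = 1 := by
    rw [Nat.card_eq_one_iff_exists]
    refine ⟨⟨ConjClasses.mk 1, ConjClasses.mk_eq_mk_iff_isConj.2 (by simp)⟩, fun K => Subtype.ext ?_⟩
    obtain ⟨x, hx⟩ := ConjClasses.mk_surjective K.1
    have h := K.2
    rw [← hx] at h ⊢
    obtain ⟨c, hc⟩ := isConj_iff.1 (ConjClasses.mk_eq_mk_iff_isConj.1 h)
    obtain ⟨v, hv⟩ := (Finite.surjective_of_injective hinj) c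
    have hv' : v⁻¹ * α v = c := hv
    have e : α (v * x * v⁻¹) = v * x * v⁻¹ := by
      have hc' : c * α x * c⁻¹ = x := hc
      rw [← hv'] at hc'
      rw [map_mul, map_mul, map_inv]
      conv_rhs => rw [← hc']
      group
    rw [conj_eq_one_iff.1 (hα _ e)]
  rw [CharApp.card_fixed_automorphism, Nat.card_eq_one_iff_unique] at h1
  have h := @Subsingleton.elim _ h1.1
    (⟨⟨χ, hχ⟩, hfix⟩ : {χ : IrrCharacter X // (χ : X → ℂ) ∘ α = (χ : X → ℂ)})
    ⟨⟨1, Char.isIrrCharacter_one⟩, rfl⟩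
  exact congrArg (fun x : {χ : IrrCharacter X // (χ : X → ℂ) ∘ α = (χ : X → ℂ)} => x.1.1) h

end Cfsg.Agent.SuzukiRankOne.Kernel
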