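import Cfsg.Agent.Lib.SuzukiRankOne.Kernel.Special

/-!
A family for every orbit of non-trivial characters of the odd part.

* `fam_free` : trivial stabiliser
* `fam_stab` : stabiliser of prime order
-/

set_option autoImplicit false
set_option linter.unusedSectionVars false

namespace Cfsg.Agent.SuzukiRankOne.Kernel

open MulAction Cfsg Cfsg.Agent Cfsg.Agent.RankOne
open scoped ComplexConjugate Classical

universe u v

variable {G : Type u} {Ω : Type v} [Group G] [Fintype G] [MulAction G Ω] {a : Ω} {t : G} {Q : Subgroup G}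

local notation "DD" => (stabilizer G a ⊓ stabilizer G (t • a) : Subgroup G)
local notation "II" => Cfsg.involutionsIn (stabilizer G a : Set G)

theorem sq_add_four_le {p : ℕ} (hp : 5 ≤ p) : p * p + 4 ≤ 2 ^ p := by
  induction p, hp using Nat.le_induction with
  | base => norm_num
  | succ n hn ih =>
    rw [pow_succ]
    nlinarith

theorem add_two_le_two_pow {p : ℕ} (hp : 3 ≤ p) : p + 2 ≤ 2 ^ p := by
  induction p, hp using Nat.le_induction with
  | base => norm_num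
  | succ n hn ih =>
    rw [pow_succ]
    linarith

theorem rep_count_small {p m d : ℕ} (hp3 : 3 ≤ p) (hp : Nat.Prime p) (hm : 2 ^ p - 2 ≤ p * m)
    (hd : d ^ 2 ≤ 2 ^ p) : d ≤ m := by
  by_contra hlt
  push Not at hlt
  obtain ⟨c, rfl⟩ : ∃ c, d = c + 1 := ⟨d - 1, by omega⟩
  have hmc : p * m ≤ p * c := Nat.mul_le_mul_left _ (by omega)
  rcases Nat.lt_or_ge p 5 with h5 | h5
  · obtain rfl : p = 3 := by
      have : p ≠ 4 := fun e => by subst e; norm_num at hp
      omega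
    norm_num at hd hm
    nlinarith
  · have h := sq_add_four_le h5
    generalize 2 ^ p = q at h hd hm
    have h1 : q - 2 ≤ p * (c + 1) := by nlinarith
    have h2 : (q - 2) * (q - 2) ≤ p * (c + 1) * (p * (c + 1)) := Nat.mul_le_mul h1 h1
    obtain ⟨w, rfl⟩ : ∃ w, q = w + 2 := ⟨q - 2, by omega⟩
    simp only [Nat.add_sub_cancel] at h2
    have h3 : p * p * (c + 1) ^ 2 ≤ p * p * (w + 2) := Nat.mul_le_mul_left _ hd
    have h4 : p * p * (w + 2) ≤ (w - 2) * (w + 2) := Nat.mul_le_mul_right _ (by omega)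
    obtain ⟨z, rfl⟩ : ∃ z, w = z + 2 := ⟨w - 2, by omega⟩
    simp only [Nat.add_sub_cancel] at h4
    nlinarith

theorem big_count {q x f : ℕ} (hbound : x * (q - 1) + 1 ≤ q ^ 2) (hsplit : q ^ 2 ≤ f + x + 1)
    (hf : f ≤ (q - 2) * (q - 1)) (hq : 8 ≤ q) : False := by
  obtain ⟨w, rfl⟩ : ∃ w, q = w + 2 := ⟨q - 2, by omega⟩
  rw [show w + 2 - 1 = w + 1 by omega] at hbound hf
  rw [Nat.add_sub_cancel] at hf
  have h3 : x ≤ w + 3 := by
    by_contra h3
    have : (w + 4) * (w + 1) ≤ x * (w + 1) := Nat.mul_le_mul_right _ (by omega)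
    nlinarith
  nlinarith

namespace Ctx

variable (C : Ctx G Ω a t Q) (P : Split Q)
include C

/-- Trivial on the involutions. -/
def TrivZ (ψ : IrrCharacter P.S) : Prop := ∀ z ∈ C.zS P, (ψ : P.S → ℂ) z = (ψ : P.S → ℂ) 1

theorem charDegree_trivZ {ψ : IrrCharacter P.S} (h : C.TrivZ P ψ) : charDegree (ψ : P.S → ℂ) = 1 := by
  have h1 := C.linear_of_trivial P ψ.2 h
  rw [CharApp.DegreeSets.apply_one ψ.2] at h1
  exact_mod_cast h1

theorem charDegree_pos (ψ : IrrCharacter P.S) : 1 ≤ charDegree (ψ : P.S → ℂ) :=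
  Nat.pos_of_ne_zero fun h => Char.IsIrrCharacter.apply_one_ne_zero ψ.2 (by
    rw [CharApp.DegreeSets.apply_one ψ.2, h, Nat.cast_zero])

theorem sum_sq_S [Fintype (IrrCharacter P.S)] :
    ∑ ψ : IrrCharacter P.S, (charDegree (ψ : P.S → ℂ) : ℝ) ^ 2 = ((2 ^ P.k : ℕ) : ℝ) := by
  have h := Char.sum_sq_degrees (G := P.S)
  rw [P.card_S, Finset.sum_congr rfl fun χ _ => by rw [CharApp.DegreeSets.apply_one χ.2]] at h
  exact_mod_cast h

theorem sum_sq_not (M : Subgroup P.S) (hM : M ≤ C.zS P) [Fintype (IrrCharacter P.S)] :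
    ∑ ψ ∈ Finset.univ.filter (fun ψ : IrrCharacter P.S => ¬ ∀ z ∈ M, (ψ : P.S → ℂ) z = (ψ : P.S → ℂ) 1),
      (charDegree (ψ : P.S → ℂ) : ℝ) ^ 2 = ((2 ^ P.k : ℕ) : ℝ) - (M.index : ℝ) := by
  have h := sum_sq_kernel M (fun z hz g => C.zS_central P z (hM hz) g)
  rw [eq_sub_iff_add_eq, ← C.sum_sq_S P,
    ← Finset.sum_filter_add_sum_filter_not Finset.univ
      (fun ψ : IrrCharacter P.S => ∀ z ∈ M, (ψ : P.S → ℂ) z = (ψ : P.S → ℂ) 1), add_comm, ← h]
  push_cast
  rfl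

theorem card_trivZ [Fintype (IrrCharacter P.S)] :
    (Finset.univ.filter (C.TrivZ P)).card = (C.zS P).index := by
  rw [← sum_sq_kernel (C.zS P) (C.zS_central P), Finset.card_eq_sum_ones]
  refine Finset.sum_congr (by ext; simp [TrivZ]) fun χ hχ => ?_
  rw [C.charDegree_trivZ P (Finset.mem_filter.1 hχ).2, one_pow]

/-- The family for a trivial stabiliser. -/
theorem fam_free [Fintype ↥DD] {s : G} (hs : s ∈ II) {lam : IrrCharacter P.R}
    (hne : (lam : P.R → ℂ) ≠ 1) (hT : C.tt P (lam : P.R → ℂ) = ⊥) :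
    C.Fam P s (C.orb P lam) ((2 ^ P.k : ℕ) : ℝ) 4 := by
  haveI : Fintype (IrrCharacter P.S) := Fintype.ofFinite _
  have hq := C.four_le_qq.1
  have hidx0 : 0 < (C.zS P).index := Nat.pos_of_ne_zero Subgroup.index_ne_zero_of_finite
  have hkey := C.index_zS_mul P
  have hst : ∀ d ∈ C.stabR P (lam : P.R → ℂ), d = 1 := fun d hd => by
    have h : (d : G) ∈ C.tt P (lam : P.R → ℂ) := Subgroup.mem_map_of_mem _ hd
    rw [hT, Subgroup.mem_bot] at h
    exact Subtype.ext h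
  have hcard : Nat.card (C.stabR P (lam : P.R → ℂ)) = 1 := by
    rw [← C.card_tt, hT, Subgroup.card_bot]
  set M := Finset.univ.filter (C.TrivZ P) with hM
  set Psi := Finset.univ.filter fun ψ : IrrCharacter P.S => ¬ C.TrivZ P ψ with hPsi
  have hsum : ∑ ψ ∈ Psi, (charDegree (ψ : P.S → ℂ) : ℝ) ^ 2 =
      ((2 ^ P.k : ℕ) : ℝ) - ((C.zS P).index : ℝ) := by
    rw [← C.sum_sq_not P (C.zS P) le_rfl]
    exact Finset.sum_congr (by ext; simp [hPsi, TrivZ]) fun _ _ => rfl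
  have hcM : M.card = (C.zS P).index := C.card_trivZ P
  refine C.fam_anchor P hs hne M Psi ⟨⟨1, C.one_irr P⟩, Finset.mem_filter.2 ⟨Finset.mem_univ _, fun z _ => rfl⟩⟩
    ?_ (fun μ hμ => (Finset.mem_filter.1 hμ).2) (fun ψ hψ => (Finset.mem_filter.1 hψ).2) ?_ ?_ ?_ ?_ ?_
  · rw [Finset.nonempty_iff_ne_empty]
    intro h
    rw [h, Finset.sum_empty] at hsum
    have h1 : 2 ^ P.k = (C.zS P).index := by exact_mod_cast (sub_eq_zero.1 hsum.symm)
    rw [h1] at hkey
    nlinarith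
  · intro ψ _
    have h := C.degree_sq_le P ψ.2
    have := C.charDegree_pos P ψ
    rw [hcM]
    nlinarith
  · intro μ _ μ' _ d hd h
    obtain rfl := hst d hd
    exact ⟨Subtype.ext ((funext fun x => congrArg (μ : P.S → ℂ) (C.cjS_one P x)).symm.trans h), rfl⟩
  · exact fun ψ _ d hd _ => hst d hd
  · rw [hsum, hcard, hcM]
    simp
  · rw [hcard, hcM]
    have h4 : 4 ≤ Psi.card + (C.zS P).index := by
      rcases C.S_cases P with h | ⟨-, h | h⟩
      · have h1 : ∀ ψ : IrrCharacter P.S, charDegree (ψ : P.S → ℂ) = 1 := fun ψ => by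
          have h2 := CharApp.DegreeSets.apply_one ψ.2
          rw [Char.apply_one_eq_one_of_comm h ψ] at h2
          exact_mod_cast h2.symm
        rw [Finset.sum_congr rfl fun ψ _ => by rw [h1 ψ], Finset.sum_const] at hsum
        simp only [Nat.cast_one, one_pow, nsmul_eq_mul, mul_one] at hsum
        have h3 : Psi.card + (C.zS P).index = 2 ^ P.k := by exact_mod_cast (eq_sub_iff_add_eq.1 hsum)
        rw [h3, ← hkey]
        nlinarith
      · omega
      · nlinarith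
    have : ((4 : ℕ) : ℝ) ≤ ((Psi.card + (C.zS P).index : ℕ) : ℝ) := by exact_mod_cast h4
    push_cast at this ⊢
    linarith

theorem trivZ_twist {ψ ψ' : IrrCharacter P.S} {d : ↥DD}
    (h : (ψ : P.S → ℂ) ∘ C.cjS P (C.dq d) = (ψ' : P.S → ℂ)) : C.TrivZ P ψ ↔ C.TrivZ P ψ' :=
  C.triv_twist P h

/-- The twist of a character of the 2-part. -/
noncomputable def twS (d : ↥DD) (ψ : IrrCharacter P.S) : IrrCharacter P.S :=
  ⟨(ψ : P.S → ℂ) ∘ C.cjS P (C.dq d), Char.IsIrrCharacter.comp_equiv ψ.2 (C.autS P (C.dq d))⟩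

theorem twS_one (ψ : IrrCharacter P.S) : C.twS P 1 ψ = ψ :=
  Subtype.ext (funext fun x => congrArg (ψ : P.S → ℂ) (C.cjS_one P x))

theorem twS_mul (d e : ↥DD) (ψ : IrrCharacter P.S) : C.twS P (d * e) ψ = C.twS P d (C.twS P e ψ) :=
  Subtype.ext (funext fun x => congrArg (ψ : P.S → ℂ) (C.cjS_mul P d e x))

theorem twS_inj (d : ↥DD) : Function.Injective (C.twS P d) := fun x y e => by
  have := congrArg (C.twS P d⁻¹) e
  rwa [← C.twS_mul, ← C.twS_mul, inv_mul_cancel, C.twS_one, C.twS_one] at this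

theorem trivZ_twS (d : ↥DD) {ψ : IrrCharacter P.S} (h : C.TrivZ P ψ) : C.TrivZ P (C.twS P d ψ) :=
  (C.trivZ_twist P (ψ' := C.twS P d ψ) rfl).1 h

/-- A non-principal character trivial on the involutions is moved by `K`. -/
theorem eq_one_of_kk_fix_S {k : ↥DD} (hk : (k : G) ∈ C.kk) (hk1 : (k : G) ≠ 1) {ψ : IrrCharacter P.S}
    (h : C.twS P k ψ = ψ) : (ψ : P.S → ℂ) = 1 :=
  fixed_trivial (C.autS P (C.dq k)) (fun x hx => Subtype.ext (Subtype.ext (C.kk_fpf hk hk1 (x : Q).2 (by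
    have h1 := congrArg (fun w : P.S => ((w : Q) : G)) hx
    change (k : G)⁻¹ * ((x : Q) : G) * k = ((x : Q) : G) at h1
    rw [mul_assoc, inv_mul_eq_iff_eq_mul] at h1
    exact h1.symm)))) ψ.2 (congrArg Subtype.val h)

/-- Each orbit of `K` contains at most one non-principal fixed character. -/
theorem fixed_bound [Fintype (IrrCharacter P.S)] {d₀ : ↥DD} {s₀ : G} (hs₀ : s₀ ∈ II)
    (hone : ∀ z ∈ II, (z * (d₀ : G) = (d₀ : G) * z ↔ z = s₀)) :
    (Finset.univ.filter fun ψ : IrrCharacter P.S =>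
        C.TrivZ P ψ ∧ (ψ : P.S → ℂ) ≠ 1 ∧ C.twS P d₀ ψ = ψ).card * (C.qq - 1) + 1 ≤
      (C.zS P).index := by
  haveI : Fintype C.kk := Fintype.ofFinite _
  let kd : C.kk → ↥DD := fun k => ⟨k, C.kk_le k.2⟩
  have hkk : Fintype.card C.kk = C.qq - 1 := by
    rw [← Nat.card_eq_fintype_card]
    have := C.card_kk
    omega
  set F := Finset.univ.filter fun ψ : IrrCharacter P.S =>
    C.TrivZ P ψ ∧ (ψ : P.S → ℂ) ≠ 1 ∧ C.twS P d₀ ψ = ψ with hF
  have hk : ∀ {ψ : IrrCharacter P.S}, (ψ : P.S → ℂ) ≠ 1 → ∀ {k : C.kk}, C.twS P d₀ ψ = ψ →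
      C.twS P d₀ (C.twS P (kd k) ψ) = C.twS P (kd k) ψ → k = 1 := by
    intro ψ hψ k h1 h2
    by_contra hk1
    have h3 : C.twS P ((kd k)⁻¹ * (d₀ * kd k * d₀⁻¹)) ψ = ψ := by
      conv_lhs => rw [← h1]
      rw [← C.twS_mul, show (kd k)⁻¹ * (d₀ * kd k * d₀⁻¹) * d₀ = (kd k)⁻¹ * (d₀ * kd k) by group,
        C.twS_mul, C.twS_mul, h2, ← C.twS_mul, inv_mul_cancel, C.twS_one]
    refine hψ (C.eq_one_of_kk_fix_S P (k := (kd k)⁻¹ * (d₀ * kd k * d₀⁻¹)) ?_ ?_ h3)
    · exact mul_mem (inv_mem k.2) (C.kk_normal d₀.2 k.2)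
    · intro e
      have e' : (d₀ : G) * k = k * d₀ := by
        have e1 : (k : G)⁻¹ * ((d₀ : G) * k * (d₀ : G)⁻¹) = 1 := e
        rw [inv_mul_eq_one] at e1
        conv_rhs => rw [e1]
        group
      have hs' : (k : G)⁻¹ * s₀ * k ∈ II := C.ii_conj hs₀ (C.kk_le k.2).1
      have hc : (k : G)⁻¹ * s₀ * k * d₀ = d₀ * ((k : G)⁻¹ * s₀ * k) := by
        have h4 := (hone s₀ hs₀).2 rfl
        have h5 : (d₀ : G) * (k : G)⁻¹ = (k : G)⁻¹ * d₀ := by
          rw [eq_inv_mul_iff_mul_eq, ← mul_assoc, ← e', mul_inv_cancel_right]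
        calc (k : G)⁻¹ * s₀ * k * d₀ = (k : G)⁻¹ * (s₀ * d₀) * k := by rw [mul_assoc _ (k : G), ← e']; group
          _ = ((k : G)⁻¹ * d₀) * s₀ * k := by rw [h4]; group
          _ = _ := by rw [← h5]; group
      have h6 := (hone _ hs').1 hc
      refine hk1 (Subtype.ext (C.kk_fix hs₀ k.2 ?_))
      rw [mul_assoc, inv_mul_eq_iff_eq_mul] at h6
      exact h6
  have hinj : Set.InjOn (fun x : IrrCharacter P.S × C.kk => C.twS P (kd x.2) x.1) ↑(F ×ˢ (Finset.univ : Finset C.kk)) := by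
    rintro ⟨ψ, k⟩ hx ⟨ψ', k'⟩ hx' e
    simp only [Finset.coe_product, Set.mem_prod, hF, Finset.coe_filter, Set.mem_setOf_eq, Finset.mem_univ,
      true_and, Finset.coe_univ, Set.mem_univ, and_true] at hx hx'
    obtain ⟨-, hψ, hfx⟩ := hx
    obtain ⟨-, -, hfx'⟩ := hx'
    have h1 : C.twS P (kd (k'⁻¹ * k)) ψ = ψ' := by
      rw [show kd (k'⁻¹ * k) = (kd k')⁻¹ * kd k from Subtype.ext rfl, C.twS_mul, show
        C.twS P (kd k) ψ = C.twS P (kd k') ψ' from e, ← C.twS_mul, inv_mul_cancel, C.twS_one]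
    have h2 := hk hψ (k := k'⁻¹ * k) hfx (by rw [h1]; exact hfx')
    rw [h2, show kd 1 = 1 from rfl, C.twS_one] at h1
    rw [inv_mul_eq_one] at h2
    rw [h1, h2]
  have hmaps : ∀ x ∈ F ×ˢ (Finset.univ : Finset C.kk), C.twS P (kd x.2) x.1 ∈
      (Finset.univ.filter (C.TrivZ P)).erase ⟨1, C.one_irr P⟩ := by
    rintro ⟨ψ, k⟩ hx
    simp only [Finset.mem_product, hF, Finset.mem_filter, Finset.mem_univ, true_and, and_true] at hx
    refine Finset.mem_erase.2 ⟨fun e => hx.2.1 ?_, Finset.mem_filter.2 ⟨Finset.mem_univ _, C.trivZ_twS P _ hx.1⟩⟩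
    have h1 := congrArg (C.twS P (kd k)⁻¹) e
    rw [← C.twS_mul, inv_mul_cancel, C.twS_one] at h1
    exact congrArg Subtype.val h1
  have h := Finset.card_le_card_of_injOn _ hmaps hinj
  rw [Finset.card_product, Finset.card_univ, hkk, Finset.card_erase_of_mem
    (show (⟨1, C.one_irr P⟩ : IrrCharacter P.S) ∈ _ from Finset.mem_filter.2 ⟨Finset.mem_univ _, fun z _ => rfl⟩),
    C.card_trivZ P] at h
  have : 0 < (C.zS P).index := Nat.pos_of_ne_zero Subgroup.index_ne_zero_of_finite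
  omega

/-- The family for a stabiliser of prime order. -/
theorem fam_stab [Fintype ↥DD] {s : G} (hs : s ∈ II) {lam : IrrCharacter P.R}
    (hne : (lam : P.R → ℂ) ≠ 1) {n : ℕ} (hn : n.Prime) (hn3 : 3 ≤ n) (hq : C.qq = 2 ^ n)
    (hcard : Nat.card (C.tt P (lam : P.R → ℂ)) = n) {s₀ : G} (hs₀ : s₀ ∈ II)
    (hone : ∀ d ∈ C.tt P (lam : P.R → ℂ), d ≠ 1 → ∀ z ∈ II, (z * d = d * z ↔ z = s₀)) :
    C.Fam P s (C.orb P lam) (((C.zS P).index : ℝ) * ((C.qq : ℝ) - 2)) 0 := by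
  by_cases hidx : (C.zS P).index = 1
  · rw [hidx, Nat.cast_one, one_mul]
    exact C.fam_special P hs hidx hne (hcard ▸ hn) (hcard ▸ hn3) hs₀ hone
  haveI : Fintype (IrrCharacter P.S) := Fintype.ofFinite _
  haveI : Fintype (C.stabR P (lam : P.R → ℂ)) := Fintype.ofFinite _
  haveI := Fact.mk hn
  have hcT : Nat.card (C.stabR P (lam : P.R → ℂ)) = n := by rw [← C.card_tt, hcard]
  obtain ⟨⟨d₀, hd₀⟩, hd₀1⟩ : ∃ d : C.stabR P (lam : P.R → ℂ), d ≠ 1 := by
    haveI : Nontrivial (C.stabR P (lam : P.R → ℂ)) := Finite.one_lt_card_iff_nontrivial.1 (by omega)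
    exact exists_ne 1
  have hd₀G : (d₀ : G) ∈ C.tt P (lam : P.R → ℂ) := Subgroup.mem_map_of_mem _ hd₀
  have hone₀ := hone _ hd₀G fun e => hd₀1 (Subtype.ext (Subtype.ext e))
  obtain ⟨M1, hM1z, hM1idx, hM1fix⟩ := C.exists_moved P hs₀ hd₀G d₀.2 hone₀
  have hfixall : ∀ {ψ : IrrCharacter P.S} {d : ↥DD}, d ∈ C.stabR P (lam : P.R → ℂ) → d ≠ 1 →
      C.twS P d ψ = ψ → C.twS P d₀ ψ = ψ := by
    intro ψ d hd hd1 h
    let stab : Subgroup ↥DD :=
      { carrier := {e | C.twS P e ψ = ψ}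
        one_mem' := C.twS_one P ψ
        mul_mem' := fun {e f} he hf => by
          show C.twS P (e * f) ψ = ψ
          rw [C.twS_mul, hf, he]
        inv_mem' := fun {e} he => by
          show C.twS P e⁻¹ ψ = ψ
          conv_lhs => rw [← (he : C.twS P e ψ = ψ)]
          rw [← C.twS_mul, inv_mul_cancel, C.twS_one] }
    have hgen : Subgroup.zpowers (⟨d, hd⟩ : C.stabR P (lam : P.R → ℂ)) = ⊤ :=
      zpowers_eq_top_of_prime_card hcT fun e => hd1 (congrArg Subtype.val e)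
    obtain ⟨i, hi⟩ := Subgroup.mem_zpowers_iff.1
      (show (⟨d₀, hd₀⟩ : C.stabR P (lam : P.R → ℂ)) ∈ Subgroup.zpowers (⟨d, hd⟩ : C.stabR P (lam : P.R → ℂ)) by
        rw [hgen]; trivial)
    rw [show d₀ = d ^ i from (congrArg Subtype.val hi).symm.trans (SubgroupClass.coe_zpow _ _)]
    exact zpow_mem (show d ∈ stab from h) i
  set Psi := Finset.univ.filter fun ψ : IrrCharacter P.S =>
    ¬ ∀ z ∈ M1, (ψ : P.S → ℂ) z = (ψ : P.S → ℂ) 1 with hPsi
  set Fr := Finset.univ.filter fun ψ : IrrCharacter P.S => C.TrivZ P ψ ∧ C.twS P d₀ ψ ≠ ψ with hFr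
  set ob : IrrCharacter P.S → Finset (IrrCharacter P.S) :=
    fun ψ => Finset.univ.image fun d : C.stabR P (lam : P.R → ℂ) => C.twS P d.1 ψ with hob
  have hFrfree : ∀ {ψ}, ψ ∈ Fr → ∀ d ∈ C.stabR P (lam : P.R → ℂ), C.twS P d ψ = ψ → d = 1 := by
    intro ψ hψ d hd h
    by_contra hd1
    exact (Finset.mem_filter.1 hψ).2.2 (hfixall hd hd1 h)
  have hobsize : ∀ ψ, (ob ψ).card ≤ n := fun ψ => by
    refine Finset.card_image_le.trans ?_
    rw [Finset.card_univ, ← Nat.card_eq_fintype_card, hcT]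
  choose rep hrep hrepo using fun o : ↥(Fr.image ob) => Finset.mem_image.1 o.2
  set M := Finset.univ.image rep with hM
  have hreinj : Function.Injective rep := fun o o' e =>
    Subtype.ext ((hrepo o).symm.trans ((congrArg ob e).trans (hrepo o')))
  have hMcard : Fr.card ≤ n * M.card := by
    rw [hM, Finset.card_image_of_injective _ hreinj, Finset.card_univ, Fintype.card_coe]
    calc Fr.card ≤ ((Fr.image ob).biUnion fun o => o).card := Finset.card_le_card fun ψ hψ =>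
          Finset.mem_biUnion.2 ⟨ob ψ, Finset.mem_image_of_mem _ hψ,
            Finset.mem_image.2 ⟨1, Finset.mem_univ _, C.twS_one P ψ⟩⟩
      _ ≤ ∑ o ∈ Fr.image ob, o.card := Finset.card_biUnion_le
      _ ≤ ∑ _o ∈ Fr.image ob, n := Finset.sum_le_sum fun o ho => by
          obtain ⟨ψ, -, rfl⟩ := Finset.mem_image.1 ho
          exact hobsize ψ
      _ = n * (Fr.image ob).card := by rw [Finset.sum_const, smul_eq_mul, mul_comm]
  -- the count
  have hq8 : 8 ≤ C.qq := by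
    rw [hq]
    calc 8 = 2 ^ 3 := by norm_num
      _ ≤ 2 ^ n := Nat.pow_le_pow_right (by norm_num) hn3
  set Fx := Finset.univ.filter fun ψ : IrrCharacter P.S =>
    C.TrivZ P ψ ∧ (ψ : P.S → ℂ) ≠ 1 ∧ C.twS P d₀ ψ = ψ with hFx
  have hbound : Fx.card * (C.qq - 1) + 1 ≤ (C.zS P).index := C.fixed_bound P hs₀ hone₀
  have hsplit : (C.zS P).index ≤ Fr.card + Fx.card + 1 := by
    rw [← C.card_trivZ P]
    calc (Finset.univ.filter (C.TrivZ P)).card
        ≤ (Fr ∪ Fx ∪ {⟨1, C.one_irr P⟩}).card := Finset.card_le_card fun ψ hψ => by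
          simp only [Finset.mem_filter, Finset.mem_univ, true_and] at hψ
          simp only [Finset.mem_union, hFr, hFx, Finset.mem_filter, Finset.mem_univ, true_and,
            Finset.mem_singleton]
          by_cases h1 : (ψ : P.S → ℂ) = 1
          · exact Or.inr (Subtype.ext h1)
          · by_cases h2 : C.twS P d₀ ψ = ψ
            · exact Or.inl (Or.inr ⟨hψ, h1, h2⟩)
            · exact Or.inl (Or.inl ⟨hψ, h2⟩)
      _ ≤ _ := (Finset.card_union_le _ _).trans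
          (Nat.add_le_add (Finset.card_union_le _ _) (le_of_eq (Finset.card_singleton _)))
  have hidx2 : 2 ≤ (C.zS P).index := by
    have : (C.zS P).index ≠ 0 := Subgroup.index_ne_zero_of_finite
    omega
  have hFrpos : 1 ≤ Fr.card := by
    by_contra h
    obtain ⟨w, hw⟩ : ∃ w, C.qq - 1 = w + 7 := ⟨C.qq - 8, by omega⟩
    rw [hw] at hbound
    nlinarith
  have hdeg : ∀ ψ : IrrCharacter P.S, charDegree (ψ : P.S → ℂ) ≤ M.card := by
    intro ψ
    have hd2 := C.degree_sq_le P ψ.2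
    rcases C.S_cases P with h | ⟨-, h | h⟩
    · have h1 : charDegree (ψ : P.S → ℂ) = 1 := by
        have h2 := CharApp.DegreeSets.apply_one ψ.2
        rw [Char.apply_one_eq_one_of_comm h ψ] at h2
        exact_mod_cast h2.symm
      rw [h1]
      by_contra h0
      rw [show M.card = 0 by omega, mul_zero] at hMcard
      omega
    · refine rep_count_small hn3 hn ?_ (by rw [h, hq] at hd2; exact hd2)
      rw [← hq]
      have hx : Fx.card ≤ 1 := by
        by_contra hx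
        have : 2 * (C.qq - 1) ≤ Fx.card * (C.qq - 1) := Nat.mul_le_mul_right _ (by omega)
        omega
      omega
    · rw [h] at hd2 hbound hsplit
      have hdq : charDegree (ψ : P.S → ℂ) ≤ C.qq := (Nat.pow_le_pow_iff_left two_ne_zero).1 hd2
      by_contra hlt
      have hnq : n + 2 ≤ C.qq := by
        rw [hq]
        exact add_two_le_two_pow hn3
      have h2 : n * M.card ≤ (C.qq - 2) * (C.qq - 1) := Nat.mul_le_mul (by omega) (by omega)
      exact big_count hbound hsplit (hMcard.trans h2) hq8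
  have hsum : ∑ ψ ∈ Psi, (charDegree (ψ : P.S → ℂ) : ℝ) ^ 2 =
      ((C.zS P).index : ℝ) * ((C.qq : ℝ) - 2) := by
    rw [hPsi, C.sum_sq_not P M1 hM1z, hM1idx, ← C.index_zS_mul P]
    push_cast
    ring
  refine C.fam_anchor P hs hne M Psi ?_ ?_ ?_ ?_ (fun ψ _ => hdeg ψ) ?_ ?_ ?_ ?_
  · rw [Finset.nonempty_iff_ne_empty]
    intro h
    rw [h, Finset.card_empty, mul_zero] at hMcard
    omega
  · rw [Finset.nonempty_iff_ne_empty]
    intro h
    rw [h, Finset.sum_empty] at hsum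
    have h1 : (2 : ℝ) ≤ (C.zS P).index := by exact_mod_cast hidx2
    have h2 : (8 : ℝ) ≤ C.qq := by exact_mod_cast hq8
    nlinarith
  · intro μ hμ
    obtain ⟨o, -, rfl⟩ := Finset.mem_image.1 hμ
    exact (Finset.mem_filter.1 (hrep o)).2.1
  · intro ψ hψ h
    exact (Finset.mem_filter.1 hψ).2 fun z hz => h z (hM1z hz)
  · intro μ hμ μ' hμ' d hd h
    obtain ⟨o, -, rfl⟩ := Finset.mem_image.1 hμ
    obtain ⟨o', -, rfl⟩ := Finset.mem_image.1 hμ'
    have h' : C.twS P d (rep o) = rep o' := Subtype.ext h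
    have hoo : o = o' := by
      refine Subtype.ext ((hrepo o).symm.trans (Eq.trans ?_ (hrepo o')))
      rw [← h']
      ext χ
      simp only [hob, Finset.mem_image, Finset.mem_univ, true_and]
      constructor
      · rintro ⟨e, rfl⟩
        exact ⟨e * (⟨d, hd⟩ : C.stabR P (lam : P.R → ℂ))⁻¹, by
          rw [← C.twS_mul, Subgroup.coe_mul, Subgroup.coe_inv, inv_mul_cancel_right]⟩
      · rintro ⟨e, rfl⟩
        exact ⟨e * (⟨d, hd⟩ : C.stabR P (lam : P.R → ℂ)), by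
          rw [Subgroup.coe_mul, C.twS_mul]⟩
    subst hoo
    exact ⟨rfl, hFrfree (hrep o) d hd h'⟩
  · intro ψ hψ d hd h
    by_contra hd1
    exact (Finset.mem_filter.1 hψ).2 (hM1fix _ ψ.2
      (congrArg Subtype.val (hfixall (ψ := ψ) hd hd1 (Subtype.ext h))))
  · rw [hsum]
    exact le_add_of_nonneg_right (mul_nonneg (Nat.cast_nonneg _) (Nat.cast_nonneg _))
  · exact add_nonneg (Nat.cast_nonneg _) (mul_nonneg (Nat.cast_nonneg _) (Nat.cast_nonneg _))

end Ctx

end Cfsg.Agent.SuzukiRankOne.Kernel
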