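import Cfsg.Agent.Lib.SuzukiRankOne.Kernel.Stab

/-!
Families of irreducible characters of `G` attached to invariant sets of characters of the odd part.

* `scope` : the characters `ψ ⊗ λ` with `λ` in a given set
* `Fam`, `fam_union`, `fam_build`
-/

set_option autoImplicit false
set_option linter.unusedSectionVars false

namespace Cfsg.Agent.SuzukiRankOne.Kernel

open MulAction Cfsg Cfsg.Agent Cfsg.Agent.RankOne
open scoped ComplexConjugate Classical

variable {G Ω : Type*} [Group G] [Fintype G] [MulAction G Ω] {a : Ω} {t : G} {Q : Subgroup G}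

local notation "DD" => (stabilizer G a ⊓ stabilizer G (t • a) : Subgroup G)
local notation "II" => Cfsg.involutionsIn (stabilizer G a : Set G)

/-- The characters `ψ ⊗ λ`, `λ ∈ Λ`. -/
def scope (C : Ctx G Ω a t Q) (P : Split Q) (Λ : Finset (IrrCharacter P.R)) (θ : Q → ℂ) : Prop :=
  ∃ (ψ : P.S → ℂ) (lam : IrrCharacter P.R), IsIrrCharacter P.S ψ ∧ lam ∈ Λ ∧ θ = C.theta P ψ lam

namespace Ctx

variable (C : Ctx G Ω a t Q)
include C

/-- A conjugate of a character of the odd part. -/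
noncomputable def twR (P : Split Q) (d : ↥DD) (lam : IrrCharacter P.R) : IrrCharacter P.R :=
  ⟨(lam : P.R → ℂ) ∘ C.cjR P (C.dq d), Char.IsIrrCharacter.comp_equiv lam.2 (C.autR P (C.dq d))⟩

/-- The complex conjugate. -/
noncomputable def conjR (_C : Ctx G Ω a t Q) (P : Split Q) (lam : IrrCharacter P.R) : IrrCharacter P.R :=
  ⟨fun x => conj ((lam : P.R → ℂ) x),
    haveI := Fintype.ofFinite P.R; Char.IsIrrCharacter.conj lam.2⟩

variable (P : Split Q)

theorem twR_one (lam : IrrCharacter P.R) : C.twR P 1 lam = lam :=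
  Subtype.ext (funext fun x => congrArg (lam : P.R → ℂ) (C.cjR_one P x))

theorem twR_mul (d e : ↥DD) (lam : IrrCharacter P.R) :
    C.twR P (d * e) lam = C.twR P d (C.twR P e lam) :=
  Subtype.ext (funext fun x => congrArg (lam : P.R → ℂ) (C.cjR_mul P d e x))

theorem twR_inj (d : ↥DD) : Function.Injective (C.twR P d) := fun x y e => by
  have := congrArg (C.twR P d⁻¹) e
  rwa [← C.twR_mul, ← C.twR_mul, inv_mul_cancel, C.twR_one, C.twR_one] at this

theorem twR_conj (d : ↥DD) (lam : IrrCharacter P.R) :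
    C.twR P d (C.conjR P lam) = C.conjR P (C.twR P d lam) := rfl

theorem conjR_conjR (lam : IrrCharacter P.R) : C.conjR P (C.conjR P lam) = lam :=
  Subtype.ext (funext fun _ => Complex.conj_conj _)

/-- Invariance under `D`. -/
def DInv (Λ : Finset (IrrCharacter P.R)) : Prop := ∀ lam ∈ Λ, ∀ d : ↥DD, C.twR P d lam ∈ Λ

theorem scope_sep {Λ Λ' : Finset (IrrCharacter P.R)} (h : C.DInv P Λ') (hd : Disjoint Λ Λ') :
    ∀ θ θ', scope C P Λ θ → scope C P Λ' θ' → ∀ d : ↥DD, θ' ∘ C.cjQ (C.dq d) ≠ θ := by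
  rintro _ _ ⟨ψ, lam, hψ, hlam, rfl⟩ ⟨ψ', lam', hψ', hlam', rfl⟩ d e
  rw [C.theta_comp] at e
  obtain ⟨-, e2⟩ := C.theta_inj P (Char.IsIrrCharacter.comp_equiv hψ' (C.autS P (C.dq d))) hψ
    (C.twR P d lam').2 lam.2 e
  exact Finset.disjoint_left.1 hd hlam ((Subtype.ext e2 : C.twR P d lam' = lam) ▸ h lam' hlam' d)

theorem adm_neg {p : (Q → ℂ) → Prop} {F : G → ℂ} (h : C.Adm p F) : C.Adm p (-F) := by
  obtain ⟨H, f, hQ, hH, hf, hgc, rfl, hs⟩ := h
  refine ⟨H, -f, hQ, hH, ⟨fun x y => by simp [hf.1 x y], fun x b hb hxb => by simp [hf.2 x b hb hxb]⟩,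
    Coherence.isGC_neg hgc, (Char.indFun_neg H f).symm, Submodule.neg_mem _ hs⟩

/-- Data of a family. -/
structure IsFam (s : G) (Λ : Finset (IrrCharacter P.R)) (κ ν : ℝ)
    (X Z : Finset (IrrCharacter G)) : Prop where
  gen : ∀ A ∈ X, ∃ B ∈ X, A ≠ B ∧ C.Adm (scope C P Λ) ((A : G → ℂ) - (B : G → ℂ))
  mem : ∀ Y ∈ Z, Y ∈ X ∨
    ∃ F, C.Adm (scope C P Λ) F ∧ mm F Y ≠ 0 ∧ ∀ χ, mm F χ ≠ 0 → χ = Y ∨ χ ∈ X
  abs_ww : ∀ Y ∈ Z, ∃ m : ℕ, |C.ww s Y| = (m : ℝ) * ((C.qq : ℝ) * C.vv / 2)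
  weight : κ * ((C.qq : ℝ) * C.vv / 2) ^ 2 * ∑ lam ∈ Λ, (charDegree (lam : P.R → ℂ) : ℝ) ^ 2 ≤
    (Nat.card ↥DD : ℝ) * ∑ Y ∈ Z, C.ww s Y ^ 2
  count : ν * (Λ.card : ℝ) ≤ (Nat.card ↥DD : ℝ) * (Z.card : ℝ)

/-- A family exists. -/
def Fam (s : G) (Λ : Finset (IrrCharacter P.R)) (κ ν : ℝ) : Prop :=
  ∃ X Z, C.IsFam P s Λ κ ν X Z

theorem fam_union {s : G} {Λ Λ' : Finset (IrrCharacter P.R)} {κ ν : ℝ} (hΛ' : C.DInv P Λ')
    (hd : Disjoint Λ Λ') (h : C.Fam P s Λ κ ν) (h' : C.Fam P s Λ' κ ν) :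
    C.Fam P s (Λ ∪ Λ') κ ν := by
  classical
  haveI : Fintype (IrrCharacter G) := Fintype.ofFinite _
  obtain ⟨X, Z, hF⟩ := h
  obtain ⟨X', Z', hF'⟩ := h'
  have horth : ∀ F F', C.Adm (scope C P Λ) F → C.Adm (scope C P Λ') F' → classInner F F' = 0 :=
    fun F F' => C.adm_orth (C.scope_sep P hΛ' hd)
  have hXX : ∀ A ∈ X, A ∉ X' := by
    intro A hA hA'
    obtain ⟨B, -, hAB, hg⟩ := hF.gen A hA
    obtain ⟨B', -, hAB', hg'⟩ := hF'.gen A hA'
    exact (pair_disjoint hAB hAB' (horth _ _ hg hg')).1 rfl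
  have hZX : ∀ Y ∈ Z, Y ∉ X' := by
    intro Y hY hY'
    rcases hF.mem Y hY with h | ⟨F, hadm, hne, hsupp⟩
    · exact hXX Y h hY'
    obtain ⟨B', hB', hYB, hg'⟩ := hF'.gen Y hY'
    have h0 := horth _ _ hadm hg'
    rw [Char.classInner_sub_right, mm_spec (C.adm_gc hadm), mm_spec (C.adm_gc hadm), sub_eq_zero,
      Int.cast_inj] at h0
    rcases hsupp B' (h0 ▸ hne) with e | e
    · exact hYB e.symm
    · exact hXX B' e hB'
  have hXZ : ∀ Y ∈ Z', Y ∉ X := by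
    intro Y hY hY'
    rcases hF'.mem Y hY with h | ⟨F, hadm, hne, hsupp⟩
    · exact hXX Y hY' h
    obtain ⟨B, hB, hYB, hg⟩ := hF.gen Y hY'
    have h0 : classInner F ((Y : G → ℂ) - (B : G → ℂ)) = 0 :=
      Coherence.classInner_symm_zero (horth _ _ hg hadm)
    rw [Char.classInner_sub_right, mm_spec (C.adm_gc hadm), mm_spec (C.adm_gc hadm), sub_eq_zero,
      Int.cast_inj] at h0
    rcases hsupp B (h0 ▸ hne) with e | e
    · exact hYB e.symm
    · exact hXX B hB e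
  have hZZ : Disjoint Z Z' := by
    rw [Finset.disjoint_left]
    intro Y hY hY'
    rcases hF.mem Y hY with h | ⟨F, hadm, hne, hsupp⟩
    · exact hXZ Y hY' h
    rcases hF'.mem Y hY' with h | ⟨F', hadm', hne', hsupp'⟩
    · exact hZX Y hY h
    have h0 := horth F F' hadm hadm'
    rw [mm_inner (C.adm_gc hadm) (C.adm_gc hadm'), Int.cast_eq_zero, Finset.sum_eq_single Y] at h0
    · exact mul_ne_zero hne hne' h0
    · intro χ _ hχ
      by_contra hne2
      rcases hsupp χ (left_ne_zero_of_mul hne2) with e | e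
      · exact hχ e
      rcases hsupp' χ (right_ne_zero_of_mul hne2) with e' | e'
      · exact hχ e'
      exact hXX χ e e'
    · exact fun hm => absurd (Finset.mem_univ _) hm
  have hmono : ∀ θ, scope C P Λ θ → scope C P (Λ ∪ Λ') θ := fun θ ⟨ψ, lam, h1, h2, h3⟩ =>
    ⟨ψ, lam, h1, Finset.mem_union_left _ h2, h3⟩
  have hmono' : ∀ θ, scope C P Λ' θ → scope C P (Λ ∪ Λ') θ := fun θ ⟨ψ, lam, h1, h2, h3⟩ =>
    ⟨ψ, lam, h1, Finset.mem_union_right _ h2, h3⟩
  refine ⟨X ∪ X', Z ∪ Z', ⟨?_, ?_, ?_, ?_, ?_⟩⟩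
  · intro A hA
    rcases Finset.mem_union.1 hA with h | h
    · obtain ⟨B, hB, hne, hg⟩ := hF.gen A h
      exact ⟨B, Finset.mem_union_left _ hB, hne, C.adm_mono hmono hg⟩
    · obtain ⟨B, hB, hne, hg⟩ := hF'.gen A h
      exact ⟨B, Finset.mem_union_right _ hB, hne, C.adm_mono hmono' hg⟩
  · intro Y hY
    rcases Finset.mem_union.1 hY with h | h
    · exact (hF.mem Y h).imp (Finset.mem_union_left _) fun ⟨F, h1, h2, h3⟩ =>
        ⟨F, C.adm_mono hmono h1, h2, fun χ hχ => (h3 χ hχ).imp id (Finset.mem_union_left _)⟩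
    · exact (hF'.mem Y h).imp (Finset.mem_union_right _) fun ⟨F, h1, h2, h3⟩ =>
        ⟨F, C.adm_mono hmono' h1, h2, fun χ hχ => (h3 χ hχ).imp id (Finset.mem_union_right _)⟩
  · intro Y hY
    rcases Finset.mem_union.1 hY with h | h
    · exact hF.abs_ww Y h
    · exact hF'.abs_ww Y h
  · rw [Finset.sum_union hd, Finset.sum_union hZZ, mul_add, mul_add]
    exact add_le_add hF.weight hF'.weight
  · rw [Finset.card_union_of_disjoint hd, Finset.card_union_of_disjoint hZZ, Nat.cast_add,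
      Nat.cast_add, mul_add, mul_add]
    exact add_le_add hF.count hF'.count

theorem fam_empty (s : G) (κ ν : ℝ) : C.Fam P s ∅ κ ν :=
  ⟨∅, ∅, ⟨fun A h => absurd h (Finset.notMem_empty A), fun Y h => absurd h (Finset.notMem_empty Y),
    fun Y h => absurd h (Finset.notMem_empty Y), by simp, by simp⟩⟩

/-- The orbits of a character and of its conjugate. -/
noncomputable def orb [Fintype ↥DD] (lam : IrrCharacter P.R) : Finset (IrrCharacter P.R) :=
  Finset.univ.image (fun d : ↥DD => C.twR P d lam) ∪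
    Finset.univ.image (fun d : ↥DD => C.twR P d (C.conjR P lam))

theorem mem_orb [Fintype ↥DD] {lam mu : IrrCharacter P.R} :
    mu ∈ C.orb P lam ↔ ∃ d, mu = C.twR P d lam ∨ mu = C.twR P d (C.conjR P lam) := by
  classical
  simp only [orb, Finset.mem_union, Finset.mem_image, Finset.mem_univ, true_and]
  constructor
  · rintro (⟨d, e⟩ | ⟨d, e⟩)
    · exact ⟨d, Or.inl e.symm⟩
    · exact ⟨d, Or.inr e.symm⟩
  · rintro ⟨d, e | e⟩
    · exact Or.inl ⟨d, e.symm⟩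
    · exact Or.inr ⟨d, e.symm⟩

theorem orb_self [Fintype ↥DD] (lam : IrrCharacter P.R) : lam ∈ C.orb P lam :=
  (C.mem_orb P).2 ⟨1, Or.inl (C.twR_one P lam).symm⟩

theorem orb_dinv [Fintype ↥DD] (lam : IrrCharacter P.R) : C.DInv P (C.orb P lam) := by
  intro mu hmu d
  obtain ⟨e, h | h⟩ := (C.mem_orb P).1 hmu <;> subst h
  · exact (C.mem_orb P).2 ⟨d * e, Or.inl (C.twR_mul P d e lam).symm⟩
  · exact (C.mem_orb P).2 ⟨d * e, Or.inr (C.twR_mul P d e _).symm⟩

theorem orb_conj [Fintype ↥DD] {lam mu : IrrCharacter P.R} (h : mu ∈ C.orb P lam) :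
    C.conjR P mu ∈ C.orb P lam := by
  obtain ⟨e, h | h⟩ := (C.mem_orb P).1 h <;> subst h
  · exact (C.mem_orb P).2 ⟨e, Or.inr (C.twR_conj P e lam).symm⟩
  · exact (C.mem_orb P).2 ⟨e, Or.inl (by rw [← C.twR_conj, C.conjR_conjR])⟩

/-- Families for the orbits give a family for any invariant set. -/
theorem fam_build [Fintype ↥DD] {s : G} {κ ν : ℝ} (Λ : Finset (IrrCharacter P.R)) (hinv : C.DInv P Λ)
    (hconj : ∀ lam ∈ Λ, C.conjR P lam ∈ Λ) (horb : ∀ lam ∈ Λ, C.Fam P s (C.orb P lam) κ ν) :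
    C.Fam P s Λ κ ν := by
  classical
  induction Λ using Finset.strongInduction with
  | _ Λ ih =>
    rcases Λ.eq_empty_or_nonempty with rfl | ⟨lam, hlam⟩
    · exact C.fam_empty P s κ ν
    have hsub : C.orb P lam ⊆ Λ := fun mu hmu => by
      obtain ⟨e, h | h⟩ := (C.mem_orb P).1 hmu <;> subst h
      · exact hinv _ hlam e
      · exact hinv _ (hconj _ hlam) e
    have hrest : ∀ d : ↥DD, ∀ mu ∈ Λ \ C.orb P lam, C.twR P d mu ∈ Λ \ C.orb P lam := by
      intro d mu hmu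
      obtain ⟨h1, h2⟩ := Finset.mem_sdiff.1 hmu
      refine Finset.mem_sdiff.2 ⟨hinv mu h1 d, fun h => h2 ?_⟩
      have := C.orb_dinv P lam _ h d⁻¹
      rwa [← C.twR_mul, inv_mul_cancel, C.twR_one] at this
    have h1 := ih (Λ \ C.orb P lam) (Finset.sdiff_ssubset hsub ⟨lam, C.orb_self P lam⟩)
      (fun mu hmu d => hrest d mu hmu) (fun mu hmu => ?_) (fun mu hmu => horb mu (Finset.mem_sdiff.1 hmu).1)
    · have := C.fam_union P (C.orb_dinv P lam) Finset.sdiff_disjoint h1 (horb lam hlam)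
      rwa [Finset.sdiff_union_of_subset hsub] at this
    · obtain ⟨h1, h2⟩ := Finset.mem_sdiff.1 hmu
      refine Finset.mem_sdiff.2 ⟨hconj mu h1, fun h => h2 ?_⟩
      have := C.orb_conj P h
      rwa [C.conjR_conjR] at this

end Ctx

end Cfsg.Agent.SuzukiRankOne.Kernel
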