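import Cfsg.Agent.Lib.SuzukiRankOne.Kernel.Basics
import Cfsg.Agent.Lib.Char.Induced
import Cfsg.Agent.Lib.Char.Orth
import Cfsg.Agent.Lib.Char.Virtual
import Cfsg.Agent.Lib.CharApp.Schur
import Cfsg.Agent.Lib.Coherence.Virtual
import Cfsg.Agent.Lib.CharApp.DegreeSets

/-!
Functions induced from subgroups between `Q` and `G_a` and vanishing at elements with a second
fixed point; the identity at an involution `s`.

* `inner_ind` : the inner product of two induced functions
* `ident` : `∑ ⟨Ind f, χ⟩ χ(s)²/χ(1) = c Ind f (s)`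
* `sum_mm_*` : its consequences for `w χ = χ(s) - c χ(1)/2`
* `sum_sv_sq`, `sum_jj_sq_lt` : the column of `s`, the bound on degrees
-/

set_option autoImplicit false
set_option linter.unusedSectionVars false

namespace Cfsg.Agent.SuzukiRankOne.Kernel

open MulAction Cfsg Cfsg.Agent Cfsg.Agent.RankOne
open scoped ComplexConjugate

variable {G Ω : Type*} [Group G] [Fintype G] [MulAction G Ω] {a : Ω} {t : G} {Q : Subgroup G}

local notation "DD" => (stabilizer G a ⊓ stabilizer G (t • a) : Subgroup G)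
local notation "II" => Cfsg.involutionsIn (stabilizer G a : Set G)

/-- A class function of `H` vanishing at elements with a fixed point other than `a`. -/
def Supp (a : Ω) (H : Subgroup G) (f : H → ℂ) : Prop :=
  IsClassFunction H f ∧ ∀ x : H, ∀ b : Ω, b ≠ a → (x : G) • b = b → f x = 0

variable {H H' : Subgroup G} {f : H → ℂ} {g : H' → ℂ}

theorem ext_conj (hf : IsClassFunction H f) {y : G} (hy : y ∈ H) (x : G) :
    extendByZero H f (y * x * y⁻¹) = extendByZero H f x := by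
  by_cases hx : x ∈ H
  · rw [show y * x * y⁻¹ = ((⟨y, hy⟩ * ⟨x, hx⟩ * (⟨y, hy⟩ : H)⁻¹ : H) : G) from rfl,
      Char.extendByZero_coe, hf, ← Char.extendByZero_coe H f ⟨x, hx⟩]
  · rw [Char.extendByZero_not_mem H f hx, Char.extendByZero_not_mem]
    intro h
    exact hx (by simpa [mul_assoc] using mul_mem (mul_mem (inv_mem hy) h) hy)

theorem Supp.ext_eq_zero (hf : Supp a H f) {x : G} {b : Ω} (hb : b ≠ a) (hxb : x • b = b) :
    extendByZero H f x = 0 := by
  by_cases hx : x ∈ H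
  · rw [show x = ((⟨x, hx⟩ : H) : G) from rfl, Char.extendByZero_coe]
    exact hf.2 _ b hb hxb
  · exact Char.extendByZero_not_mem H f hx

namespace Ctx

variable (C : Ctx G Ω a t Q)
include C

theorem supp_one (hf : Supp a H f) : f 1 = 0 :=
  hf.2 1 (t • a) (Setup.t_smul_ne C.setup) (by simp)

theorem ind_apply [Fintype ↥DD] (hQ : Q ≤ H) (hH : H ≤ stabilizer G a) (hf : IsClassFunction H f)
    {x : G} (hx : ∀ b : Ω, x • b = b → b = a) :
    indFun H f x = ((Nat.card Q : ℂ) / Nat.card H) *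
      ∑ d : ↥DD, extendByZero H f ((d : G)⁻¹ * x * d) := by
  classical
  haveI : Fintype Q := Fintype.ofFinite _
  let F : Q × ↥DD → G := fun p => (p.1 : G) * p.2
  have hF : Function.Injective F := by
    rintro ⟨y, k⟩ ⟨y', k'⟩ e
    obtain ⟨e1, e2⟩ := Setup.decomp_unique C.setup y.2 y'.2 k.2 k'.2 e
    exact Prod.ext (Subtype.ext e1) (Subtype.ext e2)
  rw [indFun, ← Finset.sum_subset (Finset.subset_univ (Finset.univ.image F))
    (f := fun y : G => extendByZero H f (y⁻¹ * x * y))]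
  · rw [Finset.sum_image fun p _ q _ e => hF e, Fintype.sum_prod_type,
      Finset.sum_congr rfl (g := fun _ : Q => ∑ d : ↥DD, extendByZero H f ((d : G)⁻¹ * x * d))
        fun y _ => Finset.sum_congr rfl fun d _ => ?_,
      Finset.sum_const, Finset.card_univ, nsmul_eq_mul, ← Nat.card_eq_fintype_card]
    · ring
    · have hy' : (d : G)⁻¹ * y * d ∈ H := hQ (Setup.conj_mem_inv C.setup d.2.1 y.2)
      rw [← ext_conj hf hy' ((F (y, d))⁻¹ * x * F (y, d))]
      congr 1
      simp only [F]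
      group
  · intro y _ hy
    refine Char.extendByZero_not_mem _ _ fun hm => hy ?_
    obtain ⟨z, hz, k, hk, rfl⟩ := Setup.exists_decomp C.setup (C.mem_stab_of_fix hx (hH hm))
    exact Finset.mem_image.2 ⟨(⟨z, hz⟩, ⟨k, hk⟩), Finset.mem_univ _, rfl⟩

/-- The inner product of two induced functions. -/
theorem inner_ind [Fintype ↥DD] [Fintype H] (hQ' : Q ≤ H') (hH' : H' ≤ stabilizer G a)
    (hf : Supp a H f) (hg : IsClassFunction H' g) :
    classInner (indFun H f) (indFun H' g) = ((Nat.card Q : ℂ) / Nat.card H') *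
      ∑ d : ↥DD, classInner f (fun x : H => extendByZero H' g ((d : G)⁻¹ * x * d)) := by
  rw [Char.frobenius_reciprocity H f (Char.indFun_isClassFunction H' g)]
  simp only [classInner, ← Finset.mul_sum]
  rw [mul_left_comm, Finset.sum_comm, Finset.mul_sum (a := (Nat.card Q : ℂ) / Nat.card H')]
  congr 1
  refine Finset.sum_congr rfl fun x _ => ?_
  by_cases hfx : f x = 0
  · simp [hfx]
  have hx : ∀ b : Ω, (x : G) • b = b → b = a := fun b hb => by
    by_contra hne
    exact hfx (hf.2 x b hne hb)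
  rw [C.ind_apply hQ' hH' hg hx, map_mul, map_sum, map_div₀, map_natCast, map_natCast,
    mul_left_comm, Finset.mul_sum]

theorem ind_apply_ii [Fintype ↥DD] [Fintype (II : Set G)] (hQ : Q ≤ H) (hH : H ≤ stabilizer G a)
    (hf : IsClassFunction H f) {s : G} (hs : s ∈ II) :
    indFun H f s = ((Nat.card Q : ℂ) / Nat.card H) * C.vv *
      ∑ z : (II : Set G), extendByZero H f z := by
  rw [C.ind_apply hQ hH hf fun b => C.fix_unique_of_Q (C.ii_mem hs) hs.2.1, mul_assoc]
  congr 1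
  refine mul_left_cancel₀ (b := ∑ d : ↥DD, extendByZero H f ((d : G)⁻¹ * s * d))
    (a := ((C.qq - 1 : ℕ) : ℂ)) (Nat.cast_ne_zero.2 (by have := C.four_le_qq.1; omega)) ?_
  rw [C.sum_conj hs (extendByZero H f), C.card_DD, Nat.cast_mul]
  ring

/-- `c = (q-2)/((q-1)(h+1))`. -/
noncomputable def cc : ℝ := ((C.qq : ℝ) - 2) / (((C.qq : ℝ) - 1) * ((Nat.card Q : ℝ) + 1))

theorem cc_pos : 0 < C.cc := by
  have : (4 : ℝ) ≤ C.qq := by exact_mod_cast C.four_le_qq.1
  exact div_pos (by linarith) (mul_pos (by linarith) (by positivity))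

theorem conj_ii_iff {s b : G} (hs : s ∈ II) : b * s * b⁻¹ ∈ II ↔ b ∈ stabilizer G a := by
  refine ⟨fun h => ?_, fun h => C.ii_conj' hs h⟩
  rw [mem_stabilizer_iff]
  refine C.fix_unique_of_Q (C.ii_mem h) h.2.1 ?_
  rw [mul_smul, mul_smul, inv_smul_smul, show s • a = a from hs.1]

theorem ident [Fintype (IrrCharacter G)] (hf : Supp a H f) (hH : H ≤ stabilizer G a) {s : G}
    (hs : s ∈ II) :
    ∑ χ : IrrCharacter G, classInner (indFun H f) (χ : G → ℂ) *
        ((χ : G → ℂ) s ^ 2 / (χ : G → ℂ) 1) = (C.cc : ℂ) * indFun H f s := by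
  classical
  set F := indFun H f with hF
  have hFc : IsClassFunction G F := Char.indFun_isClassFunction H f
  have hexp : ∀ g, F g = ∑ χ : IrrCharacter G, classInner F (χ : G → ℂ) * (χ : G → ℂ) g := fun g => by
    conv_lhs => rw [Char.classFunction_eq_sum hFc]
    simp [Finset.sum_apply]
  have hχ : ∀ χ : IrrCharacter G, (χ : G → ℂ) s ^ 2 / (χ : G → ℂ) 1 =
      (Nat.card G : ℂ)⁻¹ * ∑ b : G, (χ : G → ℂ) (b * s * b⁻¹ * s) := by
    intro χ
    obtain ⟨n, ρ, hρ, e⟩ := χ.2
    rw [← e]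
    haveI := hρ
    rw [CharApp.sum_char_conj_mul ρ s s, Representation.char_one]
    have : (Nat.card G : ℂ) ≠ 0 := Nat.cast_ne_zero.2 Nat.card_pos.ne'
    field_simp
  rw [Finset.sum_congr rfl fun χ _ => by rw [hχ χ, mul_left_comm, Finset.mul_sum], ← Finset.mul_sum,
    Finset.sum_comm, Finset.sum_congr rfl fun b _ => (hexp _).symm]
  have hsi : s⁻¹ = s := inv_eq_of_mul_eq_one_right hs.2.2
  have hterm : ∀ b : G, F (b * s * b⁻¹ * s) =
      if b ∈ stabilizer G a ∧ b ∉ Subgroup.centralizer {s} then F s else 0 := by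
    intro b
    have hu2 : b * s * b⁻¹ * (b * s * b⁻¹) = 1 := by
      rw [show b * s * b⁻¹ * (b * s * b⁻¹) = b * (s * s) * b⁻¹ by group, hs.2.2]; group
    have hu1 : b * s * b⁻¹ ≠ 1 := fun e => hs.2.1 (conj_eq_one_iff.1 e)
    generalize hu : b * s * b⁻¹ = u at hu2 hu1
    have hiff : b ∈ Subgroup.centralizer {s} ↔ u = s := by
      rw [← hu, mul_inv_eq_iff_eq_mul, Subgroup.mem_centralizer_iff]
      simp [eq_comm]
    by_cases hP : b ∈ stabilizer G a ∧ b ∉ Subgroup.centralizer {s}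
    · rw [if_pos hP]
      have huI : u ∈ II := hu ▸ (C.conj_ii_iff hs).2 hP.1
      have hus : u * s ∈ II := by
        refine ⟨mul_mem huI.1 hs.1, fun e => hP.2 (hiff.2 ?_), C.zz_sq (mul_mem (C.ii_zz huI) (C.ii_zz hs))⟩
        rwa [mul_eq_one_iff_eq_inv, hsi] at e
      obtain ⟨k, -, hk⟩ := Setup.exists_conj_kk C.setup hus hs
      conv_rhs => rw [← hk]
      have := hFc (u * s) k⁻¹
      rw [inv_inv] at this
      exact this.symm
    · rw [if_neg hP]
      by_contra h0
      obtain ⟨y, hy⟩ : ∃ y : G, extendByZero H f (y⁻¹ * (u * s) * y) ≠ 0 := by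
        by_contra hn
        push Not at hn
        exact h0 (by simp [hF, indFun, hn])
      have honly : ∀ p : Ω, (u * s) • p = p → p = y • a := by
        intro p hp
        by_contra hne
        refine hy (hf.ext_eq_zero (b := y⁻¹ • p) (fun e => hne (by rw [← e, smul_inv_smul])) ?_)
        rw [mul_smul, mul_smul, smul_inv_smul, hp]
      have hfix : (u * s) • (y • a) = y • a := by
        have hm : y⁻¹ * (u * s) * y ∈ H := by
          by_contra hn
          exact hy (Char.extendByZero_not_mem H f hn)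
        have := hH hm
        rw [mem_stabilizer_iff, mul_smul, mul_smul, inv_smul_eq_iff] at this
        exact this
      have hinv : (u * s) * u = u * (u * s)⁻¹ := by
        rw [mul_inv_rev, inv_eq_of_mul_eq_one_right hu2, hsi, mul_assoc]
      have hup : u • (y • a) = y • a := honly _ (by
        rw [← mul_smul, hinv, mul_smul, inv_smul_eq_iff.2 hfix.symm])
      have hsp : s • (y • a) = y • a := by
        calc s • (y • a) = (u * (u * s)) • (y • a) := by rw [← mul_assoc, hu2, one_mul]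
          _ = y • a := by rw [mul_smul, hfix, hup]
      have hya : y • a = a := C.fix_unique_of_Q (C.ii_mem hs) hs.2.1 hsp
      rw [hya] at hup
      have huI : u ∈ II := ⟨hup, hu1, hu2⟩
      have hb : b ∈ stabilizer G a := (C.conj_ii_iff hs).1 (hu ▸ huI)
      have : u = s := hiff.1 (by
        by_contra hc
        exact hP ⟨hb, hc⟩)
      refine hy ?_
      rw [this, hs.2.2, mul_one, inv_mul_cancel, ← Subgroup.coe_one H, Char.extendByZero_coe]
      exact C.supp_one hf
  rw [Finset.sum_congr rfl fun b _ => hterm b, ← Finset.sum_filter, Finset.sum_const, nsmul_eq_mul]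
  have hcard : ((Finset.univ.filter fun b => b ∈ stabilizer G a ∧ b ∉ Subgroup.centralizer {s}).card : ℂ) =
      Nat.card (stabilizer G a) - Nat.card ↥(Subgroup.centralizer ({s} : Set G)) := by
    rw [eq_sub_iff_add_eq, ← Nat.cast_add]
    congr 1
    rw [Nat.card_eq_fintype_card, Nat.card_eq_fintype_card, Fintype.card_subtype, Fintype.card_subtype,
      ← Finset.card_union_of_disjoint (Finset.disjoint_filter.2 fun b _ h => h.2)]
    congr 1
    ext b
    simp only [Finset.mem_union, Finset.mem_filter, Finset.mem_univ, true_and]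
    constructor
    · rintro (h | h)
      · exact h.1
      · exact C.centralizer_ii_le hs h
    · intro h
      by_cases hc : b ∈ Subgroup.centralizer {s}
      · exact Or.inr hc
      · exact Or.inl ⟨h, hc⟩
  rw [hcard, C.card_centralizer hs, Setup.card_stabilizer C.setup, Setup.card_group C.setup, C.card_DD]
  have hq : (4 : ℕ) ≤ C.qq := C.four_le_qq.1
  simp only [cc, Nat.cast_mul, Nat.cast_sub (show 1 ≤ C.qq by omega)]
  push_cast
  have h1 : (Nat.card Q : ℂ) ≠ 0 := Nat.cast_ne_zero.2 Nat.card_pos.ne'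
  have h2 : (C.qq : ℂ) - 1 ≠ 0 := by
    rw [sub_ne_zero]; exact_mod_cast (show C.qq ≠ 1 by omega)
  have h3 : (C.vv : ℂ) ≠ 0 := Nat.cast_ne_zero.2 C.vv_pos.ne'
  have h4 : (Nat.card Q : ℂ) + 1 ≠ 0 := by exact_mod_cast Nat.succ_ne_zero (Nat.card Q)
  field_simp
  ring

end Ctx

/-- The value at an involution, an integer. -/
noncomputable def sv (s : G) (χ : G → ℂ) : ℤ := ⌊(χ s).re⌋

theorem sv_spec {χ : G → ℂ} (hχ : IsCharacter G χ) {s : G} (hs : s * s = 1) :
    χ s = (sv s χ : ℂ) := by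
  obtain ⟨n, ρ, rfl⟩ := hχ
  obtain ⟨b, μ, hμ, hroot⟩ := Char.exists_eigenbasis ρ s
  have hμ2 : ∀ i, μ i = 1 ∨ μ i = -1 := by
    intro i
    rw [← sq_eq_one_iff]
    have h2 : orderOf s ∣ 2 := orderOf_dvd_of_pow_eq_one (by rw [pow_two, hs])
    obtain ⟨k, hk⟩ := h2
    rw [hk, pow_mul, hroot i, one_pow]
  obtain ⟨z, hz⟩ : ∃ z : ℤ, ρ.character s = (z : ℂ) := by
    refine ⟨∑ i, if μ i = 1 then 1 else -1, ?_⟩
    rw [Char.character_eq_sum_eigenvalues ρ s b μ hμ]
    push_cast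
    refine Finset.sum_congr rfl fun i _ => ?_
    rcases hμ2 i with e | e <;> rw [e] <;> norm_num
  rw [sv, hz, Complex.intCast_re, Int.floor_intCast]

/-- The multiplicity of an irreducible character in a virtual character. -/
noncomputable def mm (F : G → ℂ) (χ : IrrCharacter G) : ℤ := ⌊(classInner F (χ : G → ℂ)).re⌋

theorem mm_spec {F : G → ℂ} (hF : IsGeneralizedCharacter G F) (χ : IrrCharacter G) :
    classInner F (χ : G → ℂ) = (mm F χ : ℂ) := by
  obtain ⟨z, hz⟩ := Coherence.classInner_gc_int hF (Coherence.isGC_of_irr χ.2)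
  rw [mm, hz, Complex.intCast_re, Int.floor_intCast]

theorem mm_expand [Fintype (IrrCharacter G)] {F : G → ℂ} (hF : IsGeneralizedCharacter G F) (g : G) :
    F g = ∑ χ : IrrCharacter G, (mm F χ : ℂ) * (χ : G → ℂ) g := by
  conv_lhs => rw [Char.classFunction_eq_sum (Coherence.isGC_isClassFunction hF)]
  simp [Finset.sum_apply, mm_spec hF]

theorem mm_inner [Fintype (IrrCharacter G)] {F F' : G → ℂ} (hF : IsGeneralizedCharacter G F)
    (hF' : IsGeneralizedCharacter G F') :
    classInner F F' = ((∑ χ : IrrCharacter G, mm F χ * mm F' χ : ℤ) : ℂ) := by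
  rw [Char.classInner_eq_sum (Coherence.isGC_isClassFunction hF) F']
  push_cast
  refine Finset.sum_congr rfl fun χ _ => ?_
  rw [mm_spec hF, mm_spec hF', map_intCast]

theorem mm_smul_irr {ψ : IrrCharacter G} {F : G → ℂ} {ε : ℤ}
    (e : F = (ε : ℂ) • (ψ : G → ℂ)) (χ : IrrCharacter G) [Decidable (χ = ψ)] :
    mm F χ = if χ = ψ then ε else 0 := by
  classical
  rw [mm, e, Char.classInner_smul_left, Char.classInner_irr ψ.2 χ.2]
  by_cases h : χ = ψ
  · subst h; simp
  · rw [if_neg h, if_neg fun h' => h (Subtype.ext h'.symm)]; simp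

/-- `χ(1)` as a real number. -/
noncomputable def dg (χ : IrrCharacter G) : ℝ := (charDegree (χ : G → ℂ) : ℝ)

theorem dg_spec (χ : IrrCharacter G) : (χ : G → ℂ) 1 = (dg χ : ℂ) := by
  rw [dg, CharApp.DegreeSets.apply_one χ.2]; simp

theorem dg_pos (χ : IrrCharacter G) : 0 < dg χ := by
  have h := Char.IsIrrCharacter.apply_one_ne_zero χ.2
  rw [CharApp.DegreeSets.apply_one χ.2, Nat.cast_ne_zero] at h
  exact Nat.cast_pos.2 (Nat.pos_of_ne_zero h)

namespace Ctx

variable (C : Ctx G Ω a t Q)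
include C

/-- `χ(s) - c χ(1)/2`. -/
noncomputable def ww (s : G) (χ : IrrCharacter G) : ℝ :=
  (sv s (χ : G → ℂ) : ℝ) - C.cc * dg χ / 2

variable {s : G}

theorem sum_mm_one [Fintype (IrrCharacter G)] (hf : Supp a H f)
    (hgc : IsGeneralizedCharacter G (indFun H f)) :
    ∑ χ : IrrCharacter G, (mm (indFun H f) χ : ℝ) * dg χ = 0 := by
  have h := mm_expand hgc 1
  rw [Char.indFun_one_apply, C.supp_one hf, mul_zero] at h
  simp only [dg_spec] at h
  exact_mod_cast h.symm

theorem sum_mm_sv [Fintype (IrrCharacter G)] (hgc : IsGeneralizedCharacter G (indFun H f))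
    (hs : s ∈ II) {σ : ℝ} (hσ : indFun H f s = (σ : ℂ)) :
    ∑ χ : IrrCharacter G, (mm (indFun H f) χ : ℝ) * (sv s (χ : G → ℂ) : ℝ) = σ := by
  have h := mm_expand hgc s
  rw [hσ, Finset.sum_congr rfl fun χ _ => by
    rw [sv_spec (Char.IsIrrCharacter.isCharacter χ.2) hs.2.2]] at h
  exact_mod_cast h.symm

theorem sum_mm_ww [Fintype (IrrCharacter G)] (hf : Supp a H f)
    (hgc : IsGeneralizedCharacter G (indFun H f)) (hs : s ∈ II) {σ : ℝ}
    (hσ : indFun H f s = (σ : ℂ)) :
    ∑ χ : IrrCharacter G, (mm (indFun H f) χ : ℝ) * C.ww s χ = σ := by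
  simp only [ww, mul_sub, Finset.sum_sub_distrib]
  rw [C.sum_mm_sv hgc hs hσ, Finset.sum_congr rfl fun χ _ =>
    show (mm (indFun H f) χ : ℝ) * (C.cc * dg χ / 2) = C.cc / 2 * ((mm (indFun H f) χ : ℝ) * dg χ) by ring,
    ← Finset.mul_sum, C.sum_mm_one hf hgc, mul_zero, sub_zero]

theorem sum_mm_ww_sq [Fintype (IrrCharacter G)] (hf : Supp a H f) (hH : H ≤ stabilizer G a)
    (hgc : IsGeneralizedCharacter G (indFun H f)) (hs : s ∈ II) {σ : ℝ}
    (hσ : indFun H f s = (σ : ℂ)) :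
    ∑ χ : IrrCharacter G, (mm (indFun H f) χ : ℝ) * (C.ww s χ ^ 2 / dg χ) = 0 := by
  have h2 : ∑ χ : IrrCharacter G, (mm (indFun H f) χ : ℝ) *
      ((sv s (χ : G → ℂ) : ℝ) ^ 2 / dg χ) = C.cc * σ := by
    have h := C.ident hf hH hs
    rw [hσ, Finset.sum_congr rfl fun χ _ => by
      rw [mm_spec hgc, sv_spec (Char.IsIrrCharacter.isCharacter χ.2) hs.2.2, dg_spec]] at h
    exact_mod_cast h
  have e : ∀ χ : IrrCharacter G, (mm (indFun H f) χ : ℝ) * (C.ww s χ ^ 2 / dg χ) =
      (mm (indFun H f) χ : ℝ) * ((sv s (χ : G → ℂ) : ℝ) ^ 2 / dg χ) -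
      C.cc * ((mm (indFun H f) χ : ℝ) * (sv s (χ : G → ℂ) : ℝ)) +
      C.cc ^ 2 / 4 * ((mm (indFun H f) χ : ℝ) * dg χ) := fun χ => by
    have := (dg_pos χ).ne'
    unfold ww
    field_simp
    ring
  rw [Finset.sum_congr rfl fun χ _ => e χ, Finset.sum_add_distrib, Finset.sum_sub_distrib,
    ← Finset.mul_sum, ← Finset.mul_sum, h2, C.sum_mm_sv hgc hs hσ, C.sum_mm_one hf hgc]
  ring

theorem sum_sv_sq [Fintype (IrrCharacter G)] (hs : s ∈ II) :
    ∑ χ : IrrCharacter G, (sv s (χ : G → ℂ) : ℝ) ^ 2 = (Nat.card Q : ℝ) * C.vv := by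
  classical
  have h := Char.column_orth (G := G) s s
  rw [if_pos (IsConj.refl s), C.card_centralizer hs, Finset.sum_congr rfl fun χ _ => by
    rw [sv_spec (Char.IsIrrCharacter.isCharacter χ.2) hs.2.2, map_intCast, ← pow_two]] at h
  exact_mod_cast h

theorem sum_jj_sq_lt [Fintype (IrrCharacter G)] :
    ∑ χ : IrrCharacter G, (C.cc * dg χ) ^ 2 < (Nat.card ↥DD : ℝ) := by
  have h : ∑ χ : IrrCharacter G, dg χ ^ 2 = (Nat.card G : ℝ) := by
    have h := Char.sum_sq_degrees (G := G)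
    simp only [dg_spec] at h
    exact_mod_cast h
  simp only [mul_pow, ← Finset.mul_sum, h]
  rw [Setup.card_group C.setup, cc]
  push_cast
  have hq : (4 : ℝ) ≤ C.qq := by exact_mod_cast C.four_le_qq.1
  have hQ : (0 : ℝ) < Nat.card Q := Nat.cast_pos.2 Nat.card_pos
  have hD : (0 : ℝ) < Nat.card ↥DD := Nat.cast_pos.2 Nat.card_pos
  have hden : (0 : ℝ) < (((C.qq : ℝ) - 1) * ((Nat.card Q : ℝ) + 1)) ^ 2 :=
    pow_pos (mul_pos (by linarith) (by linarith)) 2
  rw [div_pow, div_mul_eq_mul_div, div_lt_iff₀ hden]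
  have h1 : ((C.qq : ℝ) - 2) ^ 2 < ((C.qq : ℝ) - 1) ^ 2 := by nlinarith
  calc ((C.qq : ℝ) - 2) ^ 2 * ((Nat.card Q : ℝ) * Nat.card ↥DD * (Nat.card Q + 1))
      < ((C.qq : ℝ) - 1) ^ 2 * ((Nat.card Q : ℝ) * Nat.card ↥DD * (Nat.card Q + 1)) := by
        gcongr
    _ ≤ _ := by
        have : (Nat.card Q : ℝ) * (Nat.card Q + 1) ≤ ((Nat.card Q : ℝ) + 1) ^ 2 := by nlinarith
        calc ((C.qq : ℝ) - 1) ^ 2 * ((Nat.card Q : ℝ) * Nat.card ↥DD * (Nat.card Q + 1))
            = Nat.card ↥DD * (((C.qq : ℝ) - 1) ^ 2 * ((Nat.card Q : ℝ) * (Nat.card Q + 1))) := by ring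
          _ ≤ Nat.card ↥DD * (((C.qq : ℝ) - 1) ^ 2 * ((Nat.card Q : ℝ) + 1) ^ 2) := by gcongr
          _ = _ := by ring

end Ctx

end Cfsg.Agent.SuzukiRankOne.Kernel
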