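import Cfsg.Agent.Lib.SuzukiRankOne.Kernel.Pairs
import Cfsg.Agent.Lib.BSW.Dual

/-!
Linear characters of `Q` under the action of `D`.

* `inj_of_fpf` : `x ↦ x⁻¹ xᵏ` is injective for `k ∈ K`, `k ≠ 1`
* `eq_one_of_kk_fix` : a linear character fixed by `k` is trivial
* `sum_ii_hom` : the sum over the involutions
* `extLin` : the extension to `Q T` of a `T`-invariant linear character
-/

set_option autoImplicit false
set_option linter.unusedSectionVars false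

namespace Cfsg.Agent.SuzukiRankOne.Kernel

open MulAction Cfsg Cfsg.Agent Cfsg.Agent.RankOne
open scoped ComplexConjugate

variable {G Ω : Type*} [Group G] [Fintype G] [MulAction G Ω] {a : Ω} {t : G} {Q : Subgroup G}

local notation "DD" => (stabilizer G a ⊓ stabilizer G (t • a) : Subgroup G)
local notation "II" => Cfsg.involutionsIn (stabilizer G a : Set G)

namespace Ctx

variable (C : Ctx G Ω a t Q)
include C

theorem cjQ_comp (d e : stabilizer G a) : (C.cjQ d).comp (C.cjQ e) = C.cjQ (e * d) :=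
  MonoidHom.ext fun x => Subtype.ext (show (d : G)⁻¹ * ((e : G)⁻¹ * x * e) * d =
    ((e : G) * d)⁻¹ * x * ((e : G) * d) by group)

theorem cjQ_one : C.cjQ 1 = MonoidHom.id Q := MonoidHom.ext fun x => Subtype.ext (by simp [cjQ])

theorem cjQ_apply (d : stabilizer G a) (x : Q) : (C.cjQ d x : G) = (d : G)⁻¹ * x * d := rfl

theorem inj_of_fpf {k : ↥DD} (hk : (k : G) ∈ C.kk) (hk1 : (k : G) ≠ 1) :
    Function.Injective (fun x : Q => x⁻¹ * C.cjQ (C.dq k) x) := by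
  intro x y e
  have e' : x⁻¹ * C.cjQ (C.dq k) x = y⁻¹ * C.cjQ (C.dq k) y := e
  have h1 : C.cjQ (C.dq k) (x * y⁻¹) = x * y⁻¹ := by
    rw [map_mul, map_inv,
      show C.cjQ (C.dq k) x = x * (y⁻¹ * C.cjQ (C.dq k) y) by rw [← e', mul_inv_cancel_left],
      mul_assoc, mul_assoc, mul_inv_cancel, mul_one]
  have h2 := congrArg Subtype.val h1
  rw [cjQ_apply] at h2
  have h3 : (k : G) * ((x * y⁻¹ : Q) : G) = ((x * y⁻¹ : Q) : G) * k := by
    conv_lhs => rw [← h2]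
    group
  exact mul_inv_eq_one.1 (Subtype.ext (C.kk_fpf hk hk1 (x * y⁻¹ : Q).2 h3))

theorem eq_one_of_kk_fix {lam : Q →* ℂˣ} {k : ↥DD} (hk : (k : G) ∈ C.kk) (hk1 : (k : G) ≠ 1)
    (e : ∀ x : Q, lam (C.cjQ (C.dq k) x) = lam x) : lam = 1 := by
  refine MonoidHom.ext fun z => ?_
  obtain ⟨x, hx⟩ := (Finite.surjective_of_injective (C.inj_of_fpf hk hk1)) z
  rw [← hx]
  simp [e x]

theorem sum_ii_hom [Fintype (II : Set G)] (φ : C.zz →* ℂˣ) (hφ : φ ≠ 1) :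
    ∑ z : (II : Set G), ((φ ⟨z, C.ii_zz z.2⟩ : ℂˣ) : ℂ) = -1 := by
  classical
  haveI : Fintype C.zz := Fintype.ofFinite _
  have hne : (Units.coeHom ℂ).comp φ ≠ 1 := fun e => hφ (MonoidHom.ext fun x =>
    Units.ext (DFunLike.congr_fun e x))
  have hs := sum_hom_units_eq_zero _ hne
  rw [← Finset.add_sum_erase _ _ (Finset.mem_univ (1 : C.zz)), map_one] at hs
  have hb : ∑ z : (II : Set G), ((φ ⟨z, C.ii_zz z.2⟩ : ℂˣ) : ℂ) =
      ∑ z ∈ (Finset.univ : Finset C.zz).erase 1, (Units.coeHom ℂ).comp φ z := by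
    refine Finset.sum_bij (fun z _ => ⟨(z : G), C.ii_zz z.2⟩) ?_ ?_ ?_ fun _ _ => rfl
    · intro z _
      exact Finset.mem_erase.2 ⟨fun e => z.2.2.1 (congrArg Subtype.val e), Finset.mem_univ _⟩
    · intro z _ z' _ e
      exact Subtype.ext (congrArg (fun w : C.zz => (w : G)) e)
    · intro z hz
      refine ⟨⟨z, (C.mem_zz_iff.1 z.2).resolve_left fun e => (Finset.mem_erase.1 hz).1 (Subtype.ext e)⟩,
        Finset.mem_univ _, rfl⟩
  rw [hb]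
  linear_combination hs

theorem ext_Q {H : Subgroup G} (hQ : Q ≤ H) (f : H → ℂ) (x : Q) :
    extendByZero H f (x : G) = resQ hQ f x := by
  rw [show (x : G) = ((⟨x, hQ x.2⟩ : H) : G) from rfl, Char.extendByZero_coe]
  rfl

/-- The extension to `Q T` of a `T`-invariant linear character, twisted by a character of `T`. -/
noncomputable def extLin (T : Subgroup G) (ψ : Q →* ℂˣ)
    (hψ : ∀ d : ↥DD, (d : G) ∈ T → ∀ x : Q, ψ (C.cjQ (C.dq d) x) = ψ x) (η : T →* ℂˣ) :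
    C.hh T →* ℂˣ :=
  MonoidHom.mk' (fun g => ψ ⟨_, C.qpart_mem ⟨g, C.hh_le T g.2⟩⟩ *
      η ⟨_, (C.mem_hh (g := ⟨g, C.hh_le T g.2⟩)).1 g.2⟩) fun g g' => by
    set u : stabilizer G a := ⟨g, C.hh_le T g.2⟩
    set u' : stabilizer G a := ⟨g', C.hh_le T g'.2⟩
    obtain ⟨e1, e2⟩ := C.parts_mul u u'
    have hdu : C.dpart u ∈ T := (C.mem_hh (g := u)).1 g.2
    have hdu' : C.dpart u' ∈ T := (C.mem_hh (g := u')).1 g'.2
    have a1 : (⟨C.qpart (u * u'), C.qpart_mem _⟩ : Q) = ⟨C.qpart u, C.qpart_mem u⟩ *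
        C.cjQ (C.dq ⟨C.dpart u, C.dpart_mem u⟩⁻¹) ⟨C.qpart u', C.qpart_mem u'⟩ :=
      Subtype.ext (e1.trans (by simp [cjQ_apply, mul_assoc]))
    have a2 : (⟨C.dpart (u * u'), (C.mem_hh (g := u * u')).1 (mul_mem g.2 g'.2)⟩ : T) =
        ⟨_, hdu⟩ * ⟨_, hdu'⟩ := Subtype.ext e2
    show ψ (⟨C.qpart (u * u'), C.qpart_mem _⟩ : Q) *
        η (⟨C.dpart (u * u'), (C.mem_hh (g := u * u')).1 (mul_mem g.2 g'.2)⟩ : T) = _
    rw [a1, a2, map_mul, map_mul, hψ _ (inv_mem hdu)]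
    exact mul_mul_mul_comm _ _ _ _

theorem extLin_apply {T : Subgroup G} {ψ : Q →* ℂˣ}
    {hψ : ∀ d : ↥DD, (d : G) ∈ T → ∀ x : Q, ψ (C.cjQ (C.dq d) x) = ψ x} {η : T →* ℂˣ}
    (g : C.hh T) {x d : G} (hx : x ∈ Q) (hd : d ∈ DD) (hdT : d ∈ T) (e : (g : G) = x * d) :
    C.extLin T ψ hψ η g = ψ ⟨x, hx⟩ * η ⟨d, hdT⟩ := by
  obtain ⟨e1, e2⟩ := C.parts_eq (g := ⟨g, C.hh_le T g.2⟩) hx hd e
  show ψ ⟨C.qpart _, _⟩ * η ⟨C.dpart _, _⟩ = _
  congr 2 <;> exact Subtype.ext ‹_›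

theorem resQ_extLin {T : Subgroup G} {ψ : Q →* ℂˣ}
    {hψ : ∀ d : ↥DD, (d : G) ∈ T → ∀ x : Q, ψ (C.cjQ (C.dq d) x) = ψ x} {η : T →* ℂˣ} :
    resQ (C.Q_le_hh T) (BSW.lin (C.extLin T ψ hψ η)) = BSW.lin ψ := by
  funext x
  have h := C.extLin_apply (ψ := ψ) (hψ := hψ) (η := η) ⟨(x : G), C.Q_le_hh T x.2⟩ x.2 (one_mem DD)
    (one_mem T) (mul_one _).symm
  show ((C.extLin T ψ hψ η ⟨(x : G), C.Q_le_hh T x.2⟩ : ℂˣ) : ℂ) = _
  rw [h, show (⟨(1 : G), one_mem T⟩ : T) = 1 from rfl, map_one, mul_one]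
  rfl

theorem extLin_inj {T : Subgroup G} (hT : T ≤ DD) {ψ : Q →* ℂˣ}
    {hψ : ∀ d : ↥DD, (d : G) ∈ T → ∀ x : Q, ψ (C.cjQ (C.dq d) x) = ψ x} {η η' : T →* ℂˣ}
    (h : C.extLin T ψ hψ η = C.extLin T ψ hψ η') : η = η' := by
  refine MonoidHom.ext fun d => ?_
  have e := DFunLike.congr_fun h ⟨(d : G), C.le_hh hT d.2⟩
  rw [C.extLin_apply _ (one_mem Q) (hT d.2) d.2 (one_mul _).symm,
    C.extLin_apply _ (one_mem Q) (hT d.2) d.2 (one_mul _).symm] at e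
  exact mul_left_cancel e

end Ctx

end Cfsg.Agent.SuzukiRankOne.Kernel
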