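import Cfsg.Agent.Lib.SuzukiRankOne.Kernel.Twist

/-!
Sums of twisted inner products, and induced functions of norm two.

* `sum_tw_zero`, `sum_tw_same`, `sum_tw_Q`
* `pair_of_norm_two`, `pair_disjoint`, `pair_common`
-/

set_option autoImplicit false
set_option linter.unusedSectionVars false

namespace Cfsg.Agent.SuzukiRankOne.Kernel

open MulAction Cfsg Cfsg.Agent Cfsg.Agent.RankOne
open scoped ComplexConjugate

variable {G Ω : Type*} [Group G] [Fintype G] [MulAction G Ω] {a : Ω} {t : G} {Q : Subgroup G}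

local notation "DD" => (stabilizer G a ⊓ stabilizer G (t • a) : Subgroup G)
local notation "II" => Cfsg.involutionsIn (stabilizer G a : Set G)

theorem irr_sub_inner [DecidableEq (IrrCharacter G)] (A B A' B' : IrrCharacter G) :
    classInner ((A : G → ℂ) - (B : G → ℂ)) ((A' : G → ℂ) - (B' : G → ℂ)) =
      (if A = A' then 1 else 0) - (if B = A' then 1 else 0) -
        ((if A = B' then 1 else 0) - (if B = B' then 1 else 0)) := by
  classical
  simp only [Char.classInner_sub_left, Char.classInner_sub_right, Char.classInner_irr A.2 A'.2,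
    Char.classInner_irr A.2 B'.2, Char.classInner_irr B.2 A'.2, Char.classInner_irr B.2 B'.2,
    Subtype.coe_inj]

/-- Orthogonal differences of irreducible characters have disjoint supports. -/
theorem pair_disjoint {A B A' B' : IrrCharacter G} (hAB : A ≠ B) (hAB' : A' ≠ B')
    (h : classInner ((A : G → ℂ) - (B : G → ℂ)) ((A' : G → ℂ) - (B' : G → ℂ)) = 0) :
    A ≠ A' ∧ A ≠ B' ∧ B ≠ A' ∧ B ≠ B' := by
  classical
  rw [irr_sub_inner] at h
  refine ⟨fun e => ?_, fun e => ?_, fun e => ?_, fun e => ?_⟩ <;> subst e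
  · rw [if_pos rfl, if_neg (Ne.symm hAB), if_neg hAB'] at h
    split_ifs at h <;> norm_num at h
  · rw [if_neg hAB'.symm, if_pos rfl, if_neg (Ne.symm hAB)] at h
    split_ifs at h <;> norm_num at h
  · rw [if_neg hAB, if_pos rfl, if_neg hAB'] at h
    split_ifs at h <;> norm_num at h
  · rw [if_neg hAB, if_pos rfl, if_neg hAB'.symm] at h
    split_ifs at h <;> norm_num at h

/-- Two differences with inner product one share exactly one constituent, on the same side. -/
theorem pair_common {A B A' B' : IrrCharacter G} (hAB : A ≠ B) (hAB' : A' ≠ B')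
    (h : classInner ((A : G → ℂ) - (B : G → ℂ)) ((A' : G → ℂ) - (B' : G → ℂ)) = 1) :
    (A = A' ∧ B ≠ B') ∨ (B = B' ∧ A ≠ A') := by
  classical
  rw [irr_sub_inner] at h
  by_cases e : A = A'
  · refine Or.inl ⟨e, fun e' => ?_⟩
    subst e e'
    rw [if_pos rfl, if_neg (Ne.symm hAB), if_neg hAB, if_pos rfl] at h
    norm_num at h
  · refine Or.inr ⟨?_, e⟩
    by_contra e'
    rw [if_neg e, if_neg e'] at h
    split_ifs at h <;> norm_num at h

namespace Ctx

variable (C : Ctx G Ω a t Q)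
include C

theorem sum_tw_zero [Fintype ↥DD] {H H' : Subgroup G} [Fintype H] (hQ : Q ≤ H) (hQ' : Q ≤ H')
    {ξ : H → ℂ} {ξ' : H' → ℂ} (hξ : IsIrrCharacter H ξ) (hξ' : IsIrrCharacter H' ξ')
    (hr : IsIrrCharacter Q (resQ hQ ξ)) (hr' : IsIrrCharacter Q (resQ hQ' ξ'))
    (hne : ∀ d : ↥DD, resQ hQ' ξ' ∘ C.cjQ (C.dq d) ≠ resQ hQ ξ) :
    ∑ d : ↥DD, classInner ξ (tw H ξ' (d : G)) = 0 :=
  Finset.sum_eq_zero fun d _ => C.tw_inner_zero hQ hQ' hξ hξ' hr hr' (hne d)

theorem sum_tw_same [Fintype ↥DD] {H : Subgroup G} [Fintype H] (hQ : Q ≤ H)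
    {ξ ξ' : H → ℂ} (hξ : IsIrrCharacter H ξ) (hξ' : IsIrrCharacter H ξ')
    (hr : IsIrrCharacter Q (resQ hQ ξ)) (hr' : IsIrrCharacter Q (resQ hQ ξ'))
    (T : Subgroup G) (hT : T ≤ DD) (hTH : T ≤ H)
    (hst : ∀ d : ↥DD, resQ hQ ξ' ∘ C.cjQ (C.dq d) = resQ hQ ξ ↔ (d : G) ∈ T) :
    ∑ d : ↥DD, classInner ξ (tw H ξ' (d : G)) = (Nat.card T : ℂ) * classInner ξ ξ' := by
  classical
  rw [← Finset.sum_filter_of_ne (p := fun d : ↥DD => (d : G) ∈ T) fun d _ hne => by
      by_contra hd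
      exact hne (C.tw_inner_zero hQ hQ hξ hξ' hr hr' fun e => hd ((hst d).1 e)),
    Finset.sum_congr rfl (g := fun _ => classInner ξ ξ') fun d hd => by
      rw [tw_self (Char.IsIrrCharacter.isClassFunction hξ') (hTH (Finset.mem_filter.1 hd).2)],
    Finset.sum_const, nsmul_eq_mul]
  congr 2
  rw [← Fintype.card_subtype, ← Nat.card_eq_fintype_card]
  exact Nat.card_congr
    { toFun := fun d => ⟨d.1.1, d.2⟩
      invFun := fun d => ⟨⟨d.1, hT d.2⟩, d.2⟩
      left_inv := fun d => rfl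
      right_inv := fun d => rfl }

/-- From `Q` to a subgroup. -/
theorem sum_tw_Q [Fintype ↥DD] [Fintype Q] {θ : Q → ℂ} {H' : Subgroup G} (hQ' : Q ≤ H')
    {ξ' : H' → ℂ} (hθ : IsIrrCharacter Q θ) (hr' : IsIrrCharacter Q (resQ hQ' ξ'))
    [DecidablePred fun d : ↥DD => resQ hQ' ξ' ∘ C.cjQ (C.dq d) = θ] :
    ∑ d : ↥DD, classInner θ (tw Q ξ' (d : G)) =
      ((Finset.univ.filter fun d : ↥DD => resQ hQ' ξ' ∘ C.cjQ (C.dq d) = θ).card : ℂ) := by
  classical
  rw [← Finset.sum_boole]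
  refine Finset.sum_congr rfl fun d _ => ?_
  rw [C.tw_inner_Q hQ', Char.classInner_irr hθ (C.isIrr_twist hr' _)]
  simp [eq_comm]

/-- An induced function of norm two. -/
theorem pair_of_norm_two {H : Subgroup G} {f : H → ℂ} (hf : Supp a H f) (hH : H ≤ stabilizer G a)
    (hgc : IsGeneralizedCharacter G (indFun H f))
    (h2 : classInner (indFun H f) (indFun H f) = 2) {s : G} (hs : s ∈ II) {σ : ℝ}
    (hσ : indFun H f s = (σ : ℂ)) :
    ∃ A B : IrrCharacter G, A ≠ B ∧ indFun H f = (A : G → ℂ) - (B : G → ℂ) ∧ dg A = dg B ∧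
      C.ww s A - C.ww s B = σ ∧ C.ww s A ^ 2 = C.ww s B ^ 2 := by
  classical
  haveI : Fintype (IrrCharacter G) := Fintype.ofFinite _
  obtain ⟨μ, ν, hμ, hν, hne, e⟩ := Coherence.gc_norm_two hgc h2
    (by rw [Char.indFun_one_apply, C.supp_one hf, mul_zero])
  let A : IrrCharacter G := ⟨μ, hμ⟩
  let B : IrrCharacter G := ⟨ν, hν⟩
  have hAB : A ≠ B := fun h => hne (congrArg Subtype.val h)
  have hm : ∀ χ : IrrCharacter G,
      (mm (indFun H f) χ : ℝ) = (if χ = A then 1 else 0) - (if χ = B then 1 else 0) := fun χ => by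
    have h := mm_spec hgc χ
    rw [e, Char.classInner_sub_left, Char.classInner_irr hμ χ.2, Char.classInner_irr hν χ.2] at h
    have hA : (μ = (χ : G → ℂ)) ↔ χ = A := ⟨fun h => Subtype.ext h.symm, fun h => (congrArg Subtype.val h).symm⟩
    have hB : (ν = (χ : G → ℂ)) ↔ χ = B := ⟨fun h => Subtype.ext h.symm, fun h => (congrArg Subtype.val h).symm⟩
    rw [← e] at h
    simp only [hA, hB] at h
    have : (mm (indFun H f) χ : ℂ) = (((if χ = A then 1 else 0) - (if χ = B then 1 else 0) : ℝ) : ℂ) := by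
      rw [← h]; split_ifs <;> norm_num
    exact_mod_cast this
  have hsum : ∀ x : IrrCharacter G → ℝ,
      ∑ χ : IrrCharacter G, (mm (indFun H f) χ : ℝ) * x χ = x A - x B := fun x => by
    simp [hm, sub_mul, Finset.sum_sub_distrib]
  have h1 := C.sum_mm_one hf hgc
  have h3 := C.sum_mm_ww_sq hf hH hgc hs hσ
  have h4 := C.sum_mm_ww hf hgc hs hσ
  rw [hsum] at h1 h3 h4
  have hd : dg A = dg B := sub_eq_zero.1 h1
  refine ⟨A, B, hAB, e, hd, h4, ?_⟩
  rw [hd, ← sub_div, div_eq_zero_iff] at h3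
  exact sub_eq_zero.1 (h3.resolve_right (dg_pos B).ne')

end Ctx

end Cfsg.Agent.SuzukiRankOne.Kernel
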