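import Cfsg.Agent.Lib.SuzukiRankOne.Kernel.Basics
import Cfsg.Agent.S1125

/-!
Descent to centralisers.

* `Below` : the theorem below a given order
* `Ctx.cent_two_power` : if two involutions of `G_a` centralise `d ∈ D` then `C_Q(d)` is a 2-group
* `Ctx.eq_one_of_no_ii` : an element of `D` centralising no involution is fixed-point-free on `Q`
-/

set_option autoImplicit false
set_option linter.unusedSectionVars false

namespace Cfsg.Agent.SuzukiRankOne.Kernel

open MulAction Cfsg Cfsg.Agent Cfsg.Agent.RankOne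

universe u v

/-- The theorem for groups of order less than `m`. -/
def Below (m : ℕ) : Prop :=
  ∀ (G : Type u) (Ω : Type v) [Group G] [Finite G] [MulAction G Ω] [FaithfulSMul G Ω]
    (a : Ω) (t : G) (Q : Subgroup G), Cfsg.IsRankOneSetup G Ω a t Q → TwoInvolutions G →
    Nat.card G < m → IsPGroup 2 Q

variable {G : Type u} {Ω : Type v} [Group G] [Finite G] [MulAction G Ω] {a : Ω} {t : G} {Q : Subgroup G}

local notation "DD" => (stabilizer G a ⊓ stabilizer G (t • a) : Subgroup G)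
local notation "II" => Cfsg.involutionsIn (stabilizer G a : Set G)

namespace Ctx

variable (C : Ctx G Ω a t Q)
include C

theorem three_of_commute {d : G} (hd : d ∈ DD) {x : G} (hx : x ∈ Q) (hx1 : x ≠ 1) (hc : d * x = x * d) :
    ∃ b c e : Ω, b ≠ c ∧ b ≠ e ∧ c ≠ e ∧
      ∀ y ∈ ({d} : Set G), y • b = b ∧ y • c = c ∧ y • e = e := by
  refine ⟨a, t • a, x • (t • a), (Setup.t_smul_ne C.setup).symm,
    (Setup.smul_ne_self C.setup hx (Setup.t_smul_ne C.setup)).symm,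
    fun e => hx1 (Setup.eq_one_of_fix C.setup hx (Setup.t_smul_ne C.setup) e.symm), ?_⟩
  rintro y rfl
  refine ⟨hd.1, hd.2, ?_⟩
  rw [← mul_smul, hc, mul_smul, show y • t • a = t • a from hd.2]

theorem eq_one_of_no_ii {d : G} (hd : d ∈ DD) (hno : ∀ s ∈ II, s * d ≠ d * s) {y : G} (hy : y ∈ Q)
    (hc : d * y = y * d) : y = 1 := by
  by_contra hy1
  obtain ⟨s, hs, hsc⟩ := Setup.exists_ii_centralizer C.setup (C.three_of_commute hd hy hy1 hc)
    (Set.singleton_subset_iff.2 hd)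
  exact hno s hs (Subgroup.mem_centralizer_iff.1 hsc d rfl).symm

/-- If two involutions of `G_a` centralise `d` then `C_Q(d)` is a 2-group. -/
theorem cent_two_power (hIH : Below.{u, v} (Nat.card G)) {d : G} (hd : d ∈ DD) (hd1 : d ≠ 1)
    {s₁ s₂ : G} (hs₁ : s₁ ∈ II) (hs₂ : s₂ ∈ II) (hne : s₁ ≠ s₂) (hc₁ : d * s₁ = s₁ * d)
    (hc₂ : d * s₂ = s₂ * d) {y : G} (hy : y ∈ Q) (hyc : d * y = y * d) : ∃ k, y ^ 2 ^ k = 1 := by
  haveI := C.faithful
  have h3 := C.three_of_commute hd (C.ii_mem hs₁) hs₁.2.1 hc₁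
  set Cd : Subgroup G := Subgroup.centralizer ({d} : Set G) with hCd
  have hmemC : ∀ {g : G}, g ∈ Cd ↔ d * g = g * d := fun {g} => by
    simp [hCd, Subgroup.mem_centralizer_iff]
  let F : Set Ω := {b | d • b = b}
  have hFC : ∀ g ∈ Cd, ∀ b ∈ F, g • b ∈ F := by
    intro g hg b hb
    show d • g • b = g • b
    rw [← mul_smul, hmemC.1 hg, mul_smul, show d • b = b from hb]
  let φ : Cd →* Equiv.Perm F :=
    { toFun := fun g =>
        { toFun := fun b => ⟨(g : G) • (b : Ω), hFC g g.2 b b.2⟩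
          invFun := fun b => ⟨(g : G)⁻¹ • (b : Ω), hFC _ (inv_mem g.2) b b.2⟩
          left_inv := fun b => Subtype.ext (inv_smul_smul _ _)
          right_inv := fun b => Subtype.ext (smul_inv_smul _ _) }
      map_one' := Equiv.ext fun b => Subtype.ext (one_smul _ _)
      map_mul' := fun g g' => Equiv.ext fun b => Subtype.ext (mul_smul _ _ _) }
  let act : MulAction (Cd ⧸ φ.ker) F := MulAction.compHom F (QuotientGroup.kerLift φ)
  letI := act
  have hsmul : ∀ (g : Cd) (b : F), ((g : Cd ⧸ φ.ker) • b : F) = ⟨(g : G) • (b : Ω), hFC g g.2 b b.2⟩ :=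
    fun g b => rfl
  haveI : FaithfulSMul (Cd ⧸ φ.ker) F :=
    ⟨fun {x y} h => QuotientGroup.kerLift_injective φ (Equiv.ext h)⟩
  obtain ⟨ht2, hev, hsup⟩ := S1125.result C.setup {d} (Set.singleton_subset_iff.2 hd) h3
  obtain ⟨w, hwC, hw1, hw2, hwa⟩ := Setup.exists_swap C.setup h3 (Set.singleton_subset_iff.2 hd)
  have haF : a ∈ F := hd.1
  have htF : t • a ∈ F := hd.2
  let a' : F := ⟨a, haF⟩
  let t' : Cd ⧸ φ.ker := ((⟨w, hwC⟩ : Cd) : Cd ⧸ φ.ker)
  let Q' : Subgroup (Cd ⧸ φ.ker) := ((Q.subgroupOf Cd).map (QuotientGroup.mk' φ.ker))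
  have hta : t' • a' = ⟨t • a, htF⟩ := Subtype.ext hwa
  have hinj : ∀ x : Cd, (x : G) ∈ Q → ((x : Cd ⧸ φ.ker) • (⟨t • a, htF⟩ : F)) = ⟨t • a, htF⟩ → x = 1 :=
    fun x hx e => Subtype.ext (Setup.eq_one_of_fix C.setup hx (Setup.t_smul_ne C.setup) (congrArg Subtype.val e))
  have hQinj : Function.Injective
      ((QuotientGroup.mk' φ.ker).comp (Q.subgroupOf Cd).subtype) := by
    refine (injective_iff_map_eq_one _).2 fun x hx => Subtype.ext (hinj x x.2 ?_)
    rw [show ((x : Cd) : Cd ⧸ φ.ker) = 1 from hx, one_smul]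
  have hcardQ : Nat.card Q' = Nat.card ↥(Subgroup.centralizer ({d} : Set G) ⊓ Q) := by
    rw [show Q' = ((QuotientGroup.mk' φ.ker).comp (Q.subgroupOf Cd).subtype).range from by
        rw [MonoidHom.range_comp, Subgroup.range_subtype],
      ← Nat.card_congr (MonoidHom.ofInjective hQinj).toEquiv]
    exact Nat.card_congr
      { toFun := fun x => ⟨(x : Cd), (x : Cd).2, x.2⟩
        invFun := fun x => ⟨⟨x, x.2.1⟩, x.2.2⟩
        left_inv := fun x => rfl
        right_inv := fun x => rfl }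
  have hS : Cfsg.IsRankOneSetup (Cd ⧸ φ.ker) F a' t' Q' := by
    constructor
    · refine is_two_pretransitive_iff.2 fun {b₁ b₂ c₁ c₂} hb hc => ?_
      obtain ⟨g, hg, e1, e2⟩ := ht2 b₁ b₂ c₁ c₂
        (by rintro x rfl; exact ⟨b₁.2, b₂.2, c₁.2, c₂.2⟩)
        (fun e => hb (Subtype.ext e)) (fun e => hc (Subtype.ext e))
      exact ⟨((⟨g, hg⟩ : Cd) : Cd ⧸ φ.ker), Subtype.ext e1, Subtype.ext e2⟩
    · show ((⟨w, hwC⟩ * ⟨w, hwC⟩ : Cd) : Cd ⧸ φ.ker) = 1
      rw [show (⟨w, hwC⟩ * ⟨w, hwC⟩ : Cd) = 1 from Subtype.ext hw2]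
      rfl
    · intro e
      have h : t' • a' = a' := by rw [e, one_smul]
      exact Setup.t_smul_ne C.setup (congrArg Subtype.val (hta.symm.trans h))
    · intro h
      exact Setup.t_smul_ne C.setup (congrArg Subtype.val (hta.symm.trans h))
    · rintro _ ⟨x, hx, rfl⟩
      exact Subtype.ext (C.setup.le hx)
    · intro g hg x hx
      obtain ⟨g, rfl⟩ := QuotientGroup.mk_surjective g
      obtain ⟨x, hx', rfl⟩ := hx
      exact ⟨g * x * g⁻¹, C.setup.conj_mem g (congrArg Subtype.val hg) x hx', rfl⟩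
    · rw [Subgroup.eq_bot_iff_forall]
      rintro _ ⟨⟨x, hx, rfl⟩, hx'⟩
      have e : (x : Cd ⧸ φ.ker) • (⟨t • a, htF⟩ : F) = ⟨t • a, htF⟩ := by
        rw [← hta]; exact hx'
      rw [hinj x hx e]
      rfl
    · refine le_antisymm (sup_le ?_ inf_le_left) ?_
      · rintro _ ⟨x, hx, rfl⟩
        exact Subtype.ext (C.setup.le hx)
      · intro g hg
        obtain ⟨g, rfl⟩ := QuotientGroup.mk_surjective g
        obtain ⟨x, hx, k, hk, e⟩ := Setup.exists_decomp C.setup (congrArg Subtype.val hg : (g : G) • a = a)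
        have hxC : x ∈ Cd := by
          refine (Setup.mem_centralizer_of_smul C.setup hx (X := {d}) ?_ (Setup.t_smul_ne C.setup)
            (q := (g : G) • (t • a)) ?_ ?_ ?_ :)
          · rintro c rfl; exact hd.1
          · rintro c rfl; exact hd.2
          · rintro c rfl; exact hFC g g.2 _ htF
          · rw [← e, mul_smul, show k • t • a = t • a from hk.2]
        have hkC : k ∈ Cd := by
          rw [show k = x⁻¹ * g by rw [← e, inv_mul_cancel_left]]
          exact mul_mem (inv_mem hxC) g.2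
        rw [show (g : Cd) = ⟨x, hxC⟩ * ⟨k, hkC⟩ from Subtype.ext e.symm, QuotientGroup.mk_mul]
        refine Subgroup.mul_mem_sup ⟨⟨x, hxC⟩, hx, rfl⟩ (Subgroup.mem_inf.2 ⟨Subtype.ext hk.1, ?_⟩)
        rw [mem_stabilizer_iff, hta]
        exact Subtype.ext hk.2
    · rw [hcardQ]; exact hev
    · rw [hta]
      set D' := stabilizer (Cd ⧸ φ.ker) a' ⊓ stabilizer (Cd ⧸ φ.ker) (⟨t • a, htF⟩ : F)
      have hle : D' ≤ (((DD).subgroupOf Cd).map (QuotientGroup.mk' φ.ker)) := by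
        intro g hg
        obtain ⟨g, rfl⟩ := QuotientGroup.mk_surjective g
        exact ⟨g, ⟨congrArg Subtype.val hg.1, congrArg Subtype.val hg.2⟩, rfl⟩
      refine C.setup.odd_card.of_dvd_nat ((Subgroup.card_dvd_of_le hle).trans
        ((Subgroup.card_map_dvd _ _).trans ?_))
      exact Subgroup.card_comap_dvd_of_injective DD Cd.subtype Cd.subtype_injective
  have hlt : Nat.card (Cd ⧸ φ.ker) < Nat.card G := by
    refine lt_of_le_of_lt (Nat.card_le_card_of_surjective _ QuotientGroup.mk_surjective) ?_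
    refine lt_of_le_of_ne (Nat.card_le_card_of_injective _ Cd.subtype_injective) fun e => hd1 ?_
    have htop : Cd = ⊤ := Subgroup.eq_top_of_card_eq _ e
    refine FaithfulSMul.eq_of_smul_eq_smul (α := Ω) fun b => ?_
    obtain ⟨g, rfl⟩ := Setup.exists_smul_a C.setup b
    rw [one_smul, ← mul_smul, hmemC.1 (htop ▸ Subgroup.mem_top g), mul_smul, hd.1]
  have h2' : TwoInvolutions (Cd ⧸ φ.ker) := by
    have key : ∀ x : Cd, (x : G) ∈ Q → (x : Cd ⧸ φ.ker) = 1 → x = 1 := fun x hx e => hinj x hx (by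
      rw [e, one_smul])
    refine ⟨((⟨s₁, hmemC.2 hc₁⟩ : Cd) : Cd ⧸ φ.ker), ((⟨s₂, hmemC.2 hc₂⟩ : Cd) : Cd ⧸ φ.ker),
      fun e => hs₁.2.1 (congrArg Subtype.val (key _ (C.ii_mem hs₁) e)),
      fun e => hs₂.2.1 (congrArg Subtype.val (key _ (C.ii_mem hs₂) e)), fun e => hne ?_, ?_, ?_, ?_⟩
    · have h := key (⟨s₁, hmemC.2 hc₁⟩⁻¹ * ⟨s₂, hmemC.2 hc₂⟩)
        (mul_mem (inv_mem (C.ii_mem hs₁)) (C.ii_mem hs₂)) (by rw [QuotientGroup.mk_mul,
          QuotientGroup.mk_inv, e, inv_mul_cancel])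
      exact inv_mul_eq_one.1 (congrArg Subtype.val h)
    · rw [← QuotientGroup.mk_mul, show (⟨s₁, hmemC.2 hc₁⟩ * ⟨s₁, hmemC.2 hc₁⟩ : Cd) = 1 from
        Subtype.ext hs₁.2.2]; rfl
    · rw [← QuotientGroup.mk_mul, show (⟨s₂, hmemC.2 hc₂⟩ * ⟨s₂, hmemC.2 hc₂⟩ : Cd) = 1 from
        Subtype.ext hs₂.2.2]; rfl
    · rw [← QuotientGroup.mk_mul, ← QuotientGroup.mk_mul]
      exact congrArg _ (Subtype.ext (C.ii_comm hs₁ (C.ii_mem hs₂)))
  have hP := hIH (Cd ⧸ φ.ker) F a' t' Q' hS h2' hlt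
  obtain ⟨k, hk⟩ := hP ⟨((⟨y, hmemC.2 hyc⟩ : Cd) : Cd ⧸ φ.ker), ⟨⟨y, hmemC.2 hyc⟩, hy, rfl⟩⟩
  refine ⟨k, ?_⟩
  have h := hinj (⟨y, hmemC.2 hyc⟩ ^ 2 ^ k) (pow_mem hy _) (by
    rw [QuotientGroup.mk_pow, show ((⟨y, hmemC.2 hyc⟩ : Cd) : Cd ⧸ φ.ker) ^ 2 ^ k = 1 from
      congrArg Subtype.val hk, one_smul])
  exact congrArg Subtype.val h

end Ctx

end Cfsg.Agent.SuzukiRankOne.Kernel
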