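import Cfsg.Agent.Lib.SuzukiRankOne.Kernel.Basics

/-!
`D` acts semilinearly on the involutions.

* `Ctx.semilinear` : an element of `D` maps `k ↦ k ^ (2 ^ i)` on `K`
* `Ctx.stab_structure` : a subgroup of `D` whose non-identity elements fix exactly one involution
  has prime order `n`, where `q = 2 ^ n`
-/

set_option autoImplicit false
set_option linter.unusedSectionVars false

namespace Cfsg.Agent.SuzukiRankOne.Kernel

open MulAction Cfsg Cfsg.Agent Cfsg.Agent.RankOne Polynomial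

/-- A root of unity of order dividing `2 ^ n - 1` is sent by a ring automorphism in characteristic two
to a `2`-power of itself. -/
theorem exists_image_eq_pow {R : Type*} [CommRing R] [IsDomain R] (h2 : (2 : R) = 0) {n : ℕ} (hn : 0 < n)
    {x : R} (hx : x ^ 2 ^ n = x) (σ : R →+* R) : ∃ i < n, σ x = x ^ 2 ^ i := by
  classical
  let sq : R →+* R :=
    { toFun := fun r => r ^ 2
      map_one' := one_pow 2
      map_mul' := fun a b => mul_pow a b 2
      map_zero' := zero_pow (by norm_num)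
      map_add' := fun a b => by linear_combination a * b * h2 }
  set P : R[X] := ∏ i ∈ Finset.range n, (X - C (x ^ 2 ^ i)) with hP
  have hfix : P.map sq = P := by
    rw [hP, Polynomial.map_prod]
    have e : ∀ i ∈ Finset.range n, (X - C (x ^ 2 ^ i)).map sq = X - C (x ^ 2 ^ ((i + 1) % n)) := by
      intro i hi
      rw [Polynomial.map_sub, map_X, map_C]
      congr 2
      show (x ^ 2 ^ i) ^ 2 = _
      rw [← pow_mul, ← pow_succ]
      have hin := Finset.mem_range.1 hi
      rcases Nat.lt_or_ge (i + 1) n with h | h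
      · rw [Nat.mod_eq_of_lt h]
      · rw [show i + 1 = n by omega, Nat.mod_self, pow_zero, pow_one, hx]
    rw [Finset.prod_congr rfl e]
    refine Finset.prod_nbij (fun i => (i + 1) % n) (fun i _ => Finset.mem_range.2 (Nat.mod_lt _ hn)) ?_ ?_
      fun i _ => rfl
    · intro i hi j hj e
      simp only [Finset.coe_range, Set.mem_Iio] at hi hj
      simp only at e
      rcases Nat.lt_or_ge (i + 1) n with h | h <;> rcases Nat.lt_or_ge (j + 1) n with h' | h'
      · rw [Nat.mod_eq_of_lt h, Nat.mod_eq_of_lt h'] at e; omega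
      · rw [Nat.mod_eq_of_lt h, show j + 1 = n by omega, Nat.mod_self] at e; omega
      · rw [Nat.mod_eq_of_lt h', show i + 1 = n by omega, Nat.mod_self] at e; omega
      · omega
    · intro j hj
      simp only [Finset.coe_range, Set.mem_Iio] at hj
      refine ⟨(j + (n - 1)) % n, by simp [Nat.mod_lt _ hn], ?_⟩
      show ((j + (n - 1)) % n + 1) % n = j
      rw [Nat.mod_add_mod, show j + (n - 1) + 1 = j + n by omega, Nat.add_mod_right, Nat.mod_eq_of_lt hj]
  have hσP : P.map σ = P := by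
    refine Polynomial.ext fun m => ?_
    rw [coeff_map]
    have h : sq (P.coeff m) = P.coeff m := by
      rw [← coeff_map, hfix]
    have h' : P.coeff m * (P.coeff m - 1) = 0 := by
      have e : P.coeff m ^ 2 = P.coeff m := h
      linear_combination e
    rcases mul_eq_zero.1 h' with e | e
    · rw [e, map_zero]
    · rw [sub_eq_zero.1 e, map_one]
  have h0 : P.eval x = 0 := by
    rw [hP, eval_prod]
    exact Finset.prod_eq_zero (Finset.mem_range.2 hn) (by simp)
  have h1 : P.eval (σ x) = 0 := by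
    rw [← hσP, eval_map, eval₂_at_apply, h0, map_zero]
  rw [hP, eval_prod, Finset.prod_eq_zero_iff] at h1
  obtain ⟨i, hi, e⟩ := h1
  exact ⟨i, Finset.mem_range.1 hi, sub_eq_zero.1 (by simpa using e)⟩

variable {G Ω : Type*} [Group G] [Finite G] [MulAction G Ω] {a : Ω} {t : G} {Q : Subgroup G}

local notation "DD" => (stabilizer G a ⊓ stabilizer G (t • a) : Subgroup G)
local notation "II" => Cfsg.involutionsIn (stabilizer G a : Set G)

namespace Ctx

variable (C : Ctx G Ω a t Q)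
include C

/-- Conjugation by an element of `G_a` on `zz`, written additively. -/
def zact (g : stabilizer G a) : AddMonoid.End (Additive C.zz) :=
  MonoidHom.toAdditive (MonoidHom.mk' (fun z : C.zz => (⟨(g : G) * z * (g : G)⁻¹,
    C.mem_zz_of (C.setup.conj_mem _ g.2 _ (C.zz_le z.2)) (by
      calc (g : G) * z * (g : G)⁻¹ * ((g : G) * z * (g : G)⁻¹) = g * ((z : G) * z) * (g : G)⁻¹ := by group
        _ = 1 := by rw [C.zz_sq z.2]; group)⟩ : C.zz)) fun z z' => Subtype.ext (by
      show (g : G) * ((z : G) * z') * (g : G)⁻¹ = g * z * (g : G)⁻¹ * (g * z' * (g : G)⁻¹)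
      group))

theorem zact_apply (g : stabilizer G a) (z : Additive C.zz) :
    ((Additive.toMul (C.zact g z) : C.zz) : G) = (g : G) * (Additive.toMul z : C.zz) * (g : G)⁻¹ := rfl

theorem zact_mul (g g' : stabilizer G a) : C.zact (g * g') = C.zact g * C.zact g' := by
  refine DFunLike.ext _ _ fun z => Additive.toMul.injective (Subtype.ext ?_)
  show _ = ((Additive.toMul (C.zact g (C.zact g' z)) : C.zz) : G)
  rw [zact_apply, zact_apply, zact_apply, Subgroup.coe_mul]
  group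

theorem zact_one : C.zact 1 = 1 := by
  refine DFunLike.ext _ _ fun z => Additive.toMul.injective (Subtype.ext ?_)
  rw [zact_apply]
  simp

theorem semilinear_of_fix {n : ℕ} (hq : C.qq = 2 ^ n) {s v : G} (hs : s ∈ II) (hv : v ∈ DD)
    (hsv : s * v = v * s) : ∃ i < n, ∀ k ∈ C.kk, v * k * v⁻¹ = k ^ 2 ^ i := by
  classical
  let kq : C.kk → stabilizer G a := fun k => ⟨k, (C.kk_le k.2).1⟩
  let ρ : C.kk → AddMonoid.End (Additive C.zz) := fun k => C.zact (kq k)
  have hρmul : ∀ k k', ρ (k * k') = ρ k * ρ k' := fun k k' => C.zact_mul (kq k) (kq k')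
  have hcomm : ∀ k k' : C.kk, k * k' = k' * k := by
    haveI := C.kk_cyclic
    letI := IsCyclic.commGroup (α := C.kk)
    exact fun k k' => mul_comm k k'
  letI : CommGroup C.zz :=
    { (inferInstance : Group C.zz) with
      mul_comm := fun z z' => Subtype.ext (C.zz_comm z.2 (C.zz_le z'.2)) }
  let R : Subring (AddMonoid.End (Additive C.zz)) := Subring.centralizer (Set.range ρ)
  let s' : Additive C.zz := Additive.ofMul ⟨s, C.ii_zz hs⟩
  have hs' : s' ≠ 0 := fun e => hs.2.1 (congrArg Subtype.val (ofMul_eq_zero.1 e))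
  have hsurj : ∀ z : Additive C.zz, z ≠ 0 → ∃ k, ρ k s' = z := by
    intro z hz
    have hzI : ((Additive.toMul z : C.zz) : G) ∈ II :=
      (C.mem_zz_iff.1 (Additive.toMul z).2).resolve_left fun e => hz (toMul_eq_one.1 (Subtype.ext e))
    obtain ⟨⟨k, hk⟩, e⟩ := (C.kk_bijective hs).2 ⟨_, hzI⟩
    refine ⟨⟨k, hk⟩⁻¹, Additive.toMul.injective (Subtype.ext ?_)⟩
    rw [zact_apply]
    simpa [kq, s'] using congrArg Subtype.val e
  have hρinj : Function.Injective fun k => ρ k s' := by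
    intro k k' e
    have e' := congrArg (fun z => ((Additive.toMul z : C.zz) : G)) e
    simp only [ρ, zact_apply, kq, s', toMul_ofMul] at e'
    refine inv_injective ((C.kk_bijective hs).1 (Subtype.ext ?_))
    simpa using e'
  have hρR : ∀ k, ρ k ∈ R := fun k => Subring.mem_centralizer_iff.2 (by
    rintro _ ⟨k', rfl⟩
    rw [← hρmul, ← hρmul, hcomm])
  have hR : ∀ r : R, r = 0 ∨ ∃ k, r = ⟨ρ k, hρR k⟩ := by
    intro r
    have hr : ∀ k z, (r : AddMonoid.End (Additive C.zz)) (ρ k z) = ρ k ((r : AddMonoid.End _) z) :=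
      fun k z => DFunLike.congr_fun (Subring.mem_centralizer_iff.1 r.2 _ ⟨k, rfl⟩).symm z
    by_cases h : (r : AddMonoid.End (Additive C.zz)) s' = 0
    · refine Or.inl (Subtype.ext (DFunLike.ext _ _ fun z => ?_))
      by_cases hz : z = 0
      · subst hz; exact map_zero _
      obtain ⟨k, rfl⟩ := hsurj z hz
      show (r : AddMonoid.End (Additive C.zz)) (ρ k s') = 0
      rw [hr, h, map_zero]
    · obtain ⟨k₀, hk₀⟩ := hsurj _ h
      refine Or.inr ⟨k₀, Subtype.ext (DFunLike.ext _ _ fun z => ?_)⟩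
      by_cases hz : z = 0
      · subst hz; rw [map_zero, map_zero]
      obtain ⟨k, rfl⟩ := hsurj z hz
      show (r : AddMonoid.End (Additive C.zz)) (ρ k s') = ρ k₀ (ρ k s')
      rw [hr, ← hk₀]
      show (ρ k * ρ k₀) s' = (ρ k₀ * ρ k) s'
      rw [← hρmul, ← hρmul, hcomm]
  have hρ0 : ∀ k, (⟨ρ k, hρR k⟩ : R) ≠ 0 := fun k e => by
    have e1 : ρ k = 0 := congrArg Subtype.val e
    have e2 : ρ k⁻¹ * ρ k = 1 := by
      rw [← hρmul, inv_mul_cancel]
      exact C.zact_one
    rw [e1, mul_zero] at e2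
    exact hs' (DFunLike.congr_fun e2.symm s')
  letI : CommRing R :=
    { (inferInstance : Ring R) with
      mul_comm := fun x y => by
        rcases hR x with rfl | ⟨k, rfl⟩
        · simp
        rcases hR y with rfl | ⟨k', rfl⟩
        · simp
        exact Subtype.ext (show ρ k * ρ k' = ρ k' * ρ k by rw [← hρmul, ← hρmul, hcomm]) }
  haveI : Nontrivial R := ⟨⟨_, _, hρ0 1⟩⟩
  haveI : NoZeroDivisors R := ⟨fun {x y} e => by
    rcases hR x with rfl | ⟨k, rfl⟩
    · exact Or.inl rfl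
    rcases hR y with rfl | ⟨k', rfl⟩
    · exact Or.inr rfl
    exfalso
    refine hρ0 (k * k') ?_
    rw [← e]
    exact Subtype.ext (hρmul k k')⟩
  haveI : IsDomain R := NoZeroDivisors.to_isDomain R
  have h2 : (2 : R) = 0 := by
    refine Subtype.ext (DFunLike.ext _ _ fun z => ?_)
    show ((2 : R) : AddMonoid.End (Additive C.zz)) z = 0
    rw [show (2 : R) = 1 + 1 from one_add_one_eq_two.symm]
    show z + z = 0
    exact Additive.toMul.injective (Subtype.ext (C.zz_sq (Additive.toMul z).2))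
  -- conjugation by `v`
  let w : stabilizer G a := ⟨v, hv.1⟩
  have hσR : ∀ r ∈ R, C.zact w * r * C.zact w⁻¹ ∈ R := by
    intro r hr
    refine Subring.mem_centralizer_iff.2 ?_
    rintro _ ⟨k, rfl⟩
    have hk' : v⁻¹ * (k : G) * v ∈ C.kk := by simpa using C.kk_normal (inv_mem hv) k.2
    have e1 : ρ k * C.zact w = C.zact w * ρ ⟨_, hk'⟩ := by
      rw [← zact_mul, ← zact_mul]; congr 1; exact Subtype.ext (by simp [w, kq, mul_assoc])
    have e2 : C.zact w⁻¹ * ρ k = ρ ⟨_, hk'⟩ * C.zact w⁻¹ := by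
      rw [← zact_mul, ← zact_mul]; congr 1; exact Subtype.ext (by simp [w, kq, mul_assoc])
    have e3 := Subring.mem_centralizer_iff.1 hr _ ⟨⟨_, hk'⟩, rfl⟩
    calc ρ k * (C.zact w * r * C.zact w⁻¹) = C.zact w * (ρ ⟨_, hk'⟩ * r) * C.zact w⁻¹ := by
          rw [← mul_assoc, ← mul_assoc, e1, mul_assoc (C.zact w)]
      _ = C.zact w * r * C.zact w⁻¹ * ρ k := by
          rw [e3, mul_assoc _ (C.zact w⁻¹), e2]; simp [mul_assoc]
  have hw1 : C.zact w⁻¹ * C.zact w = 1 := by rw [← zact_mul, inv_mul_cancel, zact_one]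
  have hw2 : C.zact w * C.zact w⁻¹ = 1 := by rw [← zact_mul, mul_inv_cancel, zact_one]
  let σ : R →+* R :=
    { toFun := fun r => ⟨C.zact w * (r : AddMonoid.End _) * C.zact w⁻¹, hσR _ r.2⟩
      map_one' := Subtype.ext (by simp [hw2])
      map_mul' := fun x y => Subtype.ext (by
        simp only [Subring.coe_mul, mul_assoc]
        rw [← mul_assoc (C.zact w⁻¹) (C.zact w), hw1, one_mul])
      map_zero' := Subtype.ext (by simp)
      map_add' := fun x y => Subtype.ext (by simp [mul_add, add_mul]) }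
  obtain ⟨g, hg⟩ := C.kk_cyclic.exists_generator
  let x : R := ⟨ρ g, hρR g⟩
  have hxp : ∀ m : ℕ, x ^ m = ⟨ρ (g ^ m), hρR _⟩ := by
    intro m
    induction m with
    | zero => rw [pow_zero, pow_zero]; exact Subtype.ext C.zact_one.symm
    | succ m ih => rw [pow_succ, ih, pow_succ]; exact Subtype.ext (hρmul _ _).symm
  have hn : 0 < n := by
    by_contra h
    have := C.four_le_qq.1
    rw [hq, show n = 0 by omega] at this
    norm_num at this
  have hgq : g ^ 2 ^ n = g := by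
    rw [← hq, ← C.card_kk, pow_succ, pow_card_eq_one', one_mul]
  obtain ⟨i, hi, e⟩ := exists_image_eq_pow h2 hn (x := x) (by rw [hxp, hgq]) σ
  have hvg : v * (g : G) * v⁻¹ ∈ C.kk := C.kk_normal hv g.2
  have e' : ρ ⟨_, hvg⟩ = ρ (g ^ 2 ^ i) := by
    rw [hxp] at e
    have he' : C.zact w * ρ g * C.zact w⁻¹ = ρ (g ^ 2 ^ i) := congrArg Subtype.val e
    rw [← he']
    show C.zact (kq ⟨_, hvg⟩) = C.zact w * C.zact (kq g) * C.zact w⁻¹
    rw [← zact_mul, ← zact_mul]
    congr 1
  have hgi : v * (g : G) * v⁻¹ = (g : G) ^ 2 ^ i := by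
    have := congrArg Subtype.val (hρinj (congrArg (fun r : AddMonoid.End _ => r s') e'))
    simpa using this
  refine ⟨i, hi, fun k hk => ?_⟩
  obtain ⟨m, hm⟩ := Subgroup.mem_zpowers_iff.1 (hg ⟨k, hk⟩)
  obtain rfl : (g : G) ^ m = k := by simpa using congrArg Subtype.val hm
  rw [← conj_zpow, hgi, ← zpow_natCast, ← zpow_mul, mul_comm, zpow_mul, zpow_natCast]

/-- `D` acts on `K` by `2`-powers. -/
theorem semilinear {n : ℕ} (hq : C.qq = 2 ^ n) {d : G} (hd : d ∈ DD) :
    ∃ i < n, ∀ k ∈ C.kk, d * k * d⁻¹ = k ^ 2 ^ i := by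
  obtain ⟨s, hs⟩ := Setup.exists_ii C.setup
  obtain ⟨k₀, hk₀, v, hv, hsv, rfl⟩ := C.exists_kk_mul hs hd
  obtain ⟨i, hi, h⟩ := C.semilinear_of_fix hq hs hv hsv
  refine ⟨i, hi, fun k hk => ?_⟩
  haveI := C.kk_cyclic
  letI := IsCyclic.commGroup (α := C.kk)
  have e : k₀ * k = k * k₀ := congrArg Subtype.val (mul_comm (⟨k₀, hk₀⟩ : C.kk) ⟨k, hk⟩)
  calc v * k₀ * k * (v * k₀)⁻¹ = v * (k₀ * k) * k₀⁻¹ * v⁻¹ := by group
    _ = v * k * v⁻¹ := by rw [e]; group
    _ = _ := h k hk

/-- A subgroup of `D` whose non-identity elements each fix exactly one involution. -/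
theorem stab_structure {T : Subgroup G} (hT : T ≤ DD) (hne : T ≠ ⊥)
    (hone : ∀ d ∈ T, d ≠ 1 → ∃! s, s ∈ II ∧ s * d = d * s) :
    ∃ n, n.Prime ∧ 3 ≤ n ∧ C.qq = 2 ^ n ∧ Nat.card T = n ∧
      ∃ s ∈ II, ∀ d ∈ T, d ≠ 1 → ∀ z ∈ II, (z * d = d * z ↔ z = s) := by
  classical
  obtain ⟨-, n, hn, hq⟩ := C.four_le_qq
  choose! i hi hik using fun d (hd : d ∈ DD) => C.semilinear hq hd
  -- a non-identity element of `T` centralises no non-identity element of `K`
  have hfix : ∀ d ∈ T, d ≠ 1 → ∀ k ∈ C.kk, d * k = k * d → k = 1 := by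
    intro d hd hd1 k hk hc
    obtain ⟨s, ⟨hs, hsd⟩, huniq⟩ := hone d hd hd1
    have h2 : k⁻¹ * s * k * d = d * (k⁻¹ * s * k) := by
      have h1 : d * k⁻¹ = k⁻¹ * d := (Commute.inv_right (show Commute d k from hc)).eq
      calc k⁻¹ * s * k * d = k⁻¹ * (s * d) * k := by
            rw [mul_assoc _ k d, ← hc]; group
        _ = k⁻¹ * d * (s * k) := by rw [hsd]; group
        _ = d * (k⁻¹ * s * k) := by rw [← h1]; group
    have h3 := huniq _ ⟨C.ii_conj hs (C.kk_le hk).1, h2⟩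
    refine C.kk_fix hs hk ?_
    rw [mul_assoc, inv_mul_eq_iff_eq_mul] at h3
    exact h3
  have hne1 : ∀ d ∈ T, d ≠ 1 → ∃ k ∈ C.kk, d * k ≠ k * d := by
    intro d hd hd1
    by_contra hcon
    push Not at hcon
    obtain ⟨s, ⟨hs, -⟩, -⟩ := hone d hd hd1
    obtain ⟨s₁, s₂, h1, h2, hne12⟩ := Setup.exists_two_ii C.setup C.two
    obtain ⟨k, hk, e⟩ := Setup.exists_conj_kk C.setup h1 h2
    have := hfix d hd hd1 k hk (hcon k hk)
    rw [this] at e
    exact hne12 (by simpa using e)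
  obtain ⟨g, hg⟩ := C.kk_cyclic.exists_generator
  have hgord : orderOf (g : G) = 2 ^ n - 1 := by
    rw [Subgroup.orderOf_coe, orderOf_eq_card_of_forall_mem_zpowers hg]
    have := C.card_kk
    omega
  have hcop : ∀ d ∈ T, d ≠ 1 → Nat.Coprime (i d) n := by
    intro d hd hd1
    set e := Nat.gcd (i d) n with he
    have hepos : 0 < e := Nat.gcd_pos_of_pos_right _ (by omega)
    have hdiv : 2 ^ e - 1 ∣ 2 ^ n - 1 := Nat.pow_sub_one_dvd_pow_sub_one 2 (Nat.gcd_dvd_right _ _)
    obtain ⟨c, hc⟩ := hdiv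
    have hk : (g : G) ^ c ∈ C.kk := pow_mem g.2 c
    have hfixk : ((g : G) ^ c) ^ 2 ^ i d = (g : G) ^ c := by
      obtain ⟨c', hc'⟩ := Nat.pow_sub_one_dvd_pow_sub_one 2 (Nat.gcd_dvd_left (i d) n)
      have h1 : 2 ^ i d = (2 ^ i d - 1) + 1 := (Nat.sub_add_cancel Nat.one_le_two_pow).symm
      rw [h1, pow_succ, ← pow_mul, hc', ← mul_assoc, mul_comm c, ← he, ← hc, pow_mul, ← hgord,
        pow_orderOf_eq_one, one_pow, one_mul]
    have hk1 := hfix d hd hd1 _ hk (mul_inv_eq_iff_eq_mul.1 ((hik d (hT hd) _ hk).trans hfixk))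
    have h2 : 2 ^ n - 1 ∣ c := hgord ▸ orderOf_dvd_of_pow_eq_one hk1
    have hn1 : 0 < 2 ^ n - 1 := by
      have : 2 ^ 1 ≤ 2 ^ n := Nat.pow_le_pow_right (by norm_num) (by omega)
      omega
    have hc0 : 0 < c := Nat.pos_of_ne_zero fun e0 => by rw [e0, mul_zero] at hc; omega
    have h3 := Nat.le_of_dvd hc0 h2
    rw [hc] at h3
    have h4 : 2 ^ e - 1 ≤ 1 := by
      by_contra h
      nlinarith
    have h5 : e ≤ 1 := by
      by_contra h
      have : 2 ^ 2 ≤ 2 ^ e := Nat.pow_le_pow_right (by norm_num) (by omega)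
      omega
    show e = 1
    omega
  have hdvd : ∀ d ∈ T, d ≠ 1 → n ∣ orderOf d := by
    intro d hd hd1
    have hpow : ∀ m : ℕ, d ^ m * (g : G) * (d ^ m)⁻¹ = (g : G) ^ 2 ^ (i d * m) := by
      intro m
      induction m with
      | zero => simp
      | succ m ih =>
        calc d ^ (m + 1) * (g : G) * (d ^ (m + 1))⁻¹ = d * (d ^ m * (g : G) * (d ^ m)⁻¹) * d⁻¹ := by
              rw [pow_succ']; group
          _ = ((g : G) ^ 2 ^ (i d * m)) ^ 2 ^ i d := by
              rw [ih]; exact hik d (hT hd) _ (pow_mem g.2 _)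
          _ = _ := by rw [← pow_mul, ← pow_add, mul_add, mul_one]
    have h := hpow (orderOf d)
    rw [pow_orderOf_eq_one, one_mul, inv_one, mul_one] at h
    have h1 : 2 ^ n - 1 ∣ 2 ^ (i d * orderOf d) - 1 := by
      rw [← hgord]
      refine orderOf_dvd_of_pow_eq_one (mul_right_cancel (b := (g : G)) ?_)
      rw [← pow_succ, Nat.sub_add_cancel Nat.one_le_two_pow, ← h, one_mul]
    have h2 := Nat.gcd_eq_left h1
    rw [Nat.pow_sub_one_gcd_pow_sub_one] at h2
    have hpe : 2 ^ Nat.gcd n (i d * orderOf d) = 2 ^ n := by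
      have := Nat.one_le_two_pow (n := n)
      have := Nat.one_le_two_pow (n := Nat.gcd n (i d * orderOf d))
      omega
    have h3 : n ∣ i d * orderOf d := by
      rw [← Nat.pow_right_injective le_rfl hpe]
      exact (Nat.gcd_dvd_right _ _).trans dvd_rfl |>.trans dvd_rfl
    exact (hcop d hd hd1).symm.dvd_of_dvd_mul_left h3
  obtain ⟨d₀, hd₀⟩ := Subgroup.ne_bot_iff_exists_ne_one.1 hne
  have hd₀1 : (d₀ : G) ≠ 1 := fun e => hd₀ (Subtype.ext e)
  have hnT : n ∣ Nat.card T := (hdvd d₀ d₀.2 hd₀1).trans (Subgroup.orderOf_dvd_natCard _ d₀.2)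
  have hTn : Nat.card T ≤ n := by
    rw [← Nat.card_fin n]
    refine Nat.card_le_card_of_injective (fun d : T => (⟨i d, hi d (hT d.2)⟩ : Fin n)) fun d d' e => ?_
    have e' : i (d : G) = i (d' : G) := congrArg Fin.val e
    by_contra hdd
    obtain ⟨k, hk, hkc⟩ := hne1 ((d : G)⁻¹ * d') (mul_mem (inv_mem d.2) d'.2)
      fun h => hdd (Subtype.ext (inv_mul_eq_one.1 h))
    refine hkc (mul_inv_eq_iff_eq_mul.1 ?_)
    have h1 := hik (d' : G) (hT d'.2) k hk
    have h2 := hik (d : G) (hT d.2) k hk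
    rw [← e', ← h2] at h1
    calc (d : G)⁻¹ * d' * k * ((d : G)⁻¹ * d')⁻¹ = (d : G)⁻¹ * ((d' : G) * k * (d' : G)⁻¹) * d := by group
      _ = k := by rw [h1]; group
  have hTn' : Nat.card T = n := le_antisymm hTn (Nat.le_of_dvd Nat.card_pos hnT)
  obtain ⟨p, hp, hpd⟩ := Nat.exists_prime_and_dvd (show n ≠ 1 by omega)
  haveI := Fact.mk hp
  obtain ⟨d, hdp⟩ := exists_prime_orderOf_dvd_card' (G := T) p (hTn'.symm ▸ hpd)
  have hd1 : (d : G) ≠ 1 := fun e => hp.ne_one (by rw [← hdp, show d = 1 from Subtype.ext e, orderOf_one])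
  have hnp : n = p := Nat.dvd_antisymm (by rw [← hdp, ← Subgroup.orderOf_coe]; exact hdvd _ d.2 hd1) hpd
  have hodd : Odd n := by
    rw [← hTn']
    exact C.setup.odd_card.of_dvd_nat (Subgroup.card_dvd_of_le hT)
  refine ⟨n, hnp ▸ hp, by rcases hodd with ⟨c, hc⟩; omega, hq, hTn', ?_⟩
  obtain ⟨s, ⟨hs, hsd⟩, huniq⟩ := hone d d.2 hd1
  refine ⟨s, hs, fun e he he1 z hz => ?_⟩
  obtain ⟨s', ⟨hs', hs'e⟩, huniq'⟩ := hone e he he1
  have hgen : ∀ x : T, x ∈ Subgroup.zpowers d := by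
    intro x
    rw [show Subgroup.zpowers d = ⊤ from Subgroup.eq_top_of_card_eq _ (by
      rw [Nat.card_zpowers, hdp, hTn', hnp])]
    trivial
  obtain ⟨j, hj⟩ := Subgroup.mem_zpowers_iff.1 (hgen ⟨e, he⟩)
  have hje : (d : G) ^ j = e := by simpa using congrArg Subtype.val hj
  have hse : s * e = e * s := by
    rw [← hje]; exact (Commute.zpow_right (show Commute s (d : G) from hsd) j).eq
  exact ⟨fun hze => (huniq' z ⟨hz, hze⟩).trans (huniq' s ⟨hs, hse⟩).symm, fun h => h ▸ hse⟩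

end Ctx

end Cfsg.Agent.SuzukiRankOne.Kernel
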