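import Cfsg.Agent.Lib.SuzukiRankOne.Kernel.SpecialPairsFam

/-!
The family in the exceptional case.

* `Ctx.fam_special`
-/

set_option autoImplicit false
set_option linter.unusedSectionVars false

namespace Cfsg.Agent.SuzukiRankOne.Kernel

open MulAction Cfsg Cfsg.Agent Cfsg.Agent.RankOne
open scoped ComplexConjugate Classical

universe u v

variable {G : Type u} {Ω : Type v} [Group G] [Fintype G] [MulAction G Ω] {a : Ω} {t : G} {Q : Subgroup G}

local notation "DD" => (stabilizer G a ⊓ stabilizer G (t • a) : Subgroup G)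
local notation "II" => Cfsg.involutionsIn (stabilizer G a : Set G)

namespace Ctx

variable (C : Ctx G Ω a t Q) (P : Split Q)
include C

theorem fam_special_one [Fintype ↥DD] {s : G} (hs : s ∈ II) (hidx : (C.zS P).index = 1)
    {lam : IrrCharacter P.R} (hp : (Nat.card (C.tt P (lam : P.R → ℂ))).Prime)
    (hp3 : 3 ≤ Nat.card (C.tt P (lam : P.R → ℂ))) {s₀ : G} (hs₀ : s₀ ∈ II)
    (hone : ∀ d ∈ C.tt P (lam : P.R → ℂ), d ≠ 1 → ∀ z ∈ II, (z * d = d * z ↔ z = s₀)) :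
    C.Fam P s (Finset.univ.image fun d : ↥DD => C.twR P d lam) ((C.qq : ℝ) - 2) 0 := by
  haveI : Fintype (IrrCharacter G) := Fintype.ofFinite _
  haveI : Fintype (IrrCharacter P.S) := Fintype.ofFinite _
  have hfix₀ : ∀ d ∈ C.tt P (lam : P.R → ℂ), s₀ * d = d * s₀ := fun d hd => by
    by_cases h : d = 1
    · rw [h, mul_one, one_mul]
    · exact (hone d hd h s₀ hs₀).2 rfl
  obtain ⟨ω, hω1, hω⟩ := C.exists_fixed_lin P hidx hp hp3 hs₀ hfix₀
  obtain ⟨ξ, hξ, hξres⟩ := C.exists_ext (C.tt_le P (lam : P.R → ℂ)) hp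
    (C.theta_irr P (C.one_irr P) lam.2) fun d hd => by
      rw [C.theta_twist_iff P (C.one_irr P) (C.one_irr P) lam d]
      exact ⟨(C.mem_stabR P).2 ((C.mem_tt P).1 hd), rfl⟩
  let D : SData C P lam := ⟨ξ, ω, hξ, hξres, hω1, hω, hp, hidx⟩
  obtain ⟨S⟩ := D.exists_spair hs
  haveI := D.finite_eta
  haveI : Fintype (C.tt P (lam : P.R → ℂ) →* ℂˣ) := Fintype.ofFinite _
  let a₁ : IrrCharacter P.S := ⟨1, C.one_irr P⟩
  let a₂ : IrrCharacter P.S := ⟨BSW.lin ω, BSW.isIrr_lin ω⟩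
  set Psi : Finset (IrrCharacter P.S) := ({a₁, a₂} : Finset (IrrCharacter P.S))ᶜ with hPsi
  have hcomm := C.comm_of_index P hidx
  have hdeg : ∀ ψ : IrrCharacter P.S, (ψ : P.S → ℂ) 1 = 1 := Char.apply_one_eq_one_of_comm hcomm
  have hcard : (C.qq : ℝ) - 2 ≤ (Psi.card : ℝ) := by
    have h1 := Finset.card_add_card_compl ({a₁, a₂} : Finset (IrrCharacter P.S))
    have h2 : ({a₁, a₂} : Finset (IrrCharacter P.S)).card ≤ 2 := Finset.card_le_two
    have h3 : (Fintype.card (IrrCharacter P.S) : ℂ) = (Nat.card P.S : ℂ) := by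
      rw [← Char.sum_sq_degrees (G := P.S), Finset.sum_congr rfl fun χ _ => by rw [hdeg χ, one_pow]]
      simp
    rw [P.card_S, ← C.index_zS_mul P, hidx, mul_one, Nat.cast_inj] at h3
    rw [h3, ← hPsi] at h1
    rw [sub_le_iff_le_add]
    exact_mod_cast (show C.qq ≤ Psi.card + 2 by omega)
  have hmem : ∀ ψ ∈ Psi, (ψ : P.S → ℂ) ≠ 1 ∧ (ψ : P.S → ℂ) ≠ BSW.lin ω := fun ψ hψ => by
    rw [hPsi, Finset.mem_compl, Finset.mem_insert, Finset.mem_singleton, not_or] at hψ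
    exact ⟨fun e => hψ.1 (Subtype.ext e), fun e => hψ.2 (Subtype.ext e)⟩
  have hfree : ∀ ψ ∈ Psi, ∀ d ∈ C.stabR P (lam : P.R → ℂ),
      (ψ : P.S → ℂ) ∘ C.cjS P (C.dq d) = (ψ : P.S → ℂ) → d = 1 := fun ψ hψ d hd h =>
    C.free_of_ne P hidx hω1 hω hs₀ hone ψ (hmem ψ hψ).1 (hmem ψ hψ).2 hd h
  choose Y hY using fun ψ : ↥Psi => D.exists_simg hs S (hmem _ ψ.2).1 (hdeg _) (hfree _ ψ.2)
  have hwY : ∀ ψ, |C.ww s (Y ψ)| = (charDegree (lam : P.R → ℂ) : ℝ) * ((C.qq : ℝ) * C.vv / 2) := fun ψ => by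
    obtain ⟨-, hsq, hw, -⟩ := (hY ψ).2 _ rfl
    have h1 : |(mm (indFun Q (C.theta P ((ψ : IrrCharacter P.S) : P.S → ℂ) (lam : P.R → ℂ) -
        C.theta P 1 (lam : P.R → ℂ))) (Y ψ) : ℝ)| = 1 := by
      rcases Int.eq_one_or_neg_one_of_mul_eq_one hsq with e | e <;> simp [e]
    have h2 := congrArg abs hw
    rw [abs_mul, h1, one_mul] at h2
    rw [h2, neg_div, abs_neg, abs_of_pos (half_pos D.val_pos)]
    simp only [SData.val]
    ring
  have hfib : ∀ ψ₀, Nat.card {ψ // Y ψ = Y ψ₀} ≤ Nat.card (C.stabR P (lam : P.R → ℂ)) := by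
    intro ψ₀
    choose dd hmem' hdd using fun p : {ψ // Y ψ = Y ψ₀} =>
      D.simg_inj S (hdeg (ψ₀ : IrrCharacter P.S)) (hdeg p.1.1) (hfree _ ψ₀.2) (hfree _ p.1.2) (hY ψ₀)
        (show SImg S _ (Y ψ₀) by have h := hY p.1; rw [p.2] at h; exact h)
    refine Nat.card_le_card_of_injective (fun p => (⟨dd p, hmem' p⟩ : C.stabR P (lam : P.R → ℂ)))
      fun p p' hpp => ?_
    have h1 := hdd p
    have h2 := hdd p'
    rw [← show dd p = dd p' from congrArg Subtype.val hpp] at h2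
    refine Subtype.ext (Subtype.ext (Subtype.ext (funext fun x => ?_)))
    obtain ⟨y, rfl⟩ := (C.cjS_bijective P (C.dq (dd p))).2 x
    exact congrFun (h1.trans h2.symm) y
  set Λ := Finset.univ.image fun d : ↥DD => C.twR P d lam with hΛ
  have hlam : lam ∈ Λ := Finset.mem_image.2 ⟨1, Finset.mem_univ _, C.twR_one P lam⟩
  refine ⟨Finset.univ.image S.U ∪ Finset.univ.image S.V, Finset.univ.image Y, ⟨?_, ?_, ?_, ?_, ?_⟩⟩
  · have hadm : ∀ η, C.Adm (scope C P Λ) ((S.U η : G → ℂ) - (S.V η : G → ℂ)) := fun η => by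
      rw [← S.ind η]
      refine ⟨_, D.gg η, C.Q_le_hh _, C.hh_le _, D.gg_supp η, D.gg_gc η, rfl, Submodule.sub_mem _ ?_ ?_⟩
      · refine Submodule.subset_span ⟨D.up_irr η, D.up_res η ▸ C.theta_irr P (BSW.isIrr_lin _) lam.2, ?_⟩
        exact ⟨_, lam, BSW.isIrr_lin D.ω, hlam, D.up_res η⟩
      · refine Submodule.subset_span ⟨D.dn_irr η, D.dn_res η ▸ C.theta_irr P (C.one_irr P) lam.2, ?_⟩
        exact ⟨_, lam, C.one_irr P, hlam, D.dn_res η⟩
    intro A hA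
    rcases Finset.mem_union.1 hA with h | h
    · obtain ⟨η, -, rfl⟩ := Finset.mem_image.1 h
      exact ⟨S.V η, Finset.mem_union_right _ (Finset.mem_image_of_mem _ (Finset.mem_univ _)), S.ne η η,
        hadm η⟩
    · obtain ⟨η, -, rfl⟩ := Finset.mem_image.1 h
      refine ⟨S.U η, Finset.mem_union_left _ (Finset.mem_image_of_mem _ (Finset.mem_univ _)),
        (S.ne η η).symm, ?_⟩
      simpa using C.adm_neg (hadm η)
  · intro Z hZ
    obtain ⟨ψ, -, rfl⟩ := Finset.mem_image.1 hZ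
    obtain ⟨hgc, hsq, -, -, hrest⟩ := (hY ψ).2 _ rfl
    refine Or.inr ⟨_, ⟨Q, _, le_rfl, C.setup.le, C.supp_Q (Char.isClassFunction_sub
      (Char.IsIrrCharacter.isClassFunction (C.theta_irr P ψ.1.2 lam.2))
      (Char.IsIrrCharacter.isClassFunction (C.theta_irr P (C.one_irr P) lam.2)))
      (by simp [C.theta_one, hdeg ψ.1]), hgc, rfl,
      Submodule.sub_mem _
        (Submodule.subset_span ⟨C.theta_irr P ψ.1.2 lam.2, C.theta_irr P ψ.1.2 lam.2,
          ⟨_, lam, ψ.1.2, hlam, rfl⟩⟩)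
        (Submodule.subset_span ⟨C.theta_irr P (C.one_irr P) lam.2, C.theta_irr P (C.one_irr P) lam.2,
          ⟨_, lam, C.one_irr P, hlam, rfl⟩⟩)⟩, left_ne_zero_of_mul_eq_one hsq, fun χ hχ => ?_⟩
    by_cases hT : ∀ η, χ ≠ S.U η ∧ χ ≠ S.V η
    · exact Or.inl (by by_contra h; exact hχ (hrest χ hT h))
    · push Not at hT
      obtain ⟨η, hη⟩ := hT
      refine Or.inr ?_
      by_cases h : χ = S.U η
      · exact h ▸ Finset.mem_union_left _ (Finset.mem_image_of_mem _ (Finset.mem_univ _))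
      · exact hη h ▸ Finset.mem_union_right _ (Finset.mem_image_of_mem _ (Finset.mem_univ _))
  · intro Z hZ
    obtain ⟨ψ, -, rfl⟩ := Finset.mem_image.1 hZ
    exact ⟨charDegree (lam : P.R → ℂ), hwY ψ⟩
  · have hTpos : (0 : ℝ) < Nat.card (C.stabR P (lam : P.R → ℂ)) := Nat.cast_pos.2 Nat.card_pos
    refine le_of_mul_le_mul_right ?_ hTpos
    have h2 := C.card_twR_image P lam
    have hsum : ∑ mu ∈ Λ, (charDegree (mu : P.R → ℂ) : ℝ) ^ 2 =
        (Λ.card : ℝ) * (charDegree (lam : P.R → ℂ) : ℝ) ^ 2 := by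
      rw [Finset.sum_congr rfl fun mu hmu => by
        rw [C.degree_orb P (Finset.mem_union_left _ hmu)], Finset.sum_const, nsmul_eq_mul]
    rw [hsum]
    have h3 := C.sum_fib_le Y hfib (fun y => C.ww s y ^ 2) fun y => sq_nonneg _
    rw [Finset.sum_congr (s₁ := (Finset.univ : Finset ↥Psi)) rfl fun ψ _ => (show C.ww s (Y ψ) ^ 2 =
      ((charDegree (lam : P.R → ℂ) : ℝ) * ((C.qq : ℝ) * C.vv / 2)) ^ 2 by rw [← sq_abs, hwY]),
      Finset.sum_const, Finset.card_univ, Fintype.card_coe, nsmul_eq_mul] at h3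
    have h4 : (Λ.card : ℝ) * Nat.card (C.stabR P (lam : P.R → ℂ)) = Nat.card ↥DD := by exact_mod_cast h2
    calc _ = (Nat.card ↥DD : ℝ) * (((C.qq : ℝ) - 2) *
          ((charDegree (lam : P.R → ℂ) : ℝ) * ((C.qq : ℝ) * C.vv / 2)) ^ 2) := by rw [← h4]; ring
      _ ≤ (Nat.card ↥DD : ℝ) * ((Psi.card : ℝ) *
          ((charDegree (lam : P.R → ℂ) : ℝ) * ((C.qq : ℝ) * C.vv / 2)) ^ 2) :=
        mul_le_mul_of_nonneg_left (mul_le_mul_of_nonneg_right hcard (sq_nonneg _)) (Nat.cast_nonneg _)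
      _ ≤ (Nat.card ↥DD : ℝ) * ((Nat.card (C.stabR P (lam : P.R → ℂ)) : ℝ) *
          ∑ y ∈ Finset.univ.image Y, C.ww s y ^ 2) := mul_le_mul_of_nonneg_left h3 (Nat.cast_nonneg _)
      _ = _ := by ring
  · rw [zero_mul]
    positivity

/-- The exceptional family of an orbit pair. -/
theorem fam_special [Fintype ↥DD] {s : G} (hs : s ∈ II) (hidx : (C.zS P).index = 1)
    {lam : IrrCharacter P.R} (hne : (lam : P.R → ℂ) ≠ 1)
    (hp : (Nat.card (C.tt P (lam : P.R → ℂ))).Prime)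
    (hp3 : 3 ≤ Nat.card (C.tt P (lam : P.R → ℂ))) {s₀ : G} (hs₀ : s₀ ∈ II)
    (hone : ∀ d ∈ C.tt P (lam : P.R → ℂ), d ≠ 1 → ∀ z ∈ II, (z * d = d * z ↔ z = s₀)) :
    C.Fam P s (C.orb P lam) ((C.qq : ℝ) - 2) 0 := by
  have htt : C.tt P (C.conjR P lam : P.R → ℂ) = C.tt P (lam : P.R → ℂ) := by
    rw [tt, tt, C.stabR_conj]
  have h1 := C.fam_special_one P hs hidx (lam := lam) hp hp3 hs₀ hone
  have h2 := C.fam_special_one P hs hidx (lam := C.conjR P lam) (by rw [htt]; exact hp) (by rw [htt]; exact hp3)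
    hs₀ (by rw [htt]; exact hone)
  refine C.fam_union P ?_ (C.orb_disjoint P hne) h1 h2
  intro mu hmu d
  obtain ⟨e, -, rfl⟩ := Finset.mem_image.1 hmu
  exact Finset.mem_image.2 ⟨d * e, Finset.mem_univ _, C.twR_mul P d e _⟩

end Ctx

end Cfsg.Agent.SuzukiRankOne.Kernel
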