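import Cfsg.Agent.Lib.SuzukiRankOne.Kernel.AnchorFam
import Cfsg.Agent.Lib.CharExtend.Basic

/-!
The case where the 2-part of `Q` consists of involutions and `λ` has a stabiliser of prime order.

* `exists_ext` : `1 ⊗ λ` extends to `Q T`
* `exists_fixed_lin`, `free_of_ne` : the fixed characters of the 2-part
* `extQ`, `aa` : the characters of `Q T` over `ω ⊗ λ`, `ω` fixed
-/

set_option autoImplicit false
set_option linter.unusedSectionVars false

namespace Cfsg.Agent.SuzukiRankOne.Kernel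

open MulAction Cfsg Cfsg.Agent Cfsg.Agent.RankOne
open scoped ComplexConjugate Classical

universe u v

variable {G : Type u} {Ω : Type v} [Group G] [Fintype G] [MulAction G Ω] {a : Ω} {t : G} {Q : Subgroup G}

local notation "DD" => (stabilizer G a ⊓ stabilizer G (t • a) : Subgroup G)
local notation "II" => Cfsg.involutionsIn (stabilizer G a : Set G)

namespace Ctx

variable (C : Ctx G Ω a t Q) (P : Split Q)
include C

theorem one_irr : IsIrrCharacter P.S (1 : P.S → ℂ) := by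
  rw [← BSW.lin_one]
  exact BSW.isIrr_lin _

theorem one_theta (x : Q) (lam : P.R → ℂ) : C.theta P (1 : P.S → ℂ) lam x = lam (P.e.symm x).2 := by
  simp [theta]

/-- An invariant character extends to `Q T` for `T` cyclic of prime order. -/
theorem exists_ext {T : Subgroup G} (hT : T ≤ DD) (hp : (Nat.card T).Prime) {θ : Q → ℂ}
    (hθ : IsIrrCharacter Q θ) (hinv : ∀ d : ↥DD, (d : G) ∈ T → θ ∘ C.cjQ (C.dq d) = θ) :
    ∃ ξ : C.hh T → ℂ, IsIrrCharacter (C.hh T) ξ ∧ resQ (C.Q_le_hh T) ξ = θ := by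
  set N : Subgroup (C.hh T) := Q.subgroupOf (C.hh T) with hN
  haveI hnorm : N.Normal := ⟨fun n hn g => by
    rw [Subgroup.mem_subgroupOf] at hn ⊢
    have h := Setup.conj_mem_inv C.setup (inv_mem (C.hh_le T g.2)) hn
    simpa using h⟩
  let e : N ≃* Q := Subgroup.subgroupOfEquivOfLe (C.Q_le_hh T)
  have hidx : N.index = Nat.card T := by
    have h := Subgroup.card_mul_index N
    rw [Nat.card_congr e.toEquiv, C.card_hh hT] at h
    exact Nat.eq_of_mul_eq_mul_left Nat.card_pos h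
  haveI := Fact.mk hp
  have hcyc : IsCyclic (C.hh T ⧸ N) := isCyclic_of_prime_card (p := Nat.card T) (by
    rw [← hidx]; exact rfl)
  obtain ⟨n, ρ, hirr, hρ⟩ := Char.IsIrrCharacter.comp_equiv hθ e
  haveI := hirr
  have hinv' : ∀ (g : C.hh T) (x : N),
      θ (e ⟨g * x * g⁻¹, hnorm.conj_mem x x.2 g⟩) = θ (e x) := by
    intro g x
    let u : stabilizer G a := ⟨g, C.hh_le T g.2⟩
    have hd : C.dpart u ∈ T := (C.mem_hh (g := u)).1 g.2
    have h1 : (e ⟨g * x * g⁻¹, hnorm.conj_mem x x.2 g⟩ : Q) = (⟨C.qpart u, C.qpart_mem u⟩ : Q) *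
        C.cjQ (C.dq ⟨C.dpart u, hT hd⟩⁻¹) (e x) * (⟨C.qpart u, C.qpart_mem u⟩ : Q)⁻¹ := by
      refine Subtype.ext ?_
      show (g : G) * ((x : C.hh T) : G) * (g : G)⁻¹ =
        C.qpart u * (((C.dpart u)⁻¹)⁻¹ * ((x : C.hh T) : G) * (C.dpart u)⁻¹) * (C.qpart u)⁻¹
      rw [show (g : G) = C.qpart u * C.dpart u from (C.qpart_mul_dpart u).symm]
      group
    rw [h1, Char.IsIrrCharacter.isClassFunction hθ]
    exact congrFun (hinv ⟨C.dpart u, hT hd⟩⁻¹ (inv_mem hd)) (e x)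
  obtain ⟨R, hR⟩ := CharExtend.hom_of_cyclic hcyc ρ fun g x => by
    rw [congrFun hρ, congrFun hρ]; exact hinv' g x
  obtain ⟨ξ, hξ, hext⟩ := CharExtend.extends_of_hom ρ R hR
  refine ⟨ξ, hξ, funext fun x => ?_⟩
  have h := hext (e.symm x)
  rw [congrFun hρ] at h
  refine (Eq.trans ?_ h).trans ?_
  · exact congrArg ξ (Subtype.ext rfl)
  · exact congrArg θ (e.apply_symm_apply x)

theorem comm_of_index (hidx : (C.zS P).index = 1) (u v : P.S) : u * v = v * u :=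
  C.zS_central P u (by rw [Subgroup.index_eq_one.1 hidx]; trivial) v

/-- A non-trivial linear character of the 2-part fixed by the stabiliser. -/
theorem exists_fixed_lin [Fintype ↥DD] (hidx : (C.zS P).index = 1) {lam : P.R → ℂ}
    (hp : (Nat.card (C.tt P lam)).Prime) (hp3 : 3 ≤ Nat.card (C.tt P lam)) {s₀ : G} (hs₀ : s₀ ∈ II)
    (hfix : ∀ d ∈ C.tt P lam, s₀ * d = d * s₀) :
    ∃ ω : P.S →* ℂˣ, ω ≠ 1 ∧ ∀ d ∈ C.stabR P lam, ∀ x, ω (C.cjS P (C.dq d) x) = ω x := by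
  haveI : Fintype (C.stabR P lam) := Fintype.ofFinite _
  let _ : CommGroup P.S :=
    { (inferInstance : Group P.S) with mul_comm := C.comm_of_index P hidx }
  haveI : NeZero (Monoid.exponent P.S) := ⟨Monoid.exponent_ne_zero_of_finite⟩
  let zs : P.S := (C.zEquiv P ⟨s₀, C.ii_zz hs₀⟩ : P.S)
  have hzs : zs ≠ 1 := fun e => hs₀.2.1 (congrArg (fun w : P.S => ((w : Q) : G)) e)
  have hzz : zs * zs = 1 := Subtype.ext (Subtype.ext hs₀.2.2)
  obtain ⟨ψ, hψ⟩ := CommGroup.exists_apply_ne_one_of_hasEnoughRootsOfUnity P.S ℂ hzs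
  refine ⟨∏ d : C.stabR P lam, ψ.comp (C.cjS P (C.dq d.1)), fun e => hψ ?_, fun d hd x => ?_⟩
  · have h := DFunLike.congr_fun e zs
    rw [MonoidHom.finsetProd_apply, Finset.prod_congr rfl (g := fun _ => ψ zs) fun d _ => ?_,
      Finset.prod_const, Finset.card_univ, ← Nat.card_eq_fintype_card, ← C.card_tt, MonoidHom.one_apply] at h
    · obtain ⟨m, hm⟩ := hp.odd_of_ne_two (by omega)
      rw [hm, pow_succ, pow_mul, pow_two, ← map_mul, hzz, map_one, one_pow, one_mul] at h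
      exact h
    · show ψ (C.cjS P (C.dq d.1) zs) = ψ zs
      refine congrArg ψ (Subtype.ext (Subtype.ext ?_))
      rw [C.cjS_coe, cjQ_apply]
      show ((d : ↥DD) : G)⁻¹ * s₀ * (d : ↥DD) = s₀
      rw [mul_assoc, inv_mul_eq_iff_eq_mul]
      exact hfix _ (Subgroup.mem_map_of_mem _ d.2)
  · rw [MonoidHom.finsetProd_apply, MonoidHom.finsetProd_apply]
    refine Fintype.prod_equiv (Equiv.mulLeft (⟨d, hd⟩ : C.stabR P lam)) _ _ fun e => ?_
    show ψ (C.cjS P (C.dq (e : ↥DD)) (C.cjS P (C.dq d) x)) = ψ (C.cjS P (C.dq (d * e)) x)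
    rw [C.cjS_mul]

/-- The other characters have trivial stabiliser. -/
theorem free_of_ne [Fintype ↥DD] (hidx : (C.zS P).index = 1) {lam : P.R → ℂ}
    {ω : P.S →* ℂˣ} (hω1 : ω ≠ 1) (hω : ∀ d ∈ C.stabR P lam, ∀ x, ω (C.cjS P (C.dq d) x) = ω x)
    {s₀ : G} (hs₀ : s₀ ∈ II)
    (hone : ∀ d ∈ C.tt P lam, d ≠ 1 → ∀ z ∈ II, (z * d = d * z ↔ z = s₀))
    (ψ : IrrCharacter P.S) (h1 : (ψ : P.S → ℂ) ≠ 1) (h2 : (ψ : P.S → ℂ) ≠ BSW.lin ω)
    {d : ↥DD} (hd : d ∈ C.stabR P lam) (hfix : (ψ : P.S → ℂ) ∘ C.cjS P (C.dq d) = (ψ : P.S → ℂ)) :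
    d = 1 := by
  haveI : Fintype (IrrCharacter P.S) := Fintype.ofFinite _
  by_contra hd1
  have hdT : (d : G) ∈ C.tt P lam := Subgroup.mem_map_of_mem _ hd
  obtain ⟨M, hMz, hMidx, hMfix⟩ := C.exists_moved P hs₀ hdT d.2
    (hone _ hdT fun e => hd1 (Subtype.ext e))
  have hcomm := C.comm_of_index P hidx
  have hsum := sum_sq_kernel M (fun z _ g => hcomm z g)
  rw [Finset.sum_congr rfl (g := fun _ => 1) fun χ _ => ?_, Finset.sum_const, smul_eq_mul, mul_one,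
    hMidx, hidx, mul_one] at hsum
  · let a₁ : IrrCharacter P.S := ⟨1, C.one_irr P⟩
    let a₂ : IrrCharacter P.S := ⟨BSW.lin ω, BSW.isIrr_lin ω⟩
    have h12 : a₁ ≠ a₂ := fun e => hω1 (BSW.lin_injective (by
      rw [BSW.lin_one]; exact (congrArg Subtype.val e).symm))
    have hle := Finset.card_le_card (s := ({a₁, a₂, ψ} : Finset (IrrCharacter P.S)))
      (t := Finset.univ.filter fun χ : IrrCharacter P.S => ∀ z ∈ M, (χ : P.S → ℂ) z = (χ : P.S → ℂ) 1) ?_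
    · rw [hsum, Finset.card_insert_of_notMem, Finset.card_pair fun e => h2 (congrArg Subtype.val e).symm] at hle
      · omega
      · simp only [Finset.mem_insert, Finset.mem_singleton]
        rintro (e | e)
        · exact h12 e
        · exact h1 (congrArg Subtype.val e).symm
    · intro χ hχ
      refine Finset.mem_filter.2 ⟨Finset.mem_univ _, ?_⟩
      simp only [Finset.mem_insert, Finset.mem_singleton] at hχ
      rcases hχ with rfl | rfl | rfl
      · exact fun z _ => rfl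
      · exact hMfix _ a₂.2 (funext fun x => congrArg Units.val (hω d hd x))
      · exact hMfix _ χ.2 hfix
  · have e1 : (χ : P.S → ℂ) 1 = 1 := Char.apply_one_eq_one_of_comm hcomm χ
    have h := CharApp.DegreeSets.apply_one χ.2
    rw [e1] at h
    rw [show charDegree (χ : P.S → ℂ) = 1 by exact_mod_cast h.symm, one_pow]

/-- A linear character of the 2-part as one of `Q`. -/
noncomputable def extQ (_C : Ctx G Ω a t Q) (ω : P.S →* ℂˣ) : Q →* ℂˣ :=
  ω.comp ((MonoidHom.fst P.S P.R).comp P.e.symm.toMonoidHom)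

theorem extQ_inv {ω : P.S →* ℂˣ} {lam : P.R → ℂ}
    (hω : ∀ d ∈ C.stabR P lam, ∀ x, ω (C.cjS P (C.dq d) x) = ω x) :
    ∀ d : ↥DD, (d : G) ∈ C.tt P lam → ∀ x : Q, C.extQ P ω (C.cjQ (C.dq d) x) = C.extQ P ω x := by
  intro d hd x
  obtain ⟨⟨u, v⟩, rfl⟩ := P.e.surjective x
  have h : C.cjQ (C.dq d) (P.e (u, v)) = P.e (C.cjS P (C.dq d) u, C.cjR P (C.dq d) v) := by
    rw [P.e_apply, P.e_apply, map_mul]; rfl
  simp only [extQ, MonoidHom.comp_apply, MulEquiv.toMonoidHom_eq_coe, MonoidHom.coe_coe, h,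
    MulEquiv.symm_apply_apply, MonoidHom.coe_fst]
  exact hω d ((C.mem_stabR P).2 ((C.mem_tt P).1 hd)) u

/-- The character `ξ (ω η)` of `Q T`. -/
noncomputable def aa {lam : P.R → ℂ} (ξ : C.hh (C.tt P lam) → ℂ) (ω : P.S →* ℂˣ)
    (hω : ∀ d ∈ C.stabR P lam, ∀ x, ω (C.cjS P (C.dq d) x) = ω x) (η : C.tt P lam →* ℂˣ) :
    C.hh (C.tt P lam) → ℂ :=
  fun x => ξ x * BSW.lin (C.extLin (C.tt P lam) (C.extQ P ω) (C.extQ_inv P hω) η) x

theorem aa_irr {lam : P.R → ℂ} {ξ : C.hh (C.tt P lam) → ℂ} (hξ : IsIrrCharacter (C.hh (C.tt P lam)) ξ)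
    (ω : P.S →* ℂˣ) (hω : ∀ d ∈ C.stabR P lam, ∀ x, ω (C.cjS P (C.dq d) x) = ω x)
    (η : C.tt P lam →* ℂˣ) : IsIrrCharacter (C.hh (C.tt P lam)) (C.aa P ξ ω hω η) :=
  Char.IsIrrCharacter.mul_linear hξ
    ((Units.coeHom ℂ).comp (C.extLin (C.tt P lam) (C.extQ P ω) (C.extQ_inv P hω) η))

theorem aa_res {lam : P.R → ℂ} {ξ : C.hh (C.tt P lam) → ℂ}
    (hξ : resQ (C.Q_le_hh (C.tt P lam)) ξ = C.theta P 1 lam) (ω : P.S →* ℂˣ)
    (hω : ∀ d ∈ C.stabR P lam, ∀ x, ω (C.cjS P (C.dq d) x) = ω x) (η : C.tt P lam →* ℂˣ) :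
    resQ (C.Q_le_hh (C.tt P lam)) (C.aa P ξ ω hω η) = C.theta P (BSW.lin ω) lam := by
  funext x
  have h1 := congrFun hξ x
  have h2 := congrFun (C.resQ_extLin (T := C.tt P lam) (ψ := C.extQ P ω) (hψ := C.extQ_inv P hω)
    (η := η)) x
  show ξ _ * BSW.lin _ _ = _
  rw [show ξ ⟨(x : G), C.Q_le_hh _ x.2⟩ = C.theta P 1 lam x from h1,
    show BSW.lin (C.extLin (C.tt P lam) (C.extQ P ω) (C.extQ_inv P hω) η) ⟨(x : G), C.Q_le_hh _ x.2⟩ =
      BSW.lin (C.extQ P ω) x from h2]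
  simp [theta, extQ, BSW.lin, mul_comm]

/-- Different characters of `T` give different characters of `Q T`. -/
theorem aa_inj {lam : P.R → ℂ} (hp : (Nat.card (C.tt P lam)).Prime)
    {ξ : C.hh (C.tt P lam) → ℂ} (hξ : IsIrrCharacter (C.hh (C.tt P lam)) ξ)
    (hres : IsIrrCharacter Q (resQ (C.Q_le_hh (C.tt P lam)) ξ)) {ω : P.S →* ℂˣ}
    {hω : ∀ d ∈ C.stabR P lam, ∀ x, ω (C.cjS P (C.dq d) x) = ω x} {η η' : C.tt P lam →* ℂˣ}
    (h : C.aa P ξ ω hω η = C.aa P ξ ω hω η') : η = η' := by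
  haveI : Fintype (C.hh (C.tt P lam)) := Fintype.ofFinite _
  haveI : Fintype Q := Fintype.ofFinite _
  haveI := Fact.mk hp
  by_contra hne
  have hvan : ∀ x : C.hh (C.tt P lam), (x : G) ∉ Q → ξ x = 0 := by
    intro x hx
    by_contra hξx
    let u : stabilizer G a := ⟨x, C.hh_le _ x.2⟩
    have hd : C.dpart u ∈ C.tt P lam := (C.mem_hh (g := u)).1 x.2
    have e := congrFun h x
    simp only [aa] at e
    replace e := mul_left_cancel₀ hξx e
    have e' : C.extLin (C.tt P lam) _ (C.extQ_inv P hω) η x =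
        C.extLin (C.tt P lam) _ (C.extQ_inv P hω) η' x := Units.ext e
    rw [C.extLin_apply x (C.qpart_mem u) (C.dpart_mem u) hd (C.qpart_mul_dpart u).symm,
      C.extLin_apply x (C.qpart_mem u) (C.dpart_mem u) hd (C.qpart_mul_dpart u).symm] at e'
    refine hne (MonoidHom.ext fun y => ?_)
    have hgen : Subgroup.zpowers (⟨_, hd⟩ : C.tt P lam) = ⊤ :=
      zpowers_eq_top_of_prime_card rfl fun h1 => hx (by
        have h2 : C.dpart u = 1 := congrArg Subtype.val h1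
        rw [show (x : G) = C.qpart u * C.dpart u from (C.qpart_mul_dpart u).symm, h2, mul_one]
        exact C.qpart_mem u)
    obtain ⟨i, rfl⟩ := Subgroup.mem_zpowers_iff.1 (show y ∈ Subgroup.zpowers (⟨_, hd⟩ : C.tt P lam) by
      rw [hgen]; trivial)
    rw [map_zpow, map_zpow, mul_left_cancel e']
  have h1 := Char.classInner_irr_self hξ
  have h2 := Char.classInner_irr_self hres
  simp only [classInner] at h1 h2
  rw [← Finset.sum_subset (Finset.subset_univ (Finset.univ.image fun x : Q =>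
      (⟨(x : G), C.Q_le_hh _ x.2⟩ : C.hh (C.tt P lam))))
      (fun x _ hx => by
        rw [hvan x fun hm => hx (Finset.mem_image.2 ⟨⟨x, hm⟩, Finset.mem_univ _, rfl⟩), zero_mul]),
    Finset.sum_image (g := fun x : Q => (⟨(x : G), C.Q_le_hh _ x.2⟩ : C.hh (C.tt P lam)))
      (fun x _ y _ e => Subtype.ext (congrArg (fun w : C.hh (C.tt P lam) => (w : G)) e)), C.card_hh (C.tt_le P lam),
    Nat.cast_mul, mul_inv, mul_right_comm] at h1
  simp only [resQ] at h2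
  rw [h2, one_mul, inv_eq_one, Nat.cast_eq_one] at h1
  exact hp.ne_one h1

theorem aa_one {lam : P.R → ℂ} {ξ : C.hh (C.tt P lam) → ℂ} {ω : P.S →* ℂˣ}
    {hω : ∀ d ∈ C.stabR P lam, ∀ x, ω (C.cjS P (C.dq d) x) = ω x} {η : C.tt P lam →* ℂˣ} {d : G}
    (hd : d ∈ C.tt P lam) :
    C.aa P ξ ω hω η ⟨d, C.le_hh (C.tt_le P lam) hd⟩ =
      ξ ⟨d, C.le_hh (C.tt_le P lam) hd⟩ * (η ⟨d, hd⟩ : ℂ) := by
  show ξ _ * BSW.lin _ _ = _
  congr 1
  show ((C.extLin _ _ _ η _ : ℂˣ) : ℂ) = _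
  rw [C.extLin_apply _ (one_mem Q) (C.tt_le P lam hd) hd (one_mul _).symm,
    show (⟨(1 : G), one_mem Q⟩ : Q) = 1 from rfl, map_one, one_mul]

/-- The difference of two of them vanishes outside the conjugates of `Q`. -/
theorem aa_supp {lam : P.R → ℂ} {ξ : C.hh (C.tt P lam) → ℂ} (hξ : IsIrrCharacter (C.hh (C.tt P lam)) ξ)
    {ω ω' : P.S →* ℂˣ} {hω : ∀ d ∈ C.stabR P lam, ∀ x, ω (C.cjS P (C.dq d) x) = ω x}
    {hω' : ∀ d ∈ C.stabR P lam, ∀ x, ω' (C.cjS P (C.dq d) x) = ω' x} (η : C.tt P lam →* ℂˣ) :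
    Supp a (C.hh (C.tt P lam)) (C.aa P ξ ω hω η - C.aa P ξ ω' hω' η) := by
  have hcf := Char.isClassFunction_sub (Char.IsIrrCharacter.isClassFunction (C.aa_irr P hξ ω hω η))
    (Char.IsIrrCharacter.isClassFunction (C.aa_irr P hξ ω' hω' η))
  refine ⟨hcf, fun x b hb hxb => ?_⟩
  obtain ⟨y, hy, hyD⟩ := C.exists_conj_DD (C.hh_le _ x.2) hb hxb
  let yh : C.hh (C.tt P lam) := ⟨y, C.Q_le_hh _ hy⟩
  have hm : y⁻¹ * (x : G) * y ∈ C.tt P lam := by
    have h := (C.mem_hh (g := ⟨y⁻¹ * (x : G) * y, hyD.1⟩)).1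
      (mul_mem (mul_mem (inv_mem yh.2) x.2) yh.2)
    rwa [(C.parts_eq (g := ⟨y⁻¹ * (x : G) * y, hyD.1⟩) (one_mem Q) hyD (one_mul _).symm).2] at h
  have h := hcf x yh⁻¹
  rw [inv_inv] at h
  rw [← h, show yh⁻¹ * x * yh = (⟨_, C.le_hh (C.tt_le P lam) hm⟩ : C.hh (C.tt P lam)) from Subtype.ext rfl,
    Pi.sub_apply, C.aa_one P hm, C.aa_one P hm, sub_self]

end Ctx

end Cfsg.Agent.SuzukiRankOne.Kernel
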