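import Cfsg.Agent.Lib.SuzukiRankOne.Kernel.SpecialData

/-!
Inner products for the exceptional families.

* `sum_theta_twist`, `sum_tw_fix` : twisted sums
* `ind_res_value` : values at an involution
* `exists_leftover` : one constituent outside the pairs
-/

set_option autoImplicit false
set_option linter.unusedSectionVars false

namespace Cfsg.Agent.SuzukiRankOne.Kernel

open MulAction Cfsg Cfsg.Agent Cfsg.Agent.RankOne
open scoped ComplexConjugate Classical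

universe u v

variable {G : Type u} {Ω : Type v} [Group G] [Fintype G] [MulAction G Ω] {a : Ω} {t : G} {Q : Subgroup G}

local notation "DD" => (stabilizer G a ⊓ stabilizer G (t • a) : Subgroup G)
local notation "II" => Cfsg.involutionsIn (stabilizer G a : Set G)

namespace Ctx

variable (C : Ctx G Ω a t Q) (P : Split Q)
include C

/-- Conjugacy of `ψ ⊗ λ` and `ψ' ⊗ λ`. -/
theorem theta_twist_iff {ψ ψ' : P.S → ℂ} (hψ : IsIrrCharacter P.S ψ) (hψ' : IsIrrCharacter P.S ψ')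
    (lam : IrrCharacter P.R) (d : ↥DD) :
    C.theta P ψ' (lam : P.R → ℂ) ∘ C.cjQ (C.dq d) = C.theta P ψ (lam : P.R → ℂ) ↔
      d ∈ C.stabR P (lam : P.R → ℂ) ∧ ψ' ∘ C.cjS P (C.dq d) = ψ := by
  rw [C.theta_comp]
  constructor
  · intro h
    obtain ⟨h1, h2⟩ := C.theta_inj P (Char.IsIrrCharacter.comp_equiv hψ' (C.autS P (C.dq d))) hψ
      (C.twR P d lam).2 lam.2 h
    exact ⟨(C.mem_stabR P).2 h2, h1⟩
  · rintro ⟨h1, h2⟩
    rw [(C.mem_stabR P).1 h1, h2]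

theorem sum_theta_twist [Fintype ↥DD] [Fintype Q] {ψ ψ' : P.S → ℂ} (hψ : IsIrrCharacter P.S ψ)
    (hψ' : IsIrrCharacter P.S ψ') (lam : IrrCharacter P.R) :
    ∑ d : ↥DD, classInner (C.theta P ψ (lam : P.R → ℂ))
        (C.theta P ψ' (lam : P.R → ℂ) ∘ C.cjQ (C.dq d)) =
      ((Finset.univ.filter fun d : ↥DD =>
        d ∈ C.stabR P (lam : P.R → ℂ) ∧ ψ' ∘ C.cjS P (C.dq d) = ψ).card : ℂ) := by
  rw [← Finset.sum_boole]
  refine Finset.sum_congr rfl fun d _ => ?_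
  rw [C.twist_inner (C.theta_irr P hψ lam.2) (C.theta_irr P hψ' lam.2)]
  simp only [C.theta_twist_iff P hψ hψ' lam d]

/-- A fixed character of the 2-part. -/
def IsFixed (lam : P.R → ℂ) (ψ : P.S → ℂ) : Prop :=
  ∀ d ∈ C.stabR P lam, ψ ∘ C.cjS P (C.dq d) = ψ

theorem isFixed_one (lam : P.R → ℂ) : C.IsFixed P lam 1 := fun _ _ => rfl

theorem sum_fixed [Fintype ↥DD] [Fintype Q] {ψ : P.S → ℂ} (hψ : IsIrrCharacter P.S ψ)
    {lam : IrrCharacter P.R} (hfx : C.IsFixed P (lam : P.R → ℂ) ψ) :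
    ∑ d : ↥DD, classInner (C.theta P ψ (lam : P.R → ℂ))
        (C.theta P ψ (lam : P.R → ℂ) ∘ C.cjQ (C.dq d)) =
      (Nat.card (C.stabR P (lam : P.R → ℂ)) : ℂ) := by
  rw [C.sum_theta_twist P hψ hψ lam, ← Fintype.card_subtype, ← Nat.card_eq_fintype_card,
    Nat.card_congr (Equiv.subtypeEquivRight fun d => and_iff_left_of_imp (hfx d))]

theorem sum_apart [Fintype ↥DD] [Fintype Q] {ψ ψ' : P.S → ℂ} (hψ : IsIrrCharacter P.S ψ)
    (hψ' : IsIrrCharacter P.S ψ') {lam : IrrCharacter P.R}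
    (h : ∀ d ∈ C.stabR P (lam : P.R → ℂ), ψ' ∘ C.cjS P (C.dq d) ≠ ψ) :
    ∑ d : ↥DD, classInner (C.theta P ψ (lam : P.R → ℂ))
        (C.theta P ψ' (lam : P.R → ℂ) ∘ C.cjQ (C.dq d)) = 0 := by
  rw [C.sum_theta_twist P hψ hψ' lam, Finset.card_eq_zero.2 (Finset.filter_eq_empty_iff.2 fun d _ hd =>
    h d hd.1 hd.2), Nat.cast_zero]

theorem sum_free [Fintype ↥DD] [Fintype Q] {ψ : P.S → ℂ} (hψ : IsIrrCharacter P.S ψ)
    {lam : IrrCharacter P.R}
    (h : ∀ d ∈ C.stabR P (lam : P.R → ℂ), ψ ∘ C.cjS P (C.dq d) = ψ → d = 1) :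
    ∑ d : ↥DD, classInner (C.theta P ψ (lam : P.R → ℂ))
        (C.theta P ψ (lam : P.R → ℂ) ∘ C.cjQ (C.dq d)) = 1 := by
  rw [C.sum_theta_twist P hψ hψ lam, Finset.card_eq_one.2 ⟨1, ?_⟩, Nat.cast_one]
  refine Finset.eq_singleton_iff_unique_mem.2 ⟨Finset.mem_filter.2 ⟨Finset.mem_univ _, one_mem _,
    funext fun x => congrArg ψ (C.cjS_one P x)⟩, fun d hd => ?_⟩
  exact h d (Finset.mem_filter.1 hd).2.1 (Finset.mem_filter.1 hd).2.2

/-- Twisted sums on `Q T`, equal fixed restrictions. -/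
theorem sum_tw_fix [Fintype ↥DD] {lam : IrrCharacter P.R} [Fintype (C.hh (C.tt P (lam : P.R → ℂ)))]
    {ξ ξ' : C.hh (C.tt P (lam : P.R → ℂ)) → ℂ} (hξ : IsIrrCharacter _ ξ) (hξ' : IsIrrCharacter _ ξ')
    {ψ : P.S → ℂ} (hψ : IsIrrCharacter P.S ψ) (hfx : C.IsFixed P (lam : P.R → ℂ) ψ)
    (hr : resQ (C.Q_le_hh _) ξ = C.theta P ψ (lam : P.R → ℂ))
    (hr' : resQ (C.Q_le_hh _) ξ' = C.theta P ψ (lam : P.R → ℂ)) :
    ∑ d : ↥DD, classInner ξ (tw (C.hh (C.tt P (lam : P.R → ℂ))) ξ' (d : G)) =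
      (Nat.card (C.tt P (lam : P.R → ℂ)) : ℂ) * classInner ξ ξ' := by
  refine C.sum_tw_same (C.Q_le_hh _) hξ hξ' (hr ▸ C.theta_irr P hψ lam.2)
    (hr' ▸ C.theta_irr P hψ lam.2) _ (C.tt_le P _) (C.le_hh (C.tt_le P _)) fun d => ?_
  rw [hr, hr', C.theta_twist_iff P hψ hψ lam, C.mem_tt, ← C.mem_stabR P]
  exact and_iff_left_of_imp (hfx d)

/-- Twisted sums on `Q T`, restrictions not conjugate. -/
theorem sum_tw_apart [Fintype ↥DD] {lam : IrrCharacter P.R} [Fintype (C.hh (C.tt P (lam : P.R → ℂ)))]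
    {ξ ξ' : C.hh (C.tt P (lam : P.R → ℂ)) → ℂ} (hξ : IsIrrCharacter _ ξ) (hξ' : IsIrrCharacter _ ξ')
    {ψ ψ' : P.S → ℂ} (hψ : IsIrrCharacter P.S ψ) (hψ' : IsIrrCharacter P.S ψ')
    (h : ∀ d ∈ C.stabR P (lam : P.R → ℂ), ψ' ∘ C.cjS P (C.dq d) ≠ ψ)
    (hr : resQ (C.Q_le_hh _) ξ = C.theta P ψ (lam : P.R → ℂ))
    (hr' : resQ (C.Q_le_hh _) ξ' = C.theta P ψ' (lam : P.R → ℂ)) :
    ∑ d : ↥DD, classInner ξ (tw (C.hh (C.tt P (lam : P.R → ℂ))) ξ' (d : G)) = 0 := by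
  refine C.sum_tw_zero (C.Q_le_hh _) (C.Q_le_hh _) hξ hξ' (hr ▸ C.theta_irr P hψ lam.2)
    (hr' ▸ C.theta_irr P hψ' lam.2) fun d => ?_
  rw [hr, hr', ne_eq, C.theta_twist_iff P hψ hψ' lam]
  exact fun h' => h d h'.1 h'.2

/-- From a subgroup to `Q`, at an involution. -/
theorem ind_res_value [Fintype ↥DD] {H : Subgroup G} (hQ : Q ≤ H) (hH : H ≤ stabilizer G a)
    {g : H → ℂ} (hg : IsClassFunction H g) {gQ : Q → ℂ} (hgQ : IsClassFunction Q gQ)
    (e : resQ hQ g = gQ) {s : G} (hs : s ∈ II) :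
    indFun H g s = ((Nat.card Q : ℂ) / Nat.card H) * indFun Q gQ s := by
  haveI : Fintype (II : Set G) := Fintype.ofFinite _
  subst e
  rw [C.ind_apply_ii hQ hH hg hs, C.ind_apply_ii le_rfl C.setup.le hgQ hs,
    div_self (Nat.cast_ne_zero.2 Nat.card_pos.ne'), one_mul, mul_assoc]
  congr 2
  refine Finset.sum_congr rfl fun z _ => ?_
  rw [C.ext_Q hQ g ⟨(z : G), C.ii_mem z.2⟩, C.ext_Q le_rfl (resQ hQ g) ⟨(z : G), C.ii_mem z.2⟩]
  rfl

/-- A generalized character of norm `p + 1` with `p` pairs. -/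
theorem exists_leftover {ι : Type*} [Fintype ι] [Fintype (IrrCharacter G)] {F : G → ℂ}
    (hgc : IsGeneralizedCharacter G F)
    (h2 : classInner F F = ((1 + Fintype.card ι : ℕ) : ℂ)) {U V : ι → IrrCharacter G}
    (hU : Function.Injective U) (hV : Function.Injective V) (hUV : ∀ i j, U i ≠ V j)
    (hm : ∀ i, mm F (U i) - mm F (V i) = 1) :
    ∃ Y, (∀ i, Y ≠ U i ∧ Y ≠ V i) ∧ mm F Y * mm F Y = 1 ∧
      (∀ i, mm F (U i) = 0 ∨ mm F (U i) = 1) ∧
      ∀ χ, (∀ i, χ ≠ U i ∧ χ ≠ V i) → χ ≠ Y → mm F χ = 0 := by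
  set T : Finset (IrrCharacter G) := Finset.univ.image U ∪ Finset.univ.image V with hT
  have hd : Disjoint (Finset.univ.image U) (Finset.univ.image V) := Finset.disjoint_left.2 fun x h1 h2 => by
    obtain ⟨i, -, rfl⟩ := Finset.mem_image.1 h1
    obtain ⟨j, -, e⟩ := Finset.mem_image.1 h2
    exact hUV i j e.symm
  have hnT : ∀ χ, (∀ i, χ ≠ U i ∧ χ ≠ V i) ↔ χ ∈ Tᶜ := fun χ => by
    simp [hT, forall_and, eq_comm]
  have hsum : ∑ i, (mm F (U i) * mm F (U i) + mm F (V i) * mm F (V i)) +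
      ∑ χ ∈ Tᶜ, mm F χ * mm F χ = 1 + Fintype.card ι := by
    have h := mm_inner hgc hgc
    rw [h2, ← Int.cast_natCast (R := ℂ), Int.cast_inj, ← Finset.sum_add_sum_compl T, hT,
      Finset.sum_union hd, Finset.sum_image fun i _ j _ e => hU e,
      Finset.sum_image fun i _ j _ e => hV e, ← Finset.sum_add_distrib] at h
    rw [hT, ← h]
    push_cast
    ring
  have hge : ∀ i, (1 : ℤ) ≤ mm F (U i) * mm F (U i) + mm F (V i) * mm F (V i) := fun i => by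
    nlinarith [hm i, mul_self_nonneg (mm F (U i) + mm F (V i))]
  have hrest : (0 : ℤ) ≤ ∑ χ ∈ Tᶜ, mm F χ * mm F χ := Finset.sum_nonneg fun χ _ => mul_self_nonneg _
  have h01 : ∀ i, mm F (U i) = 0 ∨ mm F (U i) = 1 := by
    intro i
    by_contra h
    push Not at h
    have h5 : (5 : ℤ) ≤ mm F (U i) * mm F (U i) + mm F (V i) * mm F (V i) := by
      rcases le_or_gt (mm F (U i)) 0 with h' | h'
      · have : mm F (U i) ≤ -1 := by omega
        nlinarith [hm i]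
      · have : 2 ≤ mm F (U i) := by omega
        nlinarith [hm i]
    have h'' : (∑ _j : ι, (1 : ℤ)) + 4 ≤ ∑ j, (mm F (U j) * mm F (U j) + mm F (V j) * mm F (V j)) := by
      rw [← Finset.add_sum_erase _ _ (Finset.mem_univ i), ← Finset.add_sum_erase _ _ (Finset.mem_univ i)]
      have := Finset.sum_le_sum (s := Finset.univ.erase i) fun j _ => hge j
      linarith
    simp only [Finset.sum_const, Finset.card_univ, nsmul_eq_mul, mul_one] at h''
    linarith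
  have hone : ∀ i, mm F (U i) * mm F (U i) + mm F (V i) * mm F (V i) = 1 := fun i => by
    have h := hm i
    rcases h01 i with e | e <;> rw [e] at h ⊢ <;>
      [rw [show mm F (V i) = -1 by omega]; rw [show mm F (V i) = 0 by omega]] <;> norm_num
  rw [Finset.sum_congr rfl fun i _ => hone i] at hsum
  simp only [Finset.sum_const, Finset.card_univ, nsmul_eq_mul, mul_one] at hsum
  have h1 : ∑ χ ∈ Tᶜ, mm F χ * mm F χ = 1 := by linarith
  obtain ⟨Y, hYT, hY⟩ : ∃ Y ∈ Tᶜ, mm F Y ≠ 0 := by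
    by_contra hcon
    push Not at hcon
    rw [Finset.sum_eq_zero fun χ hχ => by rw [hcon χ hχ, mul_zero]] at h1
    norm_num at h1
  have hle := Finset.single_le_sum (f := fun χ => mm F χ * mm F χ) (fun χ _ => mul_self_nonneg _) hYT
  rw [h1] at hle
  have hpos : 0 < mm F Y * mm F Y := mul_self_pos.2 hY
  have hYY : mm F Y * mm F Y = 1 := by omega
  refine ⟨Y, (hnT Y).2 hYT, hYY, h01, fun χ hχ hne => ?_⟩
  have h3 := Finset.sum_le_sum_of_subset_of_nonneg (f := fun χ => mm F χ * mm F χ)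
    (s := {Y, χ}) (t := Tᶜ) (by
      intro x hx; simp at hx; rcases hx with rfl | rfl
      · exact hYT
      · exact (hnT _).1 hχ)
    (fun χ _ _ => mul_self_nonneg _)
  rw [Finset.sum_pair hne.symm, hYY, h1] at h3
  exact mul_self_eq_zero.1 (le_antisymm (by omega) (mul_self_nonneg _))

end Ctx

end Cfsg.Agent.SuzukiRankOne.Kernel
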