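import Cfsg.Agent.Lib.SuzukiRankOne.Kernel.SpecialPairs

/-!
The pairs over the fixed characters and the constituent attached to a free one.

* `SPair` : the pairs, `exists_spair`
* `exists_simg`, `simg_inj`
-/

set_option autoImplicit false
set_option linter.unusedSectionVars false

namespace Cfsg.Agent.SuzukiRankOne.Kernel

open MulAction Cfsg Cfsg.Agent Cfsg.Agent.RankOne
open scoped ComplexConjugate Classical

universe u v

variable {G : Type u} {Ω : Type v} [Group G] [Fintype G] [MulAction G Ω] {a : Ω} {t : G} {Q : Subgroup G}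

local notation "DD" => (stabilizer G a ⊓ stabilizer G (t • a) : Subgroup G)
local notation "II" => Cfsg.involutionsIn (stabilizer G a : Set G)

/-- The data of the exceptional case. -/
structure SData (C : Ctx G Ω a t Q) (P : Split Q) (lam : IrrCharacter P.R) where
  ξ : C.hh (C.tt P (lam : P.R → ℂ)) → ℂ
  ω : P.S →* ℂˣ
  ξ_irr : IsIrrCharacter (C.hh (C.tt P (lam : P.R → ℂ))) ξ
  ξ_res : resQ (C.Q_le_hh _) ξ = C.theta P 1 (lam : P.R → ℂ)
  ω_ne : ω ≠ 1
  ω_fix : ∀ d ∈ C.stabR P (lam : P.R → ℂ), ∀ x, ω (C.cjS P (C.dq d) x) = ω x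
  prime : (Nat.card (C.tt P (lam : P.R → ℂ))).Prime
  index : (C.zS P).index = 1

namespace SData

variable {C : Ctx G Ω a t Q} {P : Split Q} {lam : IrrCharacter P.R} (D : SData C P lam)
include D

/-- Over `ω₀ ⊗ λ`. -/
noncomputable def up (η : C.tt P (lam : P.R → ℂ) →* ℂˣ) : C.hh (C.tt P (lam : P.R → ℂ)) → ℂ :=
  C.aa P D.ξ D.ω D.ω_fix η

/-- Over `1 ⊗ λ`. -/
noncomputable def dn (η : C.tt P (lam : P.R → ℂ) →* ℂˣ) : C.hh (C.tt P (lam : P.R → ℂ)) → ℂ :=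
  C.aa P D.ξ 1 (fun _ _ _ => rfl) η

/-- The difference. -/
noncomputable def gg (η : C.tt P (lam : P.R → ℂ) →* ℂˣ) : C.hh (C.tt P (lam : P.R → ℂ)) → ℂ :=
  D.up η - D.dn η

/-- `2 A e`. -/
noncomputable def val (_D : SData C P lam) : ℝ :=
  (C.vv : ℝ) * C.qq * charDegree (lam : P.R → ℂ)

theorem up_irr (η : C.tt P (lam : P.R → ℂ) →* ℂˣ) : IsIrrCharacter _ (D.up η) :=
  C.aa_irr P D.ξ_irr _ _ η

theorem dn_irr (η : C.tt P (lam : P.R → ℂ) →* ℂˣ) : IsIrrCharacter _ (D.dn η) :=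
  C.aa_irr P D.ξ_irr _ _ η

theorem up_res (η : C.tt P (lam : P.R → ℂ) →* ℂˣ) :
    resQ (C.Q_le_hh _) (D.up η) = C.theta P (BSW.lin D.ω) (lam : P.R → ℂ) :=
  C.aa_res P D.ξ_res _ _ η

theorem dn_res (η : C.tt P (lam : P.R → ℂ) →* ℂˣ) :
    resQ (C.Q_le_hh _) (D.dn η) = C.theta P 1 (lam : P.R → ℂ) := by
  rw [dn, C.aa_res P D.ξ_res, BSW.lin_one]

theorem gg_supp (η : C.tt P (lam : P.R → ℂ) →* ℂˣ) : Supp a _ (D.gg η) := C.aa_supp P D.ξ_irr η

theorem gg_gc (η : C.tt P (lam : P.R → ℂ) →* ℂˣ) :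
    IsGeneralizedCharacter G (indFun (C.hh (C.tt P (lam : P.R → ℂ))) (D.gg η)) :=
  Char.IsGeneralizedCharacter.indFun (Char.IsGeneralizedCharacter.sub
    (Char.isGeneralizedCharacter_of_isCharacter (Char.IsIrrCharacter.isCharacter (D.up_irr η)))
    (Char.isGeneralizedCharacter_of_isCharacter (Char.IsIrrCharacter.isCharacter (D.dn_irr η))))

theorem fix_ω : C.IsFixed P (lam : P.R → ℂ) (BSW.lin D.ω) := fun d hd =>
  funext fun x => congrArg Units.val (D.ω_fix d hd x)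

theorem lin_ne : BSW.lin D.ω ≠ (1 : P.S → ℂ) := fun e =>
  D.ω_ne (BSW.lin_injective (e.trans BSW.lin_one.symm))

theorem one_apart : ∀ d ∈ C.stabR P (lam : P.R → ℂ), (1 : P.S → ℂ) ∘ C.cjS P (C.dq d) ≠ BSW.lin D.ω :=
  fun _ _ e => D.lin_ne e.symm

theorem ω_apart : ∀ d ∈ C.stabR P (lam : P.R → ℂ), BSW.lin D.ω ∘ C.cjS P (C.dq d) ≠ (1 : P.S → ℂ) :=
  fun d hd e => D.lin_ne ((D.fix_ω d hd).symm.trans e)

theorem qh : ((Nat.card Q : ℂ) / Nat.card (C.hh (C.tt P (lam : P.R → ℂ)))) =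
    (Nat.card (C.tt P (lam : P.R → ℂ)) : ℂ)⁻¹ := by
  rw [C.card_hh (C.tt_le P _), Nat.cast_mul, ← div_div, div_self (Nat.cast_ne_zero.2 Nat.card_pos.ne'),
    one_div]

theorem inner_gg [Fintype ↥DD] (η η' : C.tt P (lam : P.R → ℂ) →* ℂˣ) :
    classInner (indFun _ (D.gg η)) (indFun _ (D.gg η')) = if η = η' then (2 : ℂ) else 0 := by
  haveI : Fintype (C.hh (C.tt P (lam : P.R → ℂ))) := Fintype.ofFinite _
  have h1 := C.sum_tw_fix P (D.up_irr η) (D.up_irr η') (BSW.isIrr_lin D.ω) D.fix_ω (D.up_res η) (D.up_res η')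
  have h2 := C.sum_tw_fix P (D.dn_irr η) (D.dn_irr η') (C.one_irr P) (C.isFixed_one P _) (D.dn_res η) (D.dn_res η')
  have h3 := C.sum_tw_apart P (D.up_irr η) (D.dn_irr η') (BSW.isIrr_lin D.ω) (C.one_irr P) D.one_apart
    (D.up_res η) (D.dn_res η')
  have h4 := C.sum_tw_apart P (D.dn_irr η) (D.up_irr η') (C.one_irr P) (BSW.isIrr_lin D.ω) D.ω_apart
    (D.dn_res η) (D.up_res η')
  have hres : IsIrrCharacter Q (resQ (C.Q_le_hh _) D.ξ) := D.ξ_res ▸ C.theta_irr P (C.one_irr P) lam.2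
  have h0 : (Nat.card (C.tt P (lam : P.R → ℂ)) : ℂ) ≠ 0 := Nat.cast_ne_zero.2 D.prime.ne_zero
  rw [C.inner_ind (C.Q_le_hh _) (C.hh_le _) (D.gg_supp η) (D.gg_supp η').1, D.qh]
  show _ * ∑ d : ↥DD, classInner (D.gg η) (tw (C.hh (C.tt P (lam : P.R → ℂ))) (D.gg η') (d : G)) = _
  simp only [gg, tw_sub, Char.classInner_sub_left, Char.classInner_sub_right, Finset.sum_sub_distrib,
    h1, h2, h3, h4]
  rw [Char.classInner_irr (D.up_irr η) (D.up_irr η'), Char.classInner_irr (D.dn_irr η) (D.dn_irr η')]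
  by_cases e : η = η'
  · subst e
    rw [if_pos rfl, if_pos rfl, if_pos rfl]
    field_simp
    ring
  · have n1 : D.up η ≠ D.up η' := fun h => e (C.aa_inj P D.prime D.ξ_irr hres h)
    have n2 : D.dn η ≠ D.dn η' := fun h => e (C.aa_inj P D.prime D.ξ_irr hres h)
    rw [if_neg e, if_neg n1, if_neg n2]
    simp

theorem gg_value [Fintype ↥DD] {s : G} (hs : s ∈ II) (η : C.tt P (lam : P.R → ℂ) →* ℂˣ) :
    indFun _ (D.gg η) s = ((-(D.val / Nat.card (C.tt P (lam : P.R → ℂ))) : ℝ) : ℂ) := by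
  let ψ : IrrCharacter P.S := ⟨BSW.lin D.ω, BSW.isIrr_lin _⟩
  have hne : ¬ ∀ z ∈ C.zS P, (ψ : P.S → ℂ) z = (ψ : P.S → ℂ) 1 := fun h => D.lin_ne (funext fun x => by
    have h' := h x (by rw [Subgroup.index_eq_one.1 D.index]; trivial)
    show BSW.lin D.ω x = 1
    exact h'.trans (BSW.lin_apply_one _))
  have hcl : IsClassFunction Q (C.theta P 1 (lam : P.R → ℂ)) :=
    Char.IsIrrCharacter.isClassFunction (C.theta_irr P (C.one_irr P) lam.2)
  rw [C.ind_res_value (C.Q_le_hh _) (C.hh_le _) (D.gg_supp η).1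
    (Char.isClassFunction_sub (Char.IsIrrCharacter.isClassFunction (C.theta_irr P ψ.2 lam.2)) hcl)
    (by funext x; exact congrArg₂ (· - ·) (congrFun (D.up_res η) x) (congrFun (D.dn_res η) x)) hs,
    D.qh, C.ind_theta_sub P hs hne lam hcl fun z hz => by
      rw [C.theta_zz P _ _ ⟨z, C.ii_zz hz⟩]
      show (1 : ℂ) * _ = BSW.lin D.ω 1 * _
      rw [BSW.lin_apply_one]]
  show _ * -((C.vv : ℂ) * (C.qq : ℂ) * (BSW.lin D.ω 1 * _)) = _
  rw [BSW.lin_apply_one, CharApp.DegreeSets.apply_one lam.2, val]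
  push_cast
  ring

theorem val_pos : 0 < D.val := by
  have h1 : (0 : ℝ) < C.qq := Nat.cast_pos.2 (by have := C.four_le_qq.1; omega)
  have h2 : (0 : ℝ) < C.vv := by exact_mod_cast C.vv_pos
  have h3 : (0 : ℝ) < charDegree (lam : P.R → ℂ) := Nat.cast_pos.2 <| Nat.pos_of_ne_zero fun h =>
    Char.IsIrrCharacter.apply_one_ne_zero lam.2 (by
      rw [CharApp.DegreeSets.apply_one lam.2, h, Nat.cast_zero])
  unfold val
  positivity

end SData

/-- The pairs. -/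
structure SPair {C : Ctx G Ω a t Q} {P : Split Q} {lam : IrrCharacter P.R} (D : SData C P lam) (s : G) where
  U : (C.tt P (lam : P.R → ℂ) →* ℂˣ) → IrrCharacter G
  V : (C.tt P (lam : P.R → ℂ) →* ℂˣ) → IrrCharacter G
  ind : ∀ η, indFun _ (D.gg η) = (U η : G → ℂ) - (V η : G → ℂ)
  U_inj : Function.Injective U
  V_inj : Function.Injective V
  ne : ∀ η η', U η ≠ V η'
  deg : ∀ η, dg (U η) = dg (V η)
  wU : ∀ η, C.ww s (U η) = -(D.val / Nat.card (C.tt P (lam : P.R → ℂ))) / 2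
  wV : ∀ η, C.ww s (V η) = D.val / Nat.card (C.tt P (lam : P.R → ℂ)) / 2

/-- The constituent attached to a free `ψ ⊗ λ`. -/
def SImg {C : Ctx G Ω a t Q} {P : Split Q} {lam : IrrCharacter P.R} {D : SData C P lam} {s : G}
    (S : SPair D s) (ψ : P.S → ℂ) (Y : IrrCharacter G) : Prop :=
  (∀ η, Y ≠ S.U η ∧ Y ≠ S.V η) ∧
  ∀ F, F = indFun Q (C.theta P ψ (lam : P.R → ℂ) - C.theta P 1 (lam : P.R → ℂ)) →
    IsGeneralizedCharacter G F ∧ mm F Y * mm F Y = 1 ∧ (mm F Y : ℝ) * C.ww s Y = -D.val / 2 ∧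
    (∀ η, mm F (S.U η) - mm F (S.V η) = 1 ∧ (mm F (S.U η) = 0 ∨ mm F (S.U η) = 1)) ∧
    (∀ χ, (∀ η, χ ≠ S.U η ∧ χ ≠ S.V η) → χ ≠ Y → mm F χ = 0)

namespace SData

variable {C : Ctx G Ω a t Q} {P : Split Q} {lam : IrrCharacter P.R} (D : SData C P lam)
include D

theorem exists_spair [Fintype ↥DD] {s : G} (hs : s ∈ II) : Nonempty (SPair D s) := by
  choose U V hne hind hdeg hw hw2 using fun η =>
    C.pair_of_norm_two (D.gg_supp η) (C.hh_le _) (D.gg_gc η) (by rw [D.inner_gg, if_pos rfl]) hs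
      (D.gg_value hs η)
  have hdis : ∀ η η', η ≠ η' → U η ≠ U η' ∧ U η ≠ V η' ∧ V η ≠ U η' ∧ V η ≠ V η' := fun η η' h =>
    pair_disjoint (hne η) (hne η') (by rw [← hind, ← hind, D.inner_gg, if_neg h])
  have hsig : D.val / (Nat.card (C.tt P (lam : P.R → ℂ)) : ℝ) ≠ 0 :=
    div_ne_zero D.val_pos.ne' (Nat.cast_ne_zero.2 D.prime.ne_zero)
  have hopp : ∀ η, C.ww s (V η) = -C.ww s (U η) := fun η => by
    rcases sq_eq_sq_iff_eq_or_eq_neg.1 (hw2 η) with e | e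
    · exfalso
      have h := hw η
      rw [e, sub_self] at h
      exact hsig (by linarith)
    · linarith
  refine ⟨⟨U, V, hind, fun η η' e => by_contra fun h => (hdis η η' h).1 e,
    fun η η' e => by_contra fun h => (hdis η η' h).2.2.2 e, fun η η' e => ?_, hdeg, fun η => ?_, fun η => ?_⟩⟩
  · by_cases h : η = η'
    · subst h; exact hne η e
    · exact (hdis η η' h).2.1 e
  · have h := hw η
    rw [hopp η] at h
    linarith
  · have h := hw η
    rw [hopp η] at h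
    rw [hopp η]
    linarith

theorem card_eta : Nat.card (C.tt P (lam : P.R → ℂ) →* ℂˣ) = Nat.card (C.tt P (lam : P.R → ℂ)) := by
  haveI := Fact.mk D.prime
  haveI : IsCyclic (C.tt P (lam : P.R → ℂ)) := isCyclic_of_prime_card rfl
  exact BSW.card_dual _ fun x hx y hy => congrArg Subtype.val
    (IsCyclic.commGroup.mul_comm (⟨x, hx⟩ : C.tt P (lam : P.R → ℂ)) ⟨y, hy⟩)

theorem finite_eta : Finite (C.tt P (lam : P.R → ℂ) →* ℂˣ) :=
  Nat.finite_of_card_ne_zero (by rw [D.card_eta]; exact D.prime.ne_zero)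

/-- A free character is apart from the two fixed ones. -/
theorem free_apart {ψ : P.S → ℂ} (hψ : IsIrrCharacter P.S ψ)
    (hfree : ∀ d ∈ C.stabR P (lam : P.R → ℂ), ψ ∘ C.cjS P (C.dq d) = ψ → d = 1)
    {χ : P.S → ℂ} (hχ : C.IsFixed P (lam : P.R → ℂ) χ) :
    ∀ d ∈ C.stabR P (lam : P.R → ℂ), ψ ∘ C.cjS P (C.dq d) ≠ χ ∧ χ ∘ C.cjS P (C.dq d) ≠ ψ := by
  have hne : χ ≠ ψ := by
    intro e
    subst e
    have h1 : C.stabR P (lam : P.R → ℂ) = ⊥ := by
      rw [eq_bot_iff]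
      intro d hd
      exact hfree d hd (hχ d hd)
    have h := D.prime.ne_one
    rw [C.card_tt, h1] at h
    exact h (Subgroup.card_bot)
  intro d hd
  refine ⟨fun e => hne ?_, fun e => hne ((hχ d hd).symm.trans e)⟩
  have h := hχ d⁻¹ (inv_mem hd)
  rw [← h, ← e]
  funext x
  show ψ (C.cjS P (C.dq d) (C.cjS P (C.dq d⁻¹) x)) = ψ x
  rw [← C.cjS_mul, inv_mul_cancel]
  exact congrArg ψ (C.cjS_one P x)

theorem inner_gq [Fintype ↥DD] {ψ : P.S → ℂ} (hψ : IsIrrCharacter P.S ψ)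
    (hfree : ∀ d ∈ C.stabR P (lam : P.R → ℂ), ψ ∘ C.cjS P (C.dq d) = ψ → d = 1)
    (h1 : ψ 1 = 1) (η : C.tt P (lam : P.R → ℂ) →* ℂˣ) :
    classInner (indFun Q (C.theta P ψ (lam : P.R → ℂ) - C.theta P 1 (lam : P.R → ℂ)))
      (indFun _ (D.gg η)) = 1 := by
  haveI : Fintype Q := Fintype.ofFinite _
  set θ := C.theta P ψ (lam : P.R → ℂ)
  set θ₀ := C.theta P 1 (lam : P.R → ℂ)
  have hf : Supp a Q (θ - θ₀) := C.supp_Q (Char.isClassFunction_sub
    (Char.IsIrrCharacter.isClassFunction (C.theta_irr P hψ lam.2))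
    (Char.IsIrrCharacter.isClassFunction (C.theta_irr P (C.one_irr P) lam.2)))
    (by simp [θ, θ₀, C.theta_one, h1])
  have hcomp : ∀ d : ↥DD, tw Q (D.gg η) (d : G) =
      C.theta P (BSW.lin D.ω) (lam : P.R → ℂ) ∘ C.cjQ (C.dq d) - θ₀ ∘ C.cjQ (C.dq d) := fun d => by
    rw [gg, tw_sub]
    funext x
    rw [Pi.sub_apply, C.tw_coe (C.Q_le_hh _), C.tw_coe (C.Q_le_hh _), D.up_res, D.dn_res]
    rfl
  have a1 := C.sum_apart P (lam := lam) hψ (BSW.isIrr_lin D.ω) fun d hd =>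
    (D.free_apart hψ hfree D.fix_ω d hd).2
  have a2 := C.sum_apart P (lam := lam) hψ (C.one_irr P) fun d hd =>
    (D.free_apart hψ hfree (C.isFixed_one P _) d hd).2
  have a3 := C.sum_apart P (lam := lam) (C.one_irr P) (BSW.isIrr_lin D.ω) D.ω_apart
  have a4 := C.sum_fixed P (lam := lam) (C.one_irr P) (C.isFixed_one P _)
  rw [C.inner_ind (C.Q_le_hh _) (C.hh_le _) hf (D.gg_supp η).1, D.qh]
  show _ * ∑ d : ↥DD, classInner (θ - θ₀) (tw Q (D.gg η) (d : G)) = _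
  simp only [hcomp, Char.classInner_sub_left, Char.classInner_sub_right, Finset.sum_sub_distrib, θ, θ₀,
    a1, a2, a3, a4, C.card_tt]
  rw [← C.card_tt]
  simp [Nat.cast_ne_zero.2 D.prime.ne_zero]

theorem inner_qq [Fintype ↥DD] {ψ ψ' : P.S → ℂ} (hψ : IsIrrCharacter P.S ψ) (hψ' : IsIrrCharacter P.S ψ')
    (hfree : ∀ d ∈ C.stabR P (lam : P.R → ℂ), ψ ∘ C.cjS P (C.dq d) = ψ → d = 1)
    (hfree' : ∀ d ∈ C.stabR P (lam : P.R → ℂ), ψ' ∘ C.cjS P (C.dq d) = ψ' → d = 1)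
    (h1 : ψ 1 = 1) :
    (ψ = ψ' → classInner (indFun Q (C.theta P ψ (lam : P.R → ℂ) - C.theta P 1 (lam : P.R → ℂ)))
      (indFun Q (C.theta P ψ' (lam : P.R → ℂ) - C.theta P 1 (lam : P.R → ℂ))) =
        ((1 + Nat.card (C.tt P (lam : P.R → ℂ)) : ℕ) : ℂ)) ∧
    ((∀ d ∈ C.stabR P (lam : P.R → ℂ), ψ' ∘ C.cjS P (C.dq d) ≠ ψ) →
      classInner (indFun Q (C.theta P ψ (lam : P.R → ℂ) - C.theta P 1 (lam : P.R → ℂ)))
      (indFun Q (C.theta P ψ' (lam : P.R → ℂ) - C.theta P 1 (lam : P.R → ℂ))) =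
        (Nat.card (C.tt P (lam : P.R → ℂ)) : ℂ)) := by
  haveI : Fintype Q := Fintype.ofFinite _
  have hcl := fun {χ : P.S → ℂ} (h : IsIrrCharacter P.S χ) =>
    Char.IsIrrCharacter.isClassFunction (C.theta_irr P h lam.2)
  have hcomp : ∀ (g g' : Q → ℂ) (d : ↥DD),
      (g - g') ∘ C.cjQ (C.dq d) = g ∘ C.cjQ (C.dq d) - g' ∘ C.cjQ (C.dq d) := fun _ _ _ => rfl
  rw [C.ind_inner_Q (Char.isClassFunction_sub (hcl hψ) (hcl (C.one_irr P))) (by simp [C.theta_one, h1])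
    (Char.isClassFunction_sub (hcl hψ') (hcl (C.one_irr P)))]
  have a2 := C.sum_apart P (lam := lam) hψ (C.one_irr P) fun d hd =>
    (D.free_apart hψ hfree (C.isFixed_one P _) d hd).2
  have a3 := C.sum_apart P (lam := lam) (C.one_irr P) hψ' fun d hd =>
    (D.free_apart hψ' hfree' (C.isFixed_one P _) d hd).1
  have a4 := C.sum_fixed P (lam := lam) (C.one_irr P) (C.isFixed_one P _)
  simp only [hcomp, Char.classInner_sub_left, Char.classInner_sub_right, Finset.sum_sub_distrib, a2, a3,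
    a4, C.card_tt]
  constructor
  · intro e
    subst e
    rw [C.sum_free P hψ hfree]
    push_cast
    ring
  · intro h
    rw [C.sum_apart P hψ hψ' h]
    ring

theorem exists_simg [Fintype ↥DD] {s : G} (hs : s ∈ II) (S : SPair D s) {ψ : IrrCharacter P.S}
    (hψ1 : (ψ : P.S → ℂ) ≠ 1) (h1 : (ψ : P.S → ℂ) 1 = 1)
    (hfree : ∀ d ∈ C.stabR P (lam : P.R → ℂ), (ψ : P.S → ℂ) ∘ C.cjS P (C.dq d) = (ψ : P.S → ℂ) → d = 1) :
    ∃ Y, SImg S (ψ : P.S → ℂ) Y := by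
  haveI : Fintype (IrrCharacter G) := Fintype.ofFinite _
  haveI := D.finite_eta
  haveI : Fintype (C.tt P (lam : P.R → ℂ) →* ℂˣ) := Fintype.ofFinite _
  have hcl := fun {χ : P.S → ℂ} (h : IsIrrCharacter P.S χ) =>
    Char.IsIrrCharacter.isClassFunction (C.theta_irr P h lam.2)
  set f := C.theta P (ψ : P.S → ℂ) (lam : P.R → ℂ) - C.theta P 1 (lam : P.R → ℂ) with hf
  set F := indFun Q f with hF
  have hgc : IsGeneralizedCharacter G F := Char.IsGeneralizedCharacter.indFun (Char.IsGeneralizedCharacter.sub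
    (Char.isGeneralizedCharacter_of_isCharacter (Char.IsIrrCharacter.isCharacter (C.theta_irr P ψ.2 lam.2)))
    (Char.isGeneralizedCharacter_of_isCharacter
      (Char.IsIrrCharacter.isCharacter (C.theta_irr P (C.one_irr P) lam.2))))
  have hm : ∀ η, mm F (S.U η) - mm F (S.V η) = 1 := fun η => by
    have h : classInner F _ = 1 := D.inner_gq ψ.2 hfree h1 η
    rw [S.ind η, Char.classInner_sub_right, mm_spec hgc, mm_spec hgc, ← Int.cast_sub, ← Int.cast_one,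
      Int.cast_inj] at h
    exact h
  obtain ⟨Y, hY, hYY, h01, hrest⟩ := C.exists_leftover hgc
    (((D.inner_qq ψ.2 ψ.2 hfree hfree h1).1 rfl).trans (by rw [← D.card_eta, Nat.card_eq_fintype_card]))
    S.U_inj S.V_inj S.ne hm
  refine ⟨Y, hY, fun F' hF' => ?_⟩
  rw [show F' = F from hF']
  refine ⟨hgc, hYY, ?_, fun η => ⟨hm η, h01 η⟩, hrest⟩
  have hsupp : Supp a Q f := C.supp_Q (Char.isClassFunction_sub (hcl ψ.2) (hcl (C.one_irr P)))
    (by simp [hf, C.theta_one, h1])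
  have hval : F s = ((-D.val : ℝ) : ℂ) := by
    have hne : ¬ ∀ z ∈ C.zS P, (ψ : P.S → ℂ) z = (ψ : P.S → ℂ) 1 := fun h => hψ1 (funext fun x => by
      rw [Pi.one_apply, ← h1]
      exact h x (by rw [Subgroup.index_eq_one.1 D.index]; trivial))
    rw [hF, hf, C.ind_theta_sub P hs hne lam (hcl (C.one_irr P)) fun z hz => by
      rw [C.theta_zz P _ _ ⟨z, C.ii_zz hz⟩, h1]; rfl]
    rw [h1, CharApp.DegreeSets.apply_one lam.2, val]
    push_cast
    ring
  have hw := C.sum_mm_ww hsupp hgc hs hval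
  set T : Finset (IrrCharacter G) := Finset.univ.image S.U ∪ Finset.univ.image S.V with hT
  have hd : Disjoint (Finset.univ.image S.U) (Finset.univ.image S.V) :=
    Finset.disjoint_left.2 fun x h1 h2 => by
      obtain ⟨i, -, rfl⟩ := Finset.mem_image.1 h1
      obtain ⟨j, -, e⟩ := Finset.mem_image.1 h2
      exact S.ne i j e.symm
  rw [← Finset.sum_add_sum_compl T, hT, Finset.sum_union hd, Finset.sum_image fun i _ j _ e => S.U_inj e,
    Finset.sum_image fun i _ j _ e => S.V_inj e, ← Finset.sum_add_distrib, ← hT,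
    Finset.sum_eq_single_of_mem Y (by simp [hT, forall_and, eq_comm] at hY ⊢; exact hY) fun χ hχ hne => by
      rw [hrest χ (by simp [hT, forall_and, eq_comm] at hχ ⊢; exact hχ) hne, Int.cast_zero, zero_mul],
    Finset.sum_congr rfl fun η _ => show _ = -(D.val / Nat.card (C.tt P (lam : P.R → ℂ))) / 2 by
      rw [S.wU, S.wV, show (mm F (S.V η) : ℝ) = (mm F (S.U η) : ℝ) - 1 by
        rw [← Int.cast_one, ← Int.cast_sub]; congr 1; have := hm η; linarith]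
      ring,
    Finset.sum_const, Finset.card_univ, nsmul_eq_mul, ← Nat.card_eq_fintype_card, D.card_eta] at hw
  have hp : (Nat.card (C.tt P (lam : P.R → ℂ)) : ℝ) ≠ 0 := Nat.cast_ne_zero.2 D.prime.ne_zero
  field_simp at hw
  linarith

theorem simg_inj [Fintype ↥DD] {s : G} (S : SPair D s) {ψ ψ' : IrrCharacter P.S}
    (h1 : (ψ : P.S → ℂ) 1 = 1) (h1' : (ψ' : P.S → ℂ) 1 = 1)
    (hfree : ∀ d ∈ C.stabR P (lam : P.R → ℂ), (ψ : P.S → ℂ) ∘ C.cjS P (C.dq d) = (ψ : P.S → ℂ) → d = 1)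
    (hfree' : ∀ d ∈ C.stabR P (lam : P.R → ℂ), (ψ' : P.S → ℂ) ∘ C.cjS P (C.dq d) = (ψ' : P.S → ℂ) → d = 1)
    {Y : IrrCharacter G} (hY : SImg S (ψ : P.S → ℂ) Y) (hY' : SImg S (ψ' : P.S → ℂ) Y) :
    ∃ d ∈ C.stabR P (lam : P.R → ℂ), (ψ' : P.S → ℂ) ∘ C.cjS P (C.dq d) = (ψ : P.S → ℂ) := by
  by_contra hcon
  push Not at hcon
  haveI : Fintype (IrrCharacter G) := Fintype.ofFinite _
  haveI := D.finite_eta
  haveI : Fintype (C.tt P (lam : P.R → ℂ) →* ℂˣ) := Fintype.ofFinite _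
  obtain ⟨hYT, hY⟩ := hY
  obtain ⟨-, hY'⟩ := hY'
  obtain ⟨hgc, hsq, hw, hp, hrest⟩ := hY _ rfl
  obtain ⟨hgc', hsq', hw', hp', hrest'⟩ := hY' _ rfl
  set f := C.theta P (ψ : P.S → ℂ) (lam : P.R → ℂ) - C.theta P 1 (lam : P.R → ℂ) with hf
  set f' := C.theta P (ψ' : P.S → ℂ) (lam : P.R → ℂ) - C.theta P 1 (lam : P.R → ℂ) with hf'
  set F := indFun Q f with hF
  set F' := indFun Q f' with hF'
  have hδ : mm F Y = mm F' Y := by
    have : C.ww s Y ≠ 0 := fun e => by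
      rw [e, mul_zero] at hw
      linarith [D.val_pos]
    exact_mod_cast mul_right_cancel₀ this (hw.trans hw'.symm)
  set T : Finset (IrrCharacter G) := Finset.univ.image S.U ∪ Finset.univ.image S.V with hT
  have hd : Disjoint (Finset.univ.image S.U) (Finset.univ.image S.V) :=
    Finset.disjoint_left.2 fun x h1 h2 => by
      obtain ⟨i, -, rfl⟩ := Finset.mem_image.1 h1
      obtain ⟨j, -, e⟩ := Finset.mem_image.1 h2
      exact S.ne i j e.symm
  have hnT : ∀ χ, (∀ η, χ ≠ S.U η ∧ χ ≠ S.V η) ↔ χ ∈ Tᶜ := fun χ => by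
    simp [hT, forall_and, eq_comm]
  have hi := (D.inner_qq ψ.2 ψ'.2 hfree hfree' h1).2 hcon
  rw [mm_inner hgc hgc', ← Int.cast_natCast (R := ℂ), Int.cast_inj, ← Finset.sum_add_sum_compl T, hT,
    Finset.sum_union hd, Finset.sum_image fun i _ j _ e => S.U_inj e,
    Finset.sum_image fun i _ j _ e => S.V_inj e, ← Finset.sum_add_distrib, ← hT,
    Finset.sum_eq_single_of_mem Y ((hnT Y).1 hYT) fun χ hχ hne => by
      rw [hrest χ ((hnT χ).2 hχ) hne, zero_mul], ← hδ, hsq] at hi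
  have hterm : ∀ η, mm F (S.U η) * mm F' (S.U η) + mm F (S.V η) * mm F' (S.V η) =
      if mm F (S.U η) = mm F' (S.U η) then 1 else 0 := fun η => by
    obtain ⟨e, h⟩ := hp η
    obtain ⟨e', h'⟩ := hp' η
    rw [show mm F (S.V η) = mm F (S.U η) - 1 by linarith, show mm F' (S.V η) = mm F' (S.U η) - 1 by linarith]
    rcases h with h | h <;> rcases h' with h' | h' <;> rw [h, h'] <;> norm_num
  rw [Finset.sum_congr rfl fun η _ => hterm η, Finset.sum_boole, Nat.card_congr (Equiv.refl _),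
    ← D.card_eta, Nat.card_eq_fintype_card, ← Finset.card_univ,
    ← Finset.card_filter_add_card_filter_not (fun η => mm F (S.U η) = mm F' (S.U η))
      (s := Finset.univ), Nat.cast_add] at hi
  have hone : (Finset.univ.filter fun η => ¬ mm F (S.U η) = mm F' (S.U η)).card = 1 := by
    have h : ((Finset.univ.filter fun η => ¬ mm F (S.U η) = mm F' (S.U η)).card : ℤ) = 1 := by linarith
    exact_mod_cast h
  obtain ⟨η₀, hη₀⟩ := Finset.card_eq_one.1 hone
  have hsum : ∀ {g : Q → ℂ} (_ : Supp a Q g) (_ : IsGeneralizedCharacter G (indFun Q g)),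
      (∀ χ, (∀ η, χ ≠ S.U η ∧ χ ≠ S.V η) → χ ≠ Y → mm (indFun Q g) χ = 0) →
      ∑ η, ((mm (indFun Q g) (S.U η) + mm (indFun Q g) (S.V η) : ℤ) : ℝ) * dg (S.U η) =
        -((mm (indFun Q g) Y : ℝ) * dg Y) := by
    intro g hg hg' hr
    have h := C.sum_mm_one hg hg'
    rw [← Finset.sum_add_sum_compl T, hT,
      Finset.sum_union hd, Finset.sum_image fun i _ j _ e => S.U_inj e,
      Finset.sum_image fun i _ j _ e => S.V_inj e, ← Finset.sum_add_distrib, ← hT,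
      Finset.sum_eq_single_of_mem Y ((hnT Y).1 hYT) fun χ hχ hne => by
        rw [hr χ ((hnT χ).2 hχ) hne, Int.cast_zero, zero_mul]] at h
    rw [← eq_neg_of_add_eq_zero_left h]
    exact Finset.sum_congr rfl fun η _ => by rw [← S.deg η]; push_cast; ring
  have hcl := fun {χ : P.S → ℂ} (h : IsIrrCharacter P.S χ) =>
    Char.IsIrrCharacter.isClassFunction (C.theta_irr P h lam.2)
  have e1 := hsum (C.supp_Q (Char.isClassFunction_sub (hcl ψ.2) (hcl (C.one_irr P)))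
    (by simp [C.theta_one, h1])) hgc hrest
  have e2 := hsum (C.supp_Q (Char.isClassFunction_sub (hcl ψ'.2) (hcl (C.one_irr P)))
    (by simp [C.theta_one, h1'])) hgc' hrest'
  rw [← hf, ← hF] at e1
  rw [← hf', ← hF', ← hδ, ← e1, ← sub_eq_zero, ← Finset.sum_sub_distrib, Finset.sum_eq_single η₀] at e2
  · rw [← sub_mul, mul_eq_zero, sub_eq_zero, Int.cast_inj] at e2
    have hη := (Finset.mem_filter.1 (show η₀ ∈ Finset.univ.filter fun η => ¬ mm F (S.U η) = mm F' (S.U η) by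
      rw [hη₀]; exact Finset.mem_singleton_self _)).2
    refine hη ?_
    have e3 := e2.resolve_right (dg_pos _).ne'
    linarith [(hp η₀).1, (hp' η₀).1]
  · intro η _ hne
    have : mm F (S.U η) = mm F' (S.U η) := by
      by_contra hne'
      exact hne (Finset.mem_singleton.1 (hη₀ ▸ Finset.mem_filter.2 ⟨Finset.mem_univ _, hne'⟩))
    rw [show mm F (S.V η) = mm F' (S.V η) by linarith [(hp η).1, (hp' η).1], this, sub_self]
  · exact fun h => absurd (Finset.mem_univ _) h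

end SData

end Cfsg.Agent.SuzukiRankOne.Kernel
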