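import Cfsg.Agent.Lib.SuzukiRankOne.Kernel.Linear
import Cfsg.Agent.Lib.SuzukiRankOne.Kernel.CharFacts
import Cfsg.Agent.Lib.Char.PRegular
import Cfsg.Agent.Lib.Char.Linear
import Cfsg.Agent.S1132
import Cfsg.Agent.S1137
import Cfsg.Agent.S1138

/-!
`Q = S × R` and its characters.

* `Split` : the decomposition;  `cjS`, `cjR` : the action of `G_a`
* `theta` : the character `ψ ⊗ λ`;  `theta_irr`, `theta_inj`, `theta_comp`
* `zS` : the involutions inside `S`;  `index_zS`, `linear_of_trivial`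
-/

set_option autoImplicit false
set_option linter.unusedSectionVars false

namespace Cfsg.Agent.SuzukiRankOne.Kernel

open MulAction Cfsg Cfsg.Agent Cfsg.Agent.RankOne
open scoped ComplexConjugate

variable {G Ω : Type*} [Group G] [Fintype G] [MulAction G Ω] {a : Ω} {t : G} {Q : Subgroup G}

local notation "DD" => (stabilizer G a ⊓ stabilizer G (t • a) : Subgroup G)
local notation "II" => Cfsg.involutionsIn (stabilizer G a : Set G)

/-- `Q = S × R` with `|S|` a power of two and `|R|` odd. -/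
structure Split {G : Type*} [Group G] (Q : Subgroup G) where
  k : ℕ
  r : ℕ
  r_odd : Odd r
  card_Q : Nat.card Q = 2 ^ k * r
  S : Subgroup Q
  R : Subgroup Q
  e : S × R ≃* Q
  e_apply : ∀ (u : S) (v : R), e (u, v) = (u : Q) * v
  mem_S : ∀ x : Q, x ∈ S ↔ x ^ 2 ^ k = 1
  mem_R : ∀ x : Q, x ∈ R ↔ x ^ r = 1
  card_S : Nat.card S = 2 ^ k
  card_R : Nat.card R = r

namespace Ctx

variable (C : Ctx G Ω a t Q)
include C

theorem nonempty_split : Nonempty (Split Q) := by
  haveI := Setup.isNilpotent C.setup C.two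
  obtain ⟨k, r, hr, he⟩ := Nat.exists_eq_two_pow_mul_odd (n := Nat.card Q) Nat.card_pos.ne'
  obtain ⟨S, R, e, h1, h2, h3, h4, h5⟩ := Char.exists_split (G := Q)
    (Nat.Coprime.pow_left k (Nat.coprime_two_left.2 hr)) he
  exact ⟨⟨k, r, hr, he, S, R, e, h1, h2, h3, h4, h5⟩⟩

variable (P : Split Q)

/-- The action on the 2-part. -/
noncomputable def cjS (d : stabilizer G a) : P.S →* P.S where
  toFun x := ⟨C.cjQ d x, (P.mem_S _).2 (by rw [← map_pow, (P.mem_S _).1 x.2, map_one])⟩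
  map_one' := Subtype.ext (map_one _)
  map_mul' x y := Subtype.ext (map_mul (C.cjQ d) (x : Q) y)

/-- The action on the odd part. -/
noncomputable def cjR (d : stabilizer G a) : P.R →* P.R where
  toFun x := ⟨C.cjQ d x, (P.mem_R _).2 (by rw [← map_pow, (P.mem_R _).1 x.2, map_one])⟩
  map_one' := Subtype.ext (map_one _)
  map_mul' x y := Subtype.ext (map_mul (C.cjQ d) (x : Q) y)

theorem cjS_coe (d : stabilizer G a) (x : P.S) : ((C.cjS P d x : Q)) = C.cjQ d x := rfl

theorem cjR_coe (d : stabilizer G a) (x : P.R) : ((C.cjR P d x : Q)) = C.cjQ d x := rfl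

theorem cjS_bijective (d : stabilizer G a) : Function.Bijective (C.cjS P d) :=
  Finite.injective_iff_bijective.1 fun _ _ e => Subtype.ext ((C.cjQ_bijective d).1 (congrArg Subtype.val e))

theorem cjR_bijective (d : stabilizer G a) : Function.Bijective (C.cjR P d) :=
  Finite.injective_iff_bijective.1 fun _ _ e => Subtype.ext ((C.cjQ_bijective d).1 (congrArg Subtype.val e))

/-- `cjR` as an automorphism. -/
noncomputable def autR (d : stabilizer G a) : P.R ≃* P.R :=
  MulEquiv.ofBijective (C.cjR P d) (C.cjR_bijective P d)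

/-- `cjS` as an automorphism. -/
noncomputable def autS (d : stabilizer G a) : P.S ≃* P.S :=
  MulEquiv.ofBijective (C.cjS P d) (C.cjS_bijective P d)

theorem cjR_comp (d e : stabilizer G a) (x : P.R) : C.cjR P d (C.cjR P e x) = C.cjR P (e * d) x :=
  Subtype.ext (DFunLike.congr_fun (C.cjQ_comp d e) (x : Q))

theorem cjS_comp (d e : stabilizer G a) (x : P.S) : C.cjS P d (C.cjS P e x) = C.cjS P (e * d) x :=
  Subtype.ext (DFunLike.congr_fun (C.cjQ_comp d e) (x : Q))

theorem cjR_one (x : P.R) : C.cjR P 1 x = x :=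
  Subtype.ext (DFunLike.congr_fun C.cjQ_one (x : Q))

theorem cjS_one (x : P.S) : C.cjS P 1 x = x :=
  Subtype.ext (DFunLike.congr_fun C.cjQ_one (x : Q))

/-- The character `ψ ⊗ λ` of `Q`. -/
noncomputable def theta (_C : Ctx G Ω a t Q) (ψ : P.S → ℂ) (lam : P.R → ℂ) : Q → ℂ :=
  fun x => ψ (P.e.symm x).1 * lam (P.e.symm x).2

theorem theta_apply (ψ : P.S → ℂ) (lam : P.R → ℂ) (u : P.S) (v : P.R) :
    C.theta P ψ lam ((u : Q) * v) = ψ u * lam v := by
  rw [← P.e_apply, theta, MulEquiv.symm_apply_apply]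

theorem theta_irr {ψ : P.S → ℂ} {lam : P.R → ℂ} (hψ : IsIrrCharacter P.S ψ)
    (hlam : IsIrrCharacter P.R lam) : IsIrrCharacter Q (C.theta P ψ lam) :=
  Char.IsIrrCharacter.comp_equiv (Char.IsIrrCharacter.prodMul hψ hlam) P.e.symm

theorem theta_comp (ψ : P.S → ℂ) (lam : P.R → ℂ) (d : stabilizer G a) :
    C.theta P ψ lam ∘ C.cjQ d = C.theta P (ψ ∘ C.cjS P d) (lam ∘ C.cjR P d) := by
  funext x
  obtain ⟨⟨u, v⟩, rfl⟩ := P.e.surjective x
  rw [P.e_apply, Function.comp_apply, map_mul, ← C.cjS_coe P, ← C.cjR_coe P, theta_apply, theta_apply]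
  rfl

theorem theta_one (ψ : P.S → ℂ) (lam : P.R → ℂ) : C.theta P ψ lam 1 = ψ 1 * lam 1 := by
  rw [← theta_apply C P ψ lam 1 1]; simp

theorem theta_inj {ψ ψ' : P.S → ℂ} {lam lam' : P.R → ℂ} (hψ : IsIrrCharacter P.S ψ)
    (hψ' : IsIrrCharacter P.S ψ') (hlam : IsIrrCharacter P.R lam) (hlam' : IsIrrCharacter P.R lam')
    (h : C.theta P ψ lam = C.theta P ψ' lam') : ψ = ψ' ∧ lam = lam' := by
  classical
  haveI : Fintype P.S := Fintype.ofFinite _
  haveI : Fintype P.R := Fintype.ofFinite _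
  have e : (fun x : P.S × P.R => ψ x.1 * lam x.2) = fun x : P.S × P.R => ψ' x.1 * lam' x.2 := by
    funext x
    have := congrFun h (P.e x)
    simpa [theta] using this
  have h1 := Char.classInner_irr_self (Char.IsIrrCharacter.prodMul hψ hlam)
  nth_rewrite 2 [e] at h1
  rw [Char.classInner_prodMul, Char.classInner_irr hψ hψ', Char.classInner_irr hlam hlam'] at h1
  by_cases e1 : ψ = ψ'
  · by_cases e2 : lam = lam'
    · exact ⟨e1, e2⟩
    · rw [if_neg e2, mul_zero] at h1; exact absurd h1 zero_ne_one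
  · rw [if_neg e1, zero_mul] at h1; exact absurd h1 zero_ne_one

/-- `1` and the involutions, inside `S`. -/
noncomputable def zS : Subgroup P.S := (C.zz.subgroupOf Q).subgroupOf P.S

theorem mem_zS {u : P.S} : u ∈ C.zS P ↔ ((u : Q) : G) ∈ C.zz := Iff.rfl

theorem zS_mem_S {z : G} (hz : z ∈ C.zz) : (⟨z, C.zz_le hz⟩ : Q) ∈ P.S := by
  rw [P.mem_S]
  rcases Nat.eq_zero_or_pos P.k with h0 | hk
  · exfalso
    have h := C.setup.even_card
    rw [P.card_Q, h0, pow_zero, one_mul] at h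
    exact Nat.not_even_iff_odd.2 P.r_odd h
  · obtain ⟨j, hj⟩ : ∃ j, 2 ^ P.k = 2 * j := ⟨2 ^ (P.k - 1), by rw [← pow_succ']; congr 1; omega⟩
    rw [hj, pow_mul, pow_two, show (⟨z, C.zz_le hz⟩ : Q) * ⟨z, C.zz_le hz⟩ = 1 from Subtype.ext (C.zz_sq hz),
      one_pow]

/-- An involution as an element of `S`. -/
noncomputable def zEquiv : C.zz ≃* C.zS P where
  toFun z := ⟨⟨⟨z, C.zz_le z.2⟩, C.zS_mem_S P z.2⟩, z.2⟩
  invFun u := ⟨((u : P.S) : Q), u.2⟩
  left_inv z := rfl
  right_inv u := rfl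
  map_mul' z z' := rfl

theorem card_zS : Nat.card (C.zS P) = C.qq := by
  rw [← C.card_zz]; exact (Nat.card_congr (C.zEquiv P).toEquiv).symm

theorem zS_central : ∀ z ∈ C.zS P, ∀ u : P.S, z * u = u * z := fun _ hz u =>
  Subtype.ext (Subtype.ext (C.zz_comm hz (u : Q).2))

/-- `q ≤ |S|`, with equality only if all of `S` squares to `1`. -/
theorem index_zS_mul : C.qq * (C.zS P).index = 2 ^ P.k := by
  rw [← C.card_zS P, Subgroup.card_mul_index, P.card_S]

theorem qq_dvd : C.qq ∣ 2 ^ P.k := ⟨_, (C.index_zS_mul P).symm⟩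

/-- `S` is abelian, or its commutators and squares are central involutions and `|S| = q²` or `q³`. -/
theorem S_cases : (∀ u v : P.S, u * v = v * u) ∨
    ((∀ u v : P.S, u⁻¹ * v⁻¹ * u * v ∈ C.zS P) ∧
      ((C.zS P).index = C.qq ∨ (C.zS P).index = C.qq ^ 2)) := by
  haveI := Fact.mk Nat.prime_two
  haveI := C.faithful
  let Sy : Sylow 2 Q := Sylow.ofCard P.S (by
    rw [P.card_S, P.card_Q, Nat.factorization_mul (by positivity) P.r_odd.pos.ne', Finsupp.add_apply,
      Nat.Prime.factorization_pow Nat.prime_two, Finsupp.single_eq_same,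
      Nat.factorization_eq_zero_of_not_dvd (by
        intro h; exact Nat.not_even_iff_odd.2 P.r_odd (even_iff_two_dvd.2 h)), add_zero])
  rcases S1132.result C.setup C.two Sy with h | h
  · left
    haveI : IsMulCommutative (P.S : Subgroup Q) := h
    exact fun u v => mul_comm' u v
  · right
    have hz : Subgroup.center P.S = C.zS P := by
      ext u
      constructor
      · intro hu
        refine C.mem_zz_of (u : Q).2 ?_
        exact congrArg (fun w : P.S => ((w : Q) : G)) ((S1137.result h).2 u hu)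
      · intro hu
        exact Subgroup.mem_center_iff.2 fun v => (C.zS_central P u hu v).symm
    obtain ⟨-, hc, hcard, -⟩ := S1138.result h
    refine ⟨fun u v => hz ▸ hc u v, ?_⟩
    have hq := C.four_le_qq.1
    have h1 : C.qq * (C.zS P).index = Nat.card P.S := by rw [C.index_zS_mul P, P.card_S]
    replace hcard : Nat.card P.S = Nat.card (Subgroup.center P.S) ^ 2 ∨
        Nat.card P.S = Nat.card (Subgroup.center P.S) ^ 3 := hcard
    rw [hz, C.card_zS P] at hcard
    rcases hcard with e | e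
    · exact Or.inl (Nat.eq_of_mul_eq_mul_left (by omega) (h1.trans (e.trans (pow_two _))))
    · exact Or.inr (Nat.eq_of_mul_eq_mul_left (by omega) (h1.trans (e.trans (by ring))))

theorem comm_mem_zS : ∀ u v : P.S, u⁻¹ * v⁻¹ * u * v ∈ C.zS P := by
  rcases C.S_cases P with h | h
  · intro u v
    rw [show u⁻¹ * v⁻¹ * u * v = 1 by rw [mul_assoc, h u v]; group]
    exact one_mem _
  · exact h.1

theorem linear_of_trivial {ψ : P.S → ℂ} (hψ : IsIrrCharacter P.S ψ)
    (h : ∀ z ∈ C.zS P, ψ z = ψ 1) : ψ 1 = 1 :=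
  degree_one_of_kernel hψ (C.zS P) (C.comm_mem_zS P) h

theorem degree_sq_le {ψ : P.S → ℂ} (hψ : IsIrrCharacter P.S ψ) :
    charDegree ψ ^ 2 ≤ (C.zS P).index :=
  sq_degree_le hψ (C.zS P) (C.zS_central P)

theorem theta_zz (ψ : P.S → ℂ) (lam : P.R → ℂ) (z : C.zz) :
    C.theta P ψ lam ⟨z, C.zz_le z.2⟩ = ψ (C.zEquiv P z : P.S) * lam 1 := by
  rw [← theta_apply C P ψ lam (C.zEquiv P z : P.S) 1]
  congr 1
  exact (mul_one _).symm

/-- The sum of `ψ ⊗ λ` over the involutions. -/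
theorem sum_theta_ii [Fintype (II : Set G)] {ψ : P.S → ℂ} (hψ : IsIrrCharacter P.S ψ) (lam : P.R → ℂ) :
    ((∀ z ∈ C.zS P, ψ z = ψ 1) →
      ∑ z : (II : Set G), C.theta P ψ lam ⟨z, C.ii_mem z.2⟩ = ((C.qq : ℂ) - 1) * (ψ 1 * lam 1)) ∧
    (¬(∀ z ∈ C.zS P, ψ z = ψ 1) →
      ∑ z : (II : Set G), C.theta P ψ lam ⟨z, C.ii_mem z.2⟩ = -(ψ 1 * lam 1)) := by
  constructor
  · intro h
    rw [Finset.sum_congr rfl (g := fun _ => ψ 1 * lam 1) fun z _ => by
      rw [C.theta_zz P ψ lam ⟨z, C.ii_zz z.2⟩, h _ (C.zEquiv P _).2],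
      Finset.sum_const, Finset.card_univ, nsmul_eq_mul, ← Nat.card_eq_fintype_card, qq]
    push_cast
    ring
  · intro h
    obtain ⟨ω, hω⟩ := exists_central_hom hψ (C.zS P) (C.zS_central P)
    have hval : ∀ u : C.zS P, ψ (u : P.S) = (ω u : ℂ) * ψ 1 := fun u => by rw [← hω, mul_one]
    rw [Finset.sum_congr rfl (g := fun z : (II : Set G) =>
      (((ω.comp (C.zEquiv P).toMonoidHom) ⟨z, C.ii_zz z.2⟩ : ℂˣ) : ℂ) * (ψ 1 * lam 1)) fun z _ => by
        rw [C.theta_zz P ψ lam ⟨z, C.ii_zz z.2⟩, hval]; simp [mul_assoc],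
      ← Finset.sum_mul, C.sum_ii_hom _ fun e => h fun z hz => ?_]
    · ring
    · have h1 : ω ⟨z, hz⟩ = 1 := by
        have := DFunLike.congr_fun e ((C.zEquiv P).symm ⟨z, hz⟩)
        simpa using this
      rw [hval ⟨z, hz⟩, h1, Units.val_one, one_mul]

end Ctx

end Cfsg.Agent.SuzukiRankOne.Kernel
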