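import Cfsg.Agent.Lib.SuzukiRankOne.Kernel.Split
import Cfsg.Agent.Lib.SuzukiRankOne.Kernel.Semilinear
import Cfsg.Agent.Lib.SuzukiRankOne.Kernel.Reduce

/-!
Stabilisers in `D` of the characters of the odd part of `Q`.

* `stabR`, `tt` : the stabiliser
* `Ctx.tt_cases` : it is trivial or of prime order `n` with `q = 2 ^ n`
* `Ctx.exists_moved` : the subgroup of `zS` moved by a non-trivial stabiliser
* `Ctx.conj_ne`, `Ctx.two_qq_le_r`
-/

set_option autoImplicit false
set_option linter.unusedSectionVars false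

namespace Cfsg.Agent.SuzukiRankOne.Kernel

open MulAction Cfsg Cfsg.Agent Cfsg.Agent.RankOne
open scoped ComplexConjugate

universe u v

variable {G : Type u} {Ω : Type v} [Group G] [Fintype G] [MulAction G Ω] {a : Ω} {t : G} {Q : Subgroup G}

local notation "DD" => (stabilizer G a ⊓ stabilizer G (t • a) : Subgroup G)
local notation "II" => Cfsg.involutionsIn (stabilizer G a : Set G)

namespace Ctx

variable (C : Ctx G Ω a t Q) (P : Split Q)
include C

theorem cjR_mul (d e : ↥DD) (x : P.R) :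
    C.cjR P (C.dq (d * e)) x = C.cjR P (C.dq e) (C.cjR P (C.dq d) x) :=
  (C.cjR_comp P (C.dq e) (C.dq d) x).symm

theorem cjS_mul (d e : ↥DD) (x : P.S) :
    C.cjS P (C.dq (d * e)) x = C.cjS P (C.dq e) (C.cjS P (C.dq d) x) :=
  (C.cjS_comp P (C.dq e) (C.dq d) x).symm

/-- The stabiliser in `D` of a function on the odd part. -/
noncomputable def stabR (lam : P.R → ℂ) : Subgroup ↥DD where
  carrier := {d | ∀ x, lam (C.cjR P (C.dq d) x) = lam x}
  one_mem' x := by
    show lam (C.cjR P 1 x) = lam x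
    rw [C.cjR_one]
  mul_mem' {d e} hd he x := by rw [C.cjR_mul, he, hd]
  inv_mem' {d} hd x := by
    conv_rhs => rw [show x = C.cjR P (C.dq d) (C.cjR P (C.dq d⁻¹) x) by
      rw [← C.cjR_mul, inv_mul_cancel]; exact (C.cjR_one P x).symm]
    rw [hd]

theorem mem_stabR {lam : P.R → ℂ} {d : ↥DD} : d ∈ C.stabR P lam ↔ lam ∘ C.cjR P (C.dq d) = lam :=
  ⟨fun h => funext h, fun h x => congrFun h x⟩

/-- The stabiliser as a subgroup of `G`. -/
noncomputable def tt (lam : P.R → ℂ) : Subgroup G := (C.stabR P lam).map (DD).subtype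

theorem tt_le (lam : P.R → ℂ) : C.tt P lam ≤ DD := Subgroup.map_subtype_le _

theorem mem_tt {lam : P.R → ℂ} {d : ↥DD} : (d : G) ∈ C.tt P lam ↔ lam ∘ C.cjR P (C.dq d) = lam := by
  rw [← C.mem_stabR P]
  exact Subgroup.mem_map_iff_mem (DD).subtype_injective

theorem card_tt (lam : P.R → ℂ) : Nat.card (C.tt P lam) = Nat.card (C.stabR P lam) :=
  Subgroup.card_map_of_injective (DD).subtype_injective

theorem R_commute_iff {d : ↥DD} {x : P.R} : C.cjR P (C.dq d) x = x ↔ (d : G) * ((x : Q) : G) = ((x : Q) : G) * d := by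
  rw [Subtype.ext_iff, C.cjR_coe, Subtype.ext_iff, cjQ_apply, mul_assoc, inv_mul_eq_iff_eq_mul]
  exact eq_comm

theorem eq_one_of_two_power {x : P.R} {k : ℕ} (h : ((x : Q) : G) ^ 2 ^ k = 1) : x = 1 := by
  have h1 : orderOf x ∣ 2 ^ k := orderOf_dvd_of_pow_eq_one (Subtype.ext (Subtype.ext (by simpa using h)))
  have h2 : orderOf x ∣ P.r := orderOf_dvd_of_pow_eq_one (Subtype.ext ((P.mem_R _).1 x.2))
  rw [← orderOf_eq_one_iff]
  exact Nat.eq_one_of_dvd_coprimes (Nat.Coprime.pow_left k (Nat.coprime_two_left.2 P.r_odd)) h1 h2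

theorem not_fixed_of_fpf {d : ↥DD} {lam : P.R → ℂ} (hlam : IsIrrCharacter P.R lam) (hne : lam ≠ 1)
    (hfpf : ∀ y ∈ Q, ∀ x : P.R, ((x : Q) : G) = y → (d : G) * y = y * d → x = 1) :
    lam ∘ C.cjR P (C.dq d) ≠ lam := fun e => hne (fixed_trivial (C.autR P (C.dq d))
  (fun x hx => hfpf _ (x : Q).2 x rfl ((C.R_commute_iff P).1 hx)) hlam e)

/-- A non-identity element of a stabiliser fixes exactly one involution. -/
theorem one_fix (hIH : Below.{u, v} (Nat.card G)) {lam : P.R → ℂ} (hlam : IsIrrCharacter P.R lam)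
    (hne : lam ≠ 1) : ∀ d ∈ C.tt P lam, d ≠ 1 → ∃! s, s ∈ II ∧ s * d = d * s := by
  intro d hd hd1
  have hdD := C.tt_le P lam hd
  have hfix := (C.mem_tt P (d := ⟨d, hdD⟩)).1 hd
  by_cases hex : ∃ s ∈ II, s * d = d * s
  · obtain ⟨s, hs, hsd⟩ := hex
    refine ⟨s, ⟨hs, hsd⟩, fun s' ⟨hs', hsd'⟩ => ?_⟩
    by_contra hss
    refine C.not_fixed_of_fpf P (d := ⟨d, hdD⟩) hlam hne ?_ hfix
    intro y hy x hx hc
    obtain ⟨k, hk⟩ := C.cent_two_power hIH hdD hd1 hs' hs hss hsd'.symm hsd.symm hy hc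
    exact C.eq_one_of_two_power P (k := k) (hx ▸ hk)
  · exfalso
    push Not at hex
    refine C.not_fixed_of_fpf P (d := ⟨d, hdD⟩) hlam hne ?_ hfix
    intro y hy x hx hc
    refine C.eq_one_of_two_power P (k := 0) ?_
    rw [pow_zero, pow_one, hx]
    exact C.eq_one_of_no_ii hdD hex hy hc

theorem tt_cases (hIH : Below.{u, v} (Nat.card G)) {lam : P.R → ℂ} (hlam : IsIrrCharacter P.R lam)
    (hne : lam ≠ 1) : C.tt P lam = ⊥ ∨ ∃ n, n.Prime ∧ 3 ≤ n ∧ C.qq = 2 ^ n ∧
      Nat.card (C.tt P lam) = n ∧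
      ∃ s ∈ II, ∀ d ∈ C.tt P lam, d ≠ 1 → ∀ z ∈ II, (z * d = d * z ↔ z = s) :=
  (eq_or_ne _ ⊥).imp id fun h => C.stab_structure (C.tt_le P lam) h (C.one_fix P hIH hlam hne)

/-- No character of the odd part is conjugate to its complex conjugate. -/
theorem conj_ne {lam : P.R → ℂ} (hlam : IsIrrCharacter P.R lam) (hne : lam ≠ 1) (d : ↥DD) :
    lam ∘ C.cjR P (C.dq d) ≠ fun x => conj (lam x) := by
  intro e
  have h2 : d * d ∈ C.stabR P lam := fun x => by
    rw [C.cjR_mul]
    have h1 := congrFun e (C.cjR P (C.dq d) x)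
    simp only [Function.comp_apply] at h1
    have h3 := congrFun e x
    simp only [Function.comp_apply] at h3
    rw [h1, h3, Complex.conj_conj]
  have hd : d ∈ C.stabR P lam := by
    obtain ⟨m, hm, -⟩ := Setup.exists_pow_sq C.setup d.2
    rw [show d = (d * d) ^ m from Subtype.ext (by simpa using hm)]
    exact pow_mem h2 m
  refine hne (CharApp.real_irr_of_odd (by rw [P.card_R]; exact P.r_odd) hlam fun x => ?_)
  have h := congrFun e x
  rw [Function.comp_apply, hd x] at h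
  exact Complex.conj_eq_iff_im.1 h.symm

theorem kk_fpf_R {k : ↥DD} (hk : (k : G) ∈ C.kk) (hk1 : (k : G) ≠ 1) {x : P.R}
    (hx : C.cjR P (C.dq k) x = x) : x = 1 :=
  Subtype.ext (Subtype.ext (C.kk_fpf hk hk1 (x : Q).2 ((C.R_commute_iff P).1 hx)))

theorem two_qq_le_r (hr : P.r ≠ 1) : 2 * (C.qq - 1) + 1 ≤ P.r := by
  classical
  obtain ⟨x, hx⟩ : ∃ x : P.R, x ≠ 1 := by
    haveI : Nontrivial P.R := Finite.one_lt_card_iff_nontrivial.1 (by
      have := P.r_odd.pos; rw [P.card_R]; omega)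
    exact exists_ne 1
  let kd : C.kk → ↥DD := fun k => ⟨k, C.kk_le k.2⟩
  let f : Option (Bool × C.kk) → P.R := fun o => o.elim 1
    fun p => C.cjR P (C.dq (kd p.2)) (if p.1 then x else x⁻¹)
  have hb : ∀ b : Bool, (if b then x else x⁻¹) ≠ 1 := fun b => by cases b <;> simp [hx]
  have hf : Function.Injective f := by
    rintro (_ | ⟨b, k⟩) (_ | ⟨b', k'⟩) e
    · rfl
    · exact absurd ((C.cjR_bijective P _).1 (e.symm.trans (map_one _).symm)) (hb b')
    · exact absurd ((C.cjR_bijective P _).1 (e.trans (map_one _).symm)) (hb b)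
    · have e1 : C.cjR P (C.dq (kd k)) (if b then x else x⁻¹) =
          C.cjR P (C.dq (kd k')) (if b' then x else x⁻¹) := e
      set u := k * k'⁻¹ with hu
      have e2 : C.cjR P (C.dq (kd u)) (if b then x else x⁻¹) = if b' then x else x⁻¹ := by
        rw [show kd u = kd k * (kd k')⁻¹ from Subtype.ext rfl, C.cjR_mul, e1, ← C.cjR_mul,
          mul_inv_cancel]
        exact C.cjR_one P _
      have h2 : C.cjR P (C.dq (kd (u * u))) (if b then x else x⁻¹) = if b then x else x⁻¹ := by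
        rw [show kd (u * u) = kd u * kd u from Subtype.ext rfl, C.cjR_mul, e2]
        by_cases hbb : b' = b
        · rw [hbb] at e2 ⊢; exact e2
        · have : (if b' then x else x⁻¹) = (if b then x else x⁻¹)⁻¹ := by
            cases b <;> cases b' <;> simp at hbb ⊢
          rw [this, map_inv, e2, this, inv_inv]
      have hu1 : u = 1 := by
        by_contra hne
        refine hb b (C.kk_fpf_R P (k := kd (u * u)) (u * u).2 (fun e3 => hne (Subtype.ext ?_)) h2)
        exact Setup.dd_eq_one C.setup (C.kk_le u.2) e3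
      rw [hu1, show kd 1 = 1 from rfl] at e2
      have e3 : (if b then x else x⁻¹) = if b' then x else x⁻¹ := (C.cjR_one P _).symm.trans e2
      have hk : k = k' := mul_inv_eq_one.1 (hu ▸ hu1)
      subst hk
      suffices b = b' by rw [this]
      by_contra hbb
      have h4 : ((x : Q) : G) ^ 2 ^ 1 = 1 := by
        have h5 : x * x = 1 := by
          cases b <;> cases b' <;> simp at hbb e3
          · conv_lhs => lhs; rw [← e3]
            exact inv_mul_cancel x
          · conv_lhs => lhs; rw [e3]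
            exact inv_mul_cancel x
        rw [pow_one, pow_two]
        exact congrArg (fun w : P.R => ((w : Q) : G)) h5
      exact hx (C.eq_one_of_two_power P h4)
  have h := Nat.card_le_card_of_injective f hf
  rw [Finite.card_option, Nat.card_prod, Nat.card_eq_fintype_card (α := Bool), Fintype.card_bool,
    P.card_R] at h
  have := C.card_kk
  omega

/-- The subgroup of `zS` moved by a stabiliser fixing a single involution. -/
theorem exists_moved {T : Subgroup G} {s d : G} (hs : s ∈ II) (hdT : d ∈ T) (hd : d ∈ DD)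
    (hone : ∀ z ∈ II, (z * d = d * z ↔ z = s)) :
    ∃ M : Subgroup P.S, M ≤ C.zS P ∧ M.index = 2 * (C.zS P).index ∧
      ∀ ψ : P.S → ℂ, IsIrrCharacter P.S ψ → ψ ∘ C.cjS P (C.dq ⟨d, hd⟩) = ψ → ∀ z ∈ M, ψ z = ψ 1 := by
  classical
  set δ := C.cjS P (C.dq ⟨d, hd⟩) with hδ
  have hδz : ∀ z : C.zS P, δ z ∈ C.zS P := fun z => by
    have h := (C.mem_zS P).1 z.2
    refine C.mem_zz_of (δ z : Q).2 ?_
    show (((δ z * δ z : P.S) : Q) : G) = 1
    rw [← map_mul,
      show (z : P.S) * z = 1 from Subtype.ext (Subtype.ext (C.zz_sq h)), map_one]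
    rfl
  let f : C.zS P →* P.S := MonoidHom.mk' (fun z => (z : P.S)⁻¹ * δ z) fun z z' => by
    rw [Subgroup.coe_mul, map_mul, mul_inv_rev]
    have h1 := C.zS_central P _ (inv_mem z'.2) ((z : P.S)⁻¹ * δ z)
    calc (z' : P.S)⁻¹ * (z : P.S)⁻¹ * (δ z * δ z') = (z' : P.S)⁻¹ * ((z : P.S)⁻¹ * δ z) * δ z' := by group
      _ = (z : P.S)⁻¹ * δ z * ((z' : P.S)⁻¹ * δ z') := by rw [h1]; group
  let zs : C.zS P := C.zEquiv P ⟨s, C.ii_zz hs⟩
  have hker : ∀ z : C.zS P, z ∈ f.ker ↔ z = 1 ∨ z = zs := by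
    intro z
    rw [MonoidHom.mem_ker]
    show (z : P.S)⁻¹ * δ z = 1 ↔ _
    rw [inv_mul_eq_one, eq_comm]
    have hiff : δ z = (z : P.S) ↔ (((z : P.S) : Q) : G) * d = d * (((z : P.S) : Q) : G) := by
      rw [Subtype.ext_iff, hδ, C.cjS_coe, Subtype.ext_iff, cjQ_apply, mul_assoc, inv_mul_eq_iff_eq_mul]
    rw [hiff]
    rcases C.mem_zz_iff.1 ((C.mem_zS P).1 z.2) with h | h
    · refine iff_of_true (by rw [h]; simp) (Or.inl (Subtype.ext (Subtype.ext (Subtype.ext h))))
    · rw [hone _ h]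
      constructor
      · intro e; exact Or.inr (Subtype.ext (Subtype.ext (Subtype.ext e)))
      · rintro (e | e)
        · exact absurd (congrArg (fun w : C.zS P => (((w : P.S) : Q) : G)) e) h.2.1
        · exact congrArg (fun w : C.zS P => (((w : P.S) : Q) : G)) e
  have hk2 : Nat.card f.ker = 2 := by
    rw [Nat.card_eq_two_iff]
    refine ⟨⟨1, one_mem _⟩, ⟨zs, (hker _).2 (Or.inr rfl)⟩, fun e => hs.2.1 ?_, ?_⟩
    · exact (congrArg (fun w : f.ker => ((((w : C.zS P) : P.S) : Q) : G)) e).symm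
    · refine Set.eq_univ_of_forall fun z => ?_
      rcases (hker _).1 z.2 with e | e
      · exact Or.inl (Subtype.ext e)
      · exact Or.inr (Subtype.ext e)
  refine ⟨f.range, ?_, ?_, ?_⟩
  · rintro _ ⟨z, rfl⟩
    exact mul_mem (inv_mem z.2) (hδz z)
  · have h1 : Nat.card f.ker * Nat.card f.range = Nat.card (C.zS P) := by
      rw [← Subgroup.index_ker, Subgroup.card_mul_index]
    rw [hk2] at h1
    have h2 := Subgroup.card_mul_index f.range
    rw [← Subgroup.card_mul_index (C.zS P), ← h1] at h2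
    have h3 : 0 < Nat.card f.range := Nat.card_pos
    exact Nat.eq_of_mul_eq_mul_left h3 (h2.trans (by ring))
  · rintro ψ hψ hfix _ ⟨z, rfl⟩
    obtain ⟨ω, hω⟩ := exists_central_hom hψ (C.zS P) (C.zS_central P)
    have hval : ∀ u : C.zS P, ψ (u : P.S) = (ω u : ℂ) * ψ 1 := fun u => by rw [← hω, mul_one]
    have e : ω ⟨δ z, hδz z⟩ = ω z := Units.ext (mul_right_cancel₀ (Char.IsIrrCharacter.apply_one_ne_zero hψ)
      (by rw [← hval, ← hval]; exact congrFun hfix (z : P.S)))
    show ψ ((z : P.S)⁻¹ * δ z) = ψ 1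
    have h := hval (z⁻¹ * ⟨δ z, hδz z⟩)
    rw [map_mul, map_inv, e, inv_mul_cancel, Units.val_one, one_mul] at h
    exact h

end Ctx

end Cfsg.Agent.SuzukiRankOne.Kernel
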