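import Cfsg.Agent.Lib.SuzukiRankOne.Kernel.Induce

/-!
Twisted functions and orthogonality of induced functions with separated constituents on `Q`.

* `tw` : the conjugate of a function on a subgroup, cut down to another subgroup
* `tw_inner_zero` : characters with non-conjugate irreducible restrictions to `Q`
* `Adm`, `adm_orth`
-/

set_option autoImplicit false
set_option linter.unusedSectionVars false

namespace Cfsg.Agent.SuzukiRankOne.Kernel

open MulAction Cfsg Cfsg.Agent Cfsg.Agent.RankOne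
open scoped ComplexConjugate

section general

variable {X Y : Type*} [Group X] [Finite X] [Group Y] [Finite Y]

/-- A character with irreducible pullback is irreducible. -/
theorem isIrr_of_comp_hom (φ : Y →* X) {θ : X → ℂ} (hθ : IsCharacter X θ)
    (hirr : IsIrrCharacter Y (fun y => θ (φ y))) : IsIrrCharacter X θ := by
  classical
  haveI := Fintype.ofFinite Y
  suffices h : (IsIrrCharacter Y (fun y => θ (φ y)) → IsIrrCharacter X θ) ∧ (θ 1 = 0 → θ = 0) from h.1 hirr
  refine Char.isCharacter_induction (G := X)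
    (P := fun θ => (IsIrrCharacter Y (fun y => θ (φ y)) → IsIrrCharacter X θ) ∧ (θ 1 = 0 → θ = 0))
    ⟨fun h => absurd rfl (Char.IsIrrCharacter.ne_zero h), fun _ => rfl⟩ ?_ hθ
  intro χ ψ hχ hψ ih
  obtain ⟨n, hn⟩ := Char.IsCharacter.exists_degree hψ
  obtain ⟨m, hm⟩ := Char.IsCharacter.exists_degree (Char.IsIrrCharacter.isCharacter hχ)
  have hm0 : m ≠ 0 := fun e => Char.IsIrrCharacter.apply_one_ne_zero hχ (by rw [hm, e, Nat.cast_zero])
  constructor
  · intro hi
    suffices hψ0 : ψ = 0 by rw [hψ0, add_zero]; exact hχ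
    refine ih.2 ?_
    set a : Y → ℂ := fun y => χ (φ y)
    set b : Y → ℂ := fun y => ψ (φ y)
    have ha : IsCharacter Y a := Char.IsCharacter.comp_hom (Char.IsIrrCharacter.isCharacter hχ) φ
    have hb : IsCharacter Y b := Char.IsCharacter.comp_hom hψ φ
    have h1 : classInner (a + b) (a + b) = 1 := Char.classInner_irr_self hi
    obtain ⟨p1, e1⟩ := Char.IsCharacter.classInner_nat ha ha
    obtain ⟨p2, e2⟩ := Char.IsCharacter.classInner_nat ha hb
    obtain ⟨p3, e3⟩ := Char.IsCharacter.classInner_nat hb ha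
    obtain ⟨p4, e4⟩ := Char.IsCharacter.classInner_nat hb hb
    simp only [Char.classInner_add_left, Char.classInner_add_right, e1, e2, e3, e4] at h1
    have hnat : p1 + p3 + (p2 + p4) = 1 := by exact_mod_cast h1
    have hp1 : p1 ≠ 0 := fun e => by
      have := congrFun (Char.classInner_self_eq_zero.1 (by rw [e1, e, Nat.cast_zero] : classInner a a = 0)) 1
      simp only [a, map_one, Pi.zero_apply] at this
      exact Char.IsIrrCharacter.apply_one_ne_zero hχ this
    have hb0 := congrFun (Char.classInner_self_eq_zero.1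
      (by rw [e4, show p4 = 0 by omega, Nat.cast_zero] : classInner b b = 0)) 1
    simpa [b] using hb0
  · intro h
    exfalso
    rw [Pi.add_apply, hm, hn, ← Nat.cast_add, Nat.cast_eq_zero] at h
    omega

end general

variable {G Ω : Type*} [Group G] [Fintype G] [MulAction G Ω] {a : Ω} {t : G} {Q : Subgroup G}

local notation "DD" => (stabilizer G a ⊓ stabilizer G (t • a) : Subgroup G)

/-- The restriction to `Q`. -/
def resQ {H : Subgroup G} (hQ : Q ≤ H) (ξ : H → ℂ) : Q → ℂ := fun x => ξ ⟨x, hQ x.2⟩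

/-- The conjugate by `d` of a function on `H'`, as a function on `H`. -/
noncomputable def tw (H : Subgroup G) {H' : Subgroup G} (g : H' → ℂ) (d : G) : H → ℂ :=
  fun x => extendByZero H' g (d⁻¹ * (x : G) * d)

theorem tw_add {H H' : Subgroup G} (g g' : H' → ℂ) (d : G) :
    tw H (g + g') d = tw H g d + tw H g' d := by
  funext x; simp [tw, Char.extendByZero_add]

theorem tw_smul {H H' : Subgroup G} (c : ℂ) (g : H' → ℂ) (d : G) :
    tw H (c • g) d = c • tw H g d := by
  funext x; simp [tw, Char.extendByZero_smul]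

theorem tw_zero {H H' : Subgroup G} (d : G) : tw H (0 : H' → ℂ) d = 0 := by
  have := tw_smul (H := H) (0 : ℂ) (0 : H' → ℂ) d
  simpa using this

theorem tw_sub {H H' : Subgroup G} (g g' : H' → ℂ) (d : G) :
    tw H (g - g') d = tw H g d - tw H g' d := by
  rw [eq_sub_iff_add_eq, ← tw_add, sub_add_cancel]

theorem tw_self {H : Subgroup G} {g : H → ℂ} (hg : IsClassFunction H g) {d : G} (hd : d ∈ H) :
    tw H g d = g := by
  funext x
  have h := ext_conj hg (inv_mem hd) (x : G)
  rw [inv_inv] at h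
  rw [tw, h, Char.extendByZero_coe]

namespace Ctx

variable (C : Ctx G Ω a t Q)
include C

/-- Conjugation by an element of `G_a` on `Q`. -/
def cjQ (d : stabilizer G a) : Q →* Q where
  toFun x := ⟨(d : G)⁻¹ * x * d, Setup.conj_mem_inv C.setup d.2 x.2⟩
  map_one' := Subtype.ext (by simp)
  map_mul' x y := Subtype.ext (show (d : G)⁻¹ * ((x : G) * y) * d =
    (d : G)⁻¹ * x * d * ((d : G)⁻¹ * y * d) by group)

theorem cjQ_bijective (d : stabilizer G a) : Function.Bijective (C.cjQ d) := by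
  refine Finite.injective_iff_bijective.1 fun x y e => Subtype.ext ?_
  exact mul_left_cancel (mul_right_cancel (congrArg Subtype.val e))

/-- An element of `D` as an element of `G_a`. -/
abbrev dq (_C : Ctx G Ω a t Q) (d : ↥DD) : stabilizer G a := ⟨d, d.2.1⟩

theorem tw_coe {H' : Subgroup G} (hQ' : Q ≤ H') (g : H' → ℂ) (d : ↥DD) (x : Q) :
    tw Q g (d : G) x = resQ hQ' g (C.cjQ (C.dq d) x) := by
  show extendByZero H' g ((d : G)⁻¹ * x * d) = g _
  rw [show (d : G)⁻¹ * x * d =
    ((⟨(C.cjQ (C.dq d) x : Q), hQ' (C.cjQ (C.dq d) x).2⟩ : H') : G) from rfl, Char.extendByZero_coe]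

theorem isIrr_twist {θ : Q → ℂ} (hθ : IsIrrCharacter Q θ) (d : stabilizer G a) :
    IsIrrCharacter Q (θ ∘ C.cjQ d) :=
  Char.IsIrrCharacter.comp_equiv hθ (MulEquiv.ofBijective (C.cjQ d) (C.cjQ_bijective d))

/-- Characters with non-conjugate irreducible restrictions to `Q` are orthogonal. -/
theorem tw_inner_zero {H H' : Subgroup G} [Fintype H] (hQ : Q ≤ H) (hQ' : Q ≤ H') {ξ : H → ℂ}
    {ξ' : H' → ℂ} (hξ : IsIrrCharacter H ξ) (hξ' : IsIrrCharacter H' ξ')
    (hr : IsIrrCharacter Q (resQ hQ ξ)) (hr' : IsIrrCharacter Q (resQ hQ' ξ')) {d : ↥DD}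
    (hne : resQ hQ' ξ' ∘ C.cjQ (C.dq d) ≠ resQ hQ ξ) : classInner ξ (tw H ξ' (d : G)) = 0 := by
  classical
  let M : Subgroup H := (H'.comap (MulAut.conj (d : G)⁻¹).toMonoidHom).subgroupOf H
  have hM : ∀ x : H, x ∈ M ↔ (d : G)⁻¹ * x * d ∈ H' := fun x => by
    simp [M, Subgroup.mem_subgroupOf]
  haveI : Fintype M := Fintype.ofFinite _
  let ι : M →* H' :=
    { toFun := fun x => ⟨(d : G)⁻¹ * (x : H) * d, (hM x).1 x.2⟩
      map_one' := Subtype.ext (by simp)
      map_mul' := fun x y => Subtype.ext (show (d : G)⁻¹ * (((x : H) : G) * (y : H)) * d =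
        (d : G)⁻¹ * (x : H) * d * ((d : G)⁻¹ * (y : H) * d) by group) }
  have hsum : classInner ξ (tw H ξ' (d : G)) = (Nat.card M : ℂ) / Nat.card H *
      classInner (fun x : M => ξ (x : H)) (fun x : M => ξ' (ι x)) := by
    simp only [classInner]
    rw [← mul_assoc, div_mul_eq_mul_div, mul_inv_cancel₀ (Nat.cast_ne_zero.2 Nat.card_pos.ne'),
      one_div]
    congr 1
    rw [← Finset.sum_subtype (Finset.univ.filter fun x : H => x ∈ M) (by simp)
      (fun x : H => ξ x * conj (tw H ξ' (d : G) x)) |>.trans (Finset.sum_congr rfl fun x _ => ?_),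
      Finset.sum_filter]
    · refine Finset.sum_congr rfl fun x _ => ?_
      by_cases hx : x ∈ M
      · rw [if_pos hx]
      · rw [if_neg hx, tw, Char.extendByZero_not_mem _ _ fun h => hx ((hM x).2 h)]
        simp
    · rw [tw, show (d : G)⁻¹ * (x : H) * d = ((ι x : H') : G) from rfl, Char.extendByZero_coe]
  let j : Q →* M :=
    { toFun := fun x => ⟨⟨x, hQ x.2⟩, (hM _).2 (hQ' (C.cjQ (C.dq d) x).2)⟩
      map_one' := rfl
      map_mul' := fun _ _ => rfl }
  have h1 : IsIrrCharacter M (fun x : M => ξ (x : H)) :=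
    isIrr_of_comp_hom j (Char.IsCharacter.restrict (Char.IsIrrCharacter.isCharacter hξ) M) hr
  have h2 : IsIrrCharacter M (fun x : M => ξ' (ι x)) :=
    isIrr_of_comp_hom j (Char.IsCharacter.comp_hom (Char.IsIrrCharacter.isCharacter hξ') ι)
      (C.isIrr_twist hr' (C.dq d))
  rw [hsum, Char.classInner_irr_of_ne h1 h2, mul_zero]
  intro e
  exact hne (funext fun x => (congrFun e (j x)).symm)

theorem tw_inner_Q [Fintype Q] {θ : Q → ℂ} {H' : Subgroup G} (hQ' : Q ≤ H') (ξ' : H' → ℂ) (d : ↥DD) :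
    classInner θ (tw Q ξ' (d : G)) = classInner θ (resQ hQ' ξ' ∘ C.cjQ (C.dq d)) := by
  congr 1
  funext x
  exact C.tw_coe hQ' ξ' d x

theorem supp_Q {f : Q → ℂ} (hf : IsClassFunction Q f) (h1 : f 1 = 0) : Supp a Q f :=
  ⟨hf, fun x b hb hxb => by rw [show x = 1 from Subtype.ext (Setup.eq_one_of_fix C.setup x.2 hb hxb), h1]⟩

/-- `F` is induced from a combination of characters whose restrictions to `Q` satisfy `P`. -/
def Adm (_C : Ctx G Ω a t Q) (P : (Q → ℂ) → Prop) (F : G → ℂ) : Prop :=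
  ∃ (H : Subgroup G) (f : H → ℂ) (hQ : Q ≤ H), H ≤ stabilizer G a ∧ Supp a H f ∧
    IsGeneralizedCharacter G F ∧ F = indFun H f ∧
    f ∈ Submodule.span ℂ {ξ : H → ℂ | IsIrrCharacter H ξ ∧ IsIrrCharacter Q (resQ hQ ξ) ∧ P (resQ hQ ξ)}

theorem adm_gc {P : (Q → ℂ) → Prop} {F : G → ℂ} (h : C.Adm P F) : IsGeneralizedCharacter G F := by
  obtain ⟨H, f, hQ, -, -, h, -⟩ := h
  exact h

theorem adm_mono {P P' : (Q → ℂ) → Prop} (hPP : ∀ θ, P θ → P' θ) {F : G → ℂ} (h : C.Adm P F) :
    C.Adm P' F := by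
  obtain ⟨H, f, hQ, h1, h2, h3, h4, h5⟩ := h
  exact ⟨H, f, hQ, h1, h2, h3, h4, Submodule.span_mono (fun ξ hξ => by
    exact ⟨hξ.1, hξ.2.1, hPP _ hξ.2.2⟩) h5⟩

/-- Separated induced functions are orthogonal. -/
theorem adm_orth {P P' : (Q → ℂ) → Prop}
    (hsep : ∀ θ θ', P θ → P' θ' → ∀ d : ↥DD, θ' ∘ C.cjQ (C.dq d) ≠ θ) {F F' : G → ℂ}
    (hF : C.Adm P F) (hF' : C.Adm P' F') : classInner F F' = 0 := by
  classical
  obtain ⟨H, f, hQ, -, hf, -, rfl, hfs⟩ := hF
  obtain ⟨H', f', hQ', hH', hf', -, rfl, hfs'⟩ := hF'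
  haveI : Fintype H := Fintype.ofFinite _
  haveI : Fintype ↥DD := Fintype.ofFinite _
  rw [C.inner_ind hQ' hH' hf hf'.1, Finset.sum_eq_zero fun d _ => ?_, mul_zero]
  show classInner f (tw H f' (d : G)) = 0
  clear hf hf'
  induction hfs using Submodule.span_induction with
  | zero => simp [classInner]
  | add x y _ _ hx hy => rw [Char.classInner_add_left, hx, hy, add_zero]
  | smul c x _ hx => rw [Char.classInner_smul_left, hx, mul_zero]
  | mem ξ hξ =>
    induction hfs' using Submodule.span_induction with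
    | zero => rw [tw_zero]; simp [classInner]
    | add x y _ _ hx hy => rw [tw_add, Char.classInner_add_right, hx, hy, add_zero]
    | smul c x _ hx => rw [tw_smul, Char.classInner_smul_right, hx, mul_zero]
    | mem ξ' hξ' =>
      exact C.tw_inner_zero hQ hQ' hξ.1 hξ'.1 hξ.2.1 hξ'.2.1 (hsep _ _ hξ.2.2 hξ'.2.2 d)

end Ctx

end Cfsg.Agent.SuzukiRankOne.Kernel
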